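import Mathlib
import Cfsg.Agent.Lib.Char.Integral
import Cfsg.Agent.Lib.Char.Complete

/-! Class multiplication coefficients. -/

namespace CfsgLib.CharDeep.ClassSum

open scoped ComplexConjugate
open CfsgLib

variable {G : Type*} [Group G] [Fintype G]

/-- The sum of an irreducible character over products of two classes. -/
theorem sum_char_mul (χ : Cfsg.IrrCharacter G) (a b : G) [DecidablePred (IsConj a)]
    [DecidablePred (IsConj b)] :
    ∑ x ∈ Finset.univ.filter (IsConj a), ∑ y ∈ Finset.univ.filter (IsConj b), (χ : G → ℂ) (x * y) =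
      ((Finset.univ.filter (IsConj a)).card : ℂ) * ((Finset.univ.filter (IsConj b)).card : ℂ) *
        ((χ : G → ℂ) a * (χ : G → ℂ) b / (χ : G → ℂ) 1) := by
  obtain ⟨_, d, ρ, hρ, rfl⟩ := χ
  have hd : (d : ℂ) ≠ 0 := by
    have := Char.finrank_pos_of_irreducible ρ
    rw [Module.finrank_fin_fun] at this
    exact Nat.cast_ne_zero.2 this.ne'
  have hs : ∀ (a : G) [DecidablePred (IsConj a)], ∃ c : ℂ,
      ∑ x ∈ Finset.univ.filter (IsConj a), ρ x = c • 1 ∧
      c * d = ((Finset.univ.filter (IsConj a)).card : ℂ) * ρ.character a := by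
    intro a _
    obtain ⟨c, hc, hcd⟩ := Char.exists_scalar_sum_smul ρ (fun x => if IsConj a x then (1 : ℂ) else 0)
      (fun g h => if_congr ⟨fun e => e.trans (isConj_iff.2 ⟨h, rfl⟩).symm,
        fun e => e.trans (isConj_iff.2 ⟨h, rfl⟩)⟩ rfl rfl)
    refine ⟨c, ?_, ?_⟩
    · rw [← hc, Finset.sum_filter]
      exact Finset.sum_congr rfl fun x _ => by split_ifs <;> simp
    · rw [Module.finrank_fin_fun] at hcd
      rw [hcd, ← nsmul_eq_mul, ← Finset.sum_const, Finset.sum_filter]
      refine Finset.sum_congr rfl fun x _ => ?_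
      split_ifs with h
      · rw [one_mul]
        exact (Char.IsClassFunction.eq_of_isConj (fun a b => ρ.char_conj a b) h).symm
      · rw [zero_mul]
  obtain ⟨c, hc, hcd⟩ := hs a
  obtain ⟨c', hc', hcd'⟩ := hs b
  show ∑ x ∈ Finset.univ.filter (IsConj a), ∑ y ∈ Finset.univ.filter (IsConj b), ρ.character (x * y) =
    _ * (ρ.character a * ρ.character b / ρ.character 1)
  have h2 : ∑ x ∈ Finset.univ.filter (IsConj a), ∑ y ∈ Finset.univ.filter (IsConj b),
      ρ.character (x * y) = c * c' * d := by
    simp only [Representation.character, map_mul, ← map_sum, ← Finset.mul_sum, ← Finset.sum_mul, hc, hc']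
    rw [smul_mul_smul_comm, mul_one, map_smul, LinearMap.trace_one, Module.finrank_fin_fun, smul_eq_mul]
  rw [h2, ρ.char_one, Module.finrank_fin_fun, mul_div_assoc', eq_div_iff hd]
  linear_combination (c' * (d : ℂ)) * hcd +
    ((Finset.univ.filter (IsConj a)).card : ℂ) * ρ.character a * hcd'

/-- The class multiplication coefficient. -/
theorem card_pairs (a b c : G) [DecidablePred (IsConj a)] [DecidablePred (IsConj b)] [DecidableEq G] :
    (((Finset.univ.filter (IsConj a) ×ˢ Finset.univ.filter (IsConj b)).filter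
        (fun p => p.1 * p.2 = c)).card : ℂ) =
      ((Finset.univ.filter (IsConj a)).card : ℂ) * ((Finset.univ.filter (IsConj b)).card : ℂ) /
        (Nat.card G : ℂ) *
        ∑ χ : Cfsg.IrrCharacter G,
          (χ : G → ℂ) a * (χ : G → ℂ) b * conj ((χ : G → ℂ) c) / (χ : G → ℂ) 1 := by
  classical
  set A := Finset.univ.filter (IsConj a)
  set B := Finset.univ.filter (IsConj b)
  set N := fun g => ((A ×ˢ B).filter (fun p => p.1 * p.2 = g)).card with hN
  have hNc : ∀ g, IsConj c g → N g = N c := by
    intro g hg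
    obtain ⟨u, rfl⟩ := isConj_iff.1 hg
    refine (Finset.card_equiv ((MulAut.conj u).toEquiv.prodCongr (MulAut.conj u).toEquiv) ?_).symm
    rintro ⟨x, y⟩
    have hAB : ∀ (a x : G), IsConj a x ↔ IsConj a (u * x * u⁻¹) := fun a x =>
      ⟨fun e => e.trans (isConj_iff.2 ⟨u, rfl⟩), fun e => e.trans (isConj_iff.2 ⟨u, rfl⟩).symm⟩
    simp only [A, B, Finset.mem_filter, Finset.mem_product, Finset.mem_univ, true_and,
      Equiv.prodCongr_apply, Prod.map_apply, MulEquiv.toEquiv_eq_coe, EquivLike.coe_coe,
      MulAut.conj_apply, ← hAB]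
    refine and_congr_right fun _ => ⟨fun e => by rw [← e]; group, fun e => ?_⟩
    apply mul_left_cancel (a := u)
    apply mul_right_cancel (b := u⁻¹)
    rw [← e]; group
  have key : ∑ χ : Cfsg.IrrCharacter G,
      (∑ x ∈ A, ∑ y ∈ B, (χ : G → ℂ) (x * y)) * conj ((χ : G → ℂ) c) =
      (N c : ℂ) * (Nat.card G : ℂ) := by
    simp only [Finset.sum_mul]
    rw [Finset.sum_comm]
    simp only [Finset.sum_comm (s := (Finset.univ : Finset (Cfsg.IrrCharacter G))), Char.sum_mul_conj]
    have h1 : ∀ x y : G, (if IsConj (x * y) c then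
        (Nat.card (Subgroup.centralizer ({x * y} : Set G)) : ℂ) else 0) =
        if IsConj c (x * y) then (Nat.card (Subgroup.centralizer ({c} : Set G)) : ℂ) else 0 := by
      intro x y
      by_cases h : IsConj c (x * y)
      · rw [if_pos h, if_pos h.symm]
        have e : Nat.card {z : G // IsConj c z} = Nat.card {z : G // IsConj (x * y) z} :=
          Nat.card_congr (Equiv.subtypeEquivRight fun z => ⟨fun e => h.symm.trans e, fun e => h.trans e⟩)
        have h1 := Char.card_isConj_mul_card_centralizer c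
        have h2 := Char.card_isConj_mul_card_centralizer (x * y)
        rw [e, ← h2] at h1
        have hpos : 0 < Nat.card {z : G // IsConj (x * y) z} := by
          have : Nonempty {z : G // IsConj (x * y) z} := ⟨⟨_, IsConj.refl _⟩⟩
          exact Nat.card_pos
        rw [Nat.eq_of_mul_eq_mul_left hpos h1]
      · rw [if_neg h, if_neg fun e => h e.symm]
    simp only [h1]
    rw [← Finset.sum_product', ← Finset.sum_filter, Finset.sum_const, nsmul_eq_mul]
    have h3 : ((A ×ˢ B).filter fun p => IsConj c (p.1 * p.2)).card =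
        (Finset.univ.filter (IsConj c)).card * N c := by
      rw [Finset.card_eq_sum_card_fiberwise (f := fun p : G × G => p.1 * p.2) (t := Finset.univ.filter (IsConj c))
        (fun p hp => Finset.mem_filter.2 ⟨Finset.mem_univ _, (Finset.mem_filter.1 hp).2⟩)]
      rw [← smul_eq_mul, ← Finset.sum_const]
      refine Finset.sum_congr rfl fun g hg => ?_
      rw [← hNc g (Finset.mem_filter.1 hg).2, Finset.filter_filter]
      refine congrArg Finset.card (Finset.filter_congr fun p _ => ?_)
      exact ⟨fun e => e.2, fun e => ⟨by show IsConj c (p.1 * p.2); rw [e]; exact (Finset.mem_filter.1 hg).2, e⟩⟩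
    rw [h3, ← Char.card_isConj_mul_card_centralizer c, Nat.card_eq_fintype_card (α := {x : G // IsConj c x}),
      Fintype.card_subtype]
    push_cast
    ring
  have hG : (Nat.card G : ℂ) ≠ 0 := Nat.cast_ne_zero.2 Nat.card_pos.ne'
  show (N c : ℂ) = _
  rw [div_mul_eq_mul_div, eq_div_iff hG, ← key, Finset.mul_sum]
  refine Finset.sum_congr rfl fun χ _ => ?_
  rw [sum_char_mul χ a b]
  ring

end CfsgLib.CharDeep.ClassSum
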