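import Mathlib
import Cfsg.Agent.Lib.Char.Complete
import Cfsg.Agent.Lib.Char.Induced
import Cfsg.Agent.Lib.Char.InertiaNorm
import Cfsg.Agent.Lib.Char.Linear

/-! Clifford theory for a normal subgroup. -/

namespace CfsgLib.CharDeep.Cliff

open scoped ComplexConjugate
open CfsgLib

variable {G : Type*} [Group G] [Fintype G]

/-- The multiplicity of an irreducible function in a character, as a natural number. -/
noncomputable def mult (χ ψ : G → ℂ) : ℕ := ⌊(Cfsg.classInner χ ψ).re⌋₊

theorem classInner_eq_mult {χ ψ : G → ℂ} (hχ : Cfsg.IsCharacter G χ)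
    (hψ : Cfsg.IsCharacter G ψ) : Cfsg.classInner χ ψ = (mult χ ψ : ℂ) := by
  obtain ⟨n, hn⟩ := Char.IsCharacter.exists_nat_classInner' hχ hψ
  simp [mult, hn]

theorem classInner_comm_char {χ ψ : G → ℂ} (hχ : Cfsg.IsCharacter G χ)
    (hψ : Cfsg.IsCharacter G ψ) : Cfsg.classInner χ ψ = Cfsg.classInner ψ χ := by
  obtain ⟨n, hn⟩ := Char.IsCharacter.exists_nat_classInner' hψ hχ
  rw [← Char.classInner_conj_symm ψ χ, hn, map_natCast]

theorem isCharacter_irr {χ : G → ℂ} (h : Cfsg.IsIrrCharacter G χ) : Cfsg.IsCharacter G χ :=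
  Char.IsIrrCharacter.isCharacter h

theorem isCharacter_smul {χ : G → ℂ} (h : Cfsg.IsCharacter G χ) (n : ℕ) :
    Cfsg.IsCharacter G ((n : ℂ) • χ) := by
  have := Char.IsCharacter.nsmul h n
  convert this using 1
  funext g
  simp

/-- A constituent of a character has no larger degree; equality only if it is the whole. -/
theorem degree_le_of_constituent {χ ψ : G → ℂ} (hχ : Cfsg.IsCharacter G χ)
    (hψ : Cfsg.IsIrrCharacter G ψ) (h : Cfsg.classInner χ ψ ≠ 0) :
    Char.degree ψ ≤ Char.degree χ ∧ (Char.degree χ ≤ Char.degree ψ → χ = ψ) := by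
  classical
  obtain ⟨m, hm⟩ := Char.IsCharacter.exists_nat_combination hχ
  have hψ0 : m ⟨ψ, hψ⟩ ≠ 0 := by
    intro h0
    apply h
    rw [hm, Char.classInner_sum_smul_irr (fun φ => (m φ : ℂ)) ⟨ψ, hψ⟩, h0, Nat.cast_zero]
  have hdeg : Char.degree χ = ∑ φ : Cfsg.IrrCharacter G, m φ * Char.degree (φ : G → ℂ) := by
    have h1 : χ 1 = ∑ φ : Cfsg.IrrCharacter G, (m φ : ℂ) * (φ : G → ℂ) 1 := by
      conv_lhs => rw [hm]
      simp
    simp only [← Char.IsCharacter.degree_cast hχ,
      ← Char.IsCharacter.degree_cast (isCharacter_irr (Subtype.prop _))] at h1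
    exact_mod_cast h1
  have hsplit : m ⟨ψ, hψ⟩ * Char.degree ψ + ∑ φ ∈ Finset.univ.erase (⟨ψ, hψ⟩ : Cfsg.IrrCharacter G),
      m φ * Char.degree (φ : G → ℂ) = Char.degree χ := by
    rw [hdeg]
    exact Finset.add_sum_erase Finset.univ
      (fun φ : Cfsg.IrrCharacter G => m φ * Char.degree (φ : G → ℂ)) (Finset.mem_univ _)
  have hge : Char.degree ψ ≤ m ⟨ψ, hψ⟩ * Char.degree ψ :=
    Nat.le_mul_of_pos_left _ (Nat.pos_of_ne_zero hψ0)
  refine ⟨by omega, fun hle => ?_⟩
  have hr : ∑ φ ∈ Finset.univ.erase (⟨ψ, hψ⟩ : Cfsg.IrrCharacter G),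
      m φ * Char.degree (φ : G → ℂ) = 0 := by omega
  have hm1 : m ⟨ψ, hψ⟩ = 1 :=
    Nat.eq_of_mul_eq_mul_right (Char.IsIrrCharacter.degree_pos hψ) (by omega)
  rw [hm, Finset.sum_eq_single (⟨ψ, hψ⟩ : Cfsg.IrrCharacter G) ?_ (by simp), hm1]
  · simp
  · intro φ _ hφ
    have h0 := (Finset.sum_eq_zero_iff.1 hr) φ (by simp [hφ])
    have := Char.IsIrrCharacter.degree_pos φ.2
    rw [Nat.mul_eq_zero] at h0
    rcases h0 with h0 | h0
    · simp [h0]
    · omega

/-- Two irreducible characters occurring in one character. -/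
theorem exists_constituent {χ : G → ℂ} (hχ : Cfsg.IsCharacter G χ) (η : G → ℂ)
    (h : Cfsg.classInner χ η ≠ 0) :
    ∃ ψ : Cfsg.IrrCharacter G, Cfsg.classInner χ ψ ≠ 0 ∧ Cfsg.classInner (ψ : G → ℂ) η ≠ 0 := by
  by_contra hcon
  push Not at hcon
  apply h
  rw [Char.IsCharacter.eq_sum_classInner hχ, Char.classInner_sum_left]
  refine Finset.sum_eq_zero fun ψ _ => ?_
  rw [Char.classInner_smul_left]
  by_cases h0 : Cfsg.classInner χ (ψ : G → ℂ) = 0
  · rw [h0, zero_mul]
  · rw [hcon ψ h0, mul_zero]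

theorem constituent_classInner_ne_zero {A B : G → ℂ} (hA : Cfsg.IsCharacter G A)
    (hB : Cfsg.IsCharacter G B) {ψ : G → ℂ} (hψ : Cfsg.IsIrrCharacter G ψ)
    (h1 : Cfsg.classInner A ψ ≠ 0) (h2 : Cfsg.classInner B ψ ≠ 0) :
    Cfsg.classInner A B ≠ 0 := by
  classical
  obtain ⟨m, hm⟩ := Char.IsCharacter.exists_nat_combination hA
  obtain ⟨k, hk⟩ := Char.IsCharacter.exists_nat_combination hB
  rw [hm, Char.classInner_sum_smul_irr (fun φ => (m φ : ℂ)) ⟨ψ, hψ⟩] at h1
  rw [hk, Char.classInner_sum_smul_irr (fun φ => (k φ : ℂ)) ⟨ψ, hψ⟩] at h2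
  rw [hm, hk, Char.classInner_sum_smul_sum_smul]
  simp only [map_natCast, ← Nat.cast_mul, ← Nat.cast_sum, Nat.cast_ne_zero]
  intro h0
  have := (Finset.sum_eq_zero_iff.1 h0) ⟨ψ, hψ⟩ (Finset.mem_univ _)
  simp only [mul_eq_zero] at this
  rcases this with h | h
  · exact h1 (by rw [h, Nat.cast_zero])
  · exact h2 (by rw [h, Nat.cast_zero])

variable (N : Subgroup G) [N.Normal] [Fintype N]

omit [Fintype N] in
theorem conjFun_res {χ : G → ℂ} (hχ : Cfsg.IsClassFunction G χ) (g : G) :
    CharTwist.conjFun N (fun n : N => χ n) g = fun n : N => χ n := by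
  funext n
  exact hχ n g

theorem classInner_conjFun (f f' : N → ℂ) (g : G) :
    Cfsg.classInner (CharTwist.conjFun N f g) (CharTwist.conjFun N f' g) =
      Cfsg.classInner f f' := by
  rw [CharTwist.conjFun_eq_comp, CharTwist.conjFun_eq_comp]
  unfold Cfsg.classInner
  congr 1
  exact Fintype.sum_equiv (MulAut.conjNormal (H := N) g).toEquiv _ _ fun n => rfl

theorem res_mult_conj {χ : G → ℂ} (hχ : Cfsg.IsClassFunction G χ) (θ : N → ℂ) (g : G) :
    Cfsg.classInner (fun n : N => χ n) (CharTwist.conjFun N θ g) =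
      Cfsg.classInner (fun n : N => χ n) θ := by
  conv_lhs => rw [← conjFun_res N hχ g]
  exact classInner_conjFun N _ _ g

/-- The irreducible constituents of a restriction are conjugate. -/
theorem exists_conj_eq {χ : G → ℂ} (hχ : Cfsg.IsIrrCharacter G χ) {θ φ : N → ℂ}
    (hθ : Cfsg.IsIrrCharacter N θ) (hφ : Cfsg.IsIrrCharacter N φ)
    (h1 : Cfsg.classInner (fun n : N => χ n) θ ≠ 0)
    (h2 : Cfsg.classInner (fun n : N => χ n) φ ≠ 0) : ∃ g, CharTwist.conjFun N θ g = φ := by
  have hcl := Char.IsIrrCharacter.isClassFunction hχ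
  have hi : ∀ {η : N → ℂ}, Cfsg.IsIrrCharacter N η →
      Cfsg.classInner (fun n : N => χ n) η ≠ 0 → Cfsg.classInner (Cfsg.indFun N η) χ ≠ 0 := by
    intro η hη h
    rw [Char.classInner_indFun N η χ hcl, ← classInner_comm_char
      (Char.IsCharacter.restrict (isCharacter_irr hχ) N) (isCharacter_irr hη)]
    exact h
  have hne := constituent_classInner_ne_zero (Char.IsCharacter.indFun N (isCharacter_irr hφ))
    (Char.IsCharacter.indFun N (isCharacter_irr hθ)) hχ (hi hφ h2) (hi hθ h1)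
  have hcard := CharTwist.card_mul_classInner_indFun N hφ hθ
  have : Nat.card {g : G // CharTwist.conjFun N θ g = φ} ≠ 0 := by
    intro h0
    rw [h0, Nat.cast_zero, mul_eq_zero] at hcard
    rcases hcard with h | h
    · exact Nat.card_pos.ne' (Nat.cast_eq_zero.1 h)
    · exact hne h
  obtain ⟨⟨g, hg⟩⟩ := (Nat.card_ne_zero.1 this).1
  exact ⟨g, hg⟩

/-- Restriction to a normal subgroup over an invariant constituent. -/
theorem res_eq_smul {χ : G → ℂ} (hχ : Cfsg.IsIrrCharacter G χ) {θ : N → ℂ}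
    (hθ : Cfsg.IsIrrCharacter N θ) (hinv : ∀ g, CharTwist.conjFun N θ g = θ)
    (h1 : Cfsg.classInner (fun n : N => χ n) θ ≠ 0) :
    ∃ e : ℕ, 0 < e ∧ (fun n : N => χ n) = (e : ℂ) • θ := by
  classical
  have hr : Cfsg.IsCharacter N (fun n : N => χ n) :=
    Char.IsCharacter.restrict (isCharacter_irr hχ) N
  obtain ⟨e, he⟩ := Char.IsCharacter.exists_nat_classInner hr hθ
  refine ⟨e, Nat.pos_of_ne_zero fun h => h1 (by rw [he, h, Nat.cast_zero]), ?_⟩
  conv_lhs => rw [Char.IsCharacter.eq_sum_classInner hr]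
  rw [Finset.sum_eq_single (⟨θ, hθ⟩ : Cfsg.IrrCharacter N) ?_ (by simp)]
  · rw [he]
  · intro φ _ hne
    by_cases h0 : Cfsg.classInner (fun n : N => χ n) (φ : N → ℂ) = 0
    · rw [h0, zero_smul]
    · obtain ⟨g, hg⟩ := exists_conj_eq N hχ hθ φ.2 h1 h0
      exact absurd (Subtype.ext (hg.symm.trans (hinv g))) hne

omit [Fintype N] in
/-- Inducing an invariant function and restricting. -/
theorem indFun_res_invariant {θ : N → ℂ} (hinv : ∀ g, CharTwist.conjFun N θ g = θ) (n : N) :
    Cfsg.indFun N θ n = (N.index : ℂ) * θ n := by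
  rw [CharTwist.indFun_normal_apply]
  simp only [hinv, Finset.sum_const, Finset.card_univ, nsmul_eq_mul]
  rw [← Nat.card_eq_fintype_card, ← N.card_mul_index]
  have : (Nat.card N : ℂ) ≠ 0 := Nat.cast_ne_zero.mpr Nat.card_pos.ne'
  push_cast
  field_simp

theorem classInner_indFun_self {θ : N → ℂ} (hθ : Cfsg.IsIrrCharacter N θ)
    (hinv : ∀ g, CharTwist.conjFun N θ g = θ) :
    Cfsg.classInner (Cfsg.indFun N θ) (Cfsg.indFun N θ) = (N.index : ℂ) := by
  rw [Char.classInner_indFun N θ _ (Char.isClassFunction_indFun N θ),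
    show (fun n : N => Cfsg.indFun N θ n) = (N.index : ℂ) • θ from
      funext fun n => indFun_res_invariant N hinv n,
    Char.classInner_smul_right, Char.classInner_irr_self hθ, map_natCast, mul_one]

/-- The norm of a character splits off the normal subgroup. -/
theorem card_eq_sum_split {χ : G → ℂ} (hχ : Cfsg.IsIrrCharacter G χ) (e : ℕ) {θ : N → ℂ}
    (hθ : Cfsg.IsIrrCharacter N θ) (he : (fun n : N => χ n) = (e : ℂ) • θ)
    [DecidablePred (· ∈ N)] :
    (Nat.card G : ℝ) = (Nat.card N : ℝ) * (e : ℝ) ^ 2 +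
      ∑ g ∈ Finset.univ.filter (fun g => g ∉ N), ‖χ g‖ ^ 2 := by
  have hG : (Nat.card G : ℂ) = ∑ g, χ g * conj (χ g) := by
    have h := Char.classInner_irr_self hχ
    unfold Cfsg.classInner at h
    rw [inv_mul_eq_iff_eq_mul₀ (Nat.cast_ne_zero.mpr Nat.card_pos.ne'), mul_one] at h
    exact h.symm
  have hN : ∑ g ∈ Finset.univ.filter (fun g => g ∈ N), χ g * conj (χ g) =
      (Nat.card N : ℂ) * (e : ℂ) ^ 2 := by
    rw [Finset.sum_subtype (Finset.univ.filter (fun g => g ∈ N)) (p := (· ∈ N)) (fun y => by simp)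
      (fun g => χ g * conj (χ g))]
    have h := Char.classInner_irr_self hθ
    unfold Cfsg.classInner at h
    rw [inv_mul_eq_iff_eq_mul₀ (Nat.cast_ne_zero.mpr Nat.card_pos.ne'), mul_one] at h
    rw [← h, Finset.sum_mul]
    refine Finset.sum_congr rfl fun n _ => ?_
    rw [show χ n = (e : ℂ) * θ n from congrFun he n, map_mul, map_natCast]
    ring
  rw [← Finset.sum_filter_add_sum_filter_not Finset.univ (fun g => g ∈ N), hN] at hG
  have h2 := congrArg Complex.re hG
  simp only [Complex.mul_conj', Complex.add_re, Complex.re_sum] at h2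
  norm_cast at h2 ⊢

/-- The degree identity for Clifford correspondence. -/
theorem index_mul_le_degree {χ : G → ℂ} (hχ : Cfsg.IsCharacter G χ)
    (hcl : Cfsg.IsClassFunction G χ) {θ : N → ℂ}
    (hθ : Cfsg.IsIrrCharacter N θ) (T : Subgroup G)
    (hT : ∀ g, g ∈ T ↔ CharTwist.conjFun N θ g = θ) :
    T.index * (mult (fun n : N => χ n) θ * Char.degree θ) ≤ Char.degree χ := by
  classical
  have := Fintype.ofFinite (G ⧸ T)
  have hr : Cfsg.IsCharacter N (fun n : N => χ n) := Char.IsCharacter.restrict hχ N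
  obtain ⟨m, hm⟩ := Char.IsCharacter.exists_nat_combination hr
  have hdeg : Char.degree χ = ∑ φ : Cfsg.IrrCharacter N, m φ * Char.degree (φ : N → ℂ) := by
    have h1 : χ 1 = ∑ φ : Cfsg.IrrCharacter N, (m φ : ℂ) * (φ : N → ℂ) 1 := by
      have := congrFun hm 1
      simp only [Subgroup.coe_one, Finset.sum_apply, Pi.smul_apply, smul_eq_mul] at this
      exact this
    simp only [← Char.IsCharacter.degree_cast hχ,
      ← Char.IsCharacter.degree_cast (isCharacter_irr (Subtype.prop _))] at h1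
    exact_mod_cast h1
  let f : G ⧸ T → Cfsg.IrrCharacter N := fun q =>
    ⟨CharTwist.conjFun N θ q.out⁻¹, CharTwist.isIrrCharacter_conjFun N hθ _⟩
  have hf : Function.Injective f := by
    intro q r h
    have h' : CharTwist.conjFun N θ q.out⁻¹ = CharTwist.conjFun N θ r.out⁻¹ :=
      congrArg Subtype.val h
    have h'' : CharTwist.conjFun N θ (q.out⁻¹ * r.out) = θ := by
      rw [CharTwist.conjFun_mul, h', ← CharTwist.conjFun_mul, inv_mul_cancel,
        CharTwist.conjFun_one]
    rw [← QuotientGroup.out_eq' q, ← QuotientGroup.out_eq' r]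
    exact QuotientGroup.eq.2 ((hT _).2 h'')
  have hmf : ∀ q, m (f q) = mult (fun n : N => χ n) θ ∧
      Char.degree ((f q : Cfsg.IrrCharacter N) : N → ℂ) = Char.degree θ := by
    intro q
    constructor
    · have h1 : Cfsg.classInner (fun n : N => χ n) (f q : N → ℂ) = (m (f q) : ℂ) := by
        rw [hm]; exact Char.classInner_sum_smul_irr (fun φ => (m φ : ℂ)) (f q)
      have h2 : Cfsg.classInner (fun n : N => χ n) (f q : N → ℂ) =
          Cfsg.classInner (fun n : N => χ n) θ := res_mult_conj N hcl θ _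
      rw [h1, classInner_eq_mult hr (isCharacter_irr hθ)] at h2
      exact_mod_cast h2
    · unfold Char.degree
      have : ((f q : Cfsg.IrrCharacter N) : N → ℂ) 1 = θ 1 :=
        congrArg θ (Subtype.ext (by simp))
      rw [this]
  rw [hdeg, Subgroup.index, Nat.card_eq_fintype_card, ← Finset.card_univ, ← smul_eq_mul,
    ← Finset.sum_const]
  calc ∑ _q : G ⧸ T, mult (fun n : N => χ n) θ * Char.degree θ
      = ∑ q : G ⧸ T, m (f q) * Char.degree (f q : N → ℂ) :=
        Finset.sum_congr rfl fun q _ => by rw [(hmf q).1, (hmf q).2]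
    _ = ∑ φ ∈ Finset.univ.image f, m φ * Char.degree (φ : N → ℂ) :=
        (Finset.sum_image (f := fun φ : Cfsg.IrrCharacter N => m φ * Char.degree (φ : N → ℂ))
          (fun a _ b _ h => hf h)).symm
    _ ≤ _ := Finset.sum_le_sum_of_subset (Finset.subset_univ _)

/-- Clifford correspondence: surjectivity and multiplicities. -/
theorem correspondence {χ : G → ℂ} (hχ : Cfsg.IsIrrCharacter G χ) {θ : N → ℂ}
    (hθ : Cfsg.IsIrrCharacter N θ) (T : Subgroup G) [Fintype T]
    (hT : ∀ g, g ∈ T ↔ CharTwist.conjFun N θ g = θ) (hNT : N ≤ T)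
    (hcon : Cfsg.classInner (fun n : N => χ n) θ ≠ 0) :
    ∃ ψ : T → ℂ, Cfsg.IsIrrCharacter T ψ ∧ Cfsg.indFun T ψ = χ ∧
      (fun n : N => ψ ⟨(n : G), hNT n.2⟩) =
        (mult (fun n : N => χ n) θ : ℂ) • θ := by
  classical
  have hclχ := Char.IsIrrCharacter.isClassFunction hχ
  have hchχ := isCharacter_irr hχ
  -- the normal subgroup inside `T`
  let M : Subgroup T := N.subgroupOf T
  haveI : M.Normal := Subgroup.normal_subgroupOf
  let e : M ≃* N := Subgroup.subgroupOfEquivOfLe hNT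
  have hcomp : ∀ (f f' : N → ℂ),
      Cfsg.classInner (f ∘ e) (f' ∘ e) = Cfsg.classInner f f' := by
    intro f f'
    unfold Cfsg.classInner
    rw [Nat.card_congr e.toEquiv]
    congr 1
    exact Fintype.sum_equiv e.toEquiv _ _ fun n => rfl
  have hθ' : Cfsg.IsIrrCharacter M (θ ∘ e) := CharTwist.isIrrCharacter_comp_equiv hθ e
  have hinv' : ∀ t : T, CharTwist.conjFun M (θ ∘ e) t = θ ∘ e := by
    intro t
    funext m
    have := congrFun ((hT t).1 t.2) (e m)
    simp only [CharTwist.conjFun, Function.comp_apply] at this ⊢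
    rw [← this]
    congr 1
  -- a constituent over `θ`
  let χT : T → ℂ := fun t => χ t
  have hχT : Cfsg.IsCharacter T χT := Char.IsCharacter.restrict hchχ T
  have hres : (fun m : M => χT m) = (fun n : N => χ n) ∘ e := funext fun m => rfl
  have h0 : Cfsg.classInner χT (Cfsg.indFun M (θ ∘ e)) ≠ 0 := by
    rw [classInner_comm_char hχT (Char.IsCharacter.indFun M (isCharacter_irr hθ')),
      Char.classInner_indFun M _ χT (Char.IsCharacter.isClassFunction hχT), hres, hcomp,
      ← classInner_comm_char (Char.IsCharacter.restrict hchχ N) (isCharacter_irr hθ)]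
    exact hcon
  obtain ⟨⟨ψ, hψ⟩, hψ1, hψ2⟩ := exists_constituent hχT _ h0
  have hψM : Cfsg.classInner (fun m : M => ψ m) (θ ∘ e) ≠ 0 := by
    rw [classInner_comm_char (Char.IsCharacter.restrict (isCharacter_irr hψ) M)
      (isCharacter_irr hθ'), ← Char.classInner_indFun M _ ψ
      (Char.IsIrrCharacter.isClassFunction hψ),
      classInner_comm_char (Char.IsCharacter.indFun M (isCharacter_irr hθ')) (isCharacter_irr hψ)]
    exact hψ2
  obtain ⟨a, ha, hψa⟩ := res_eq_smul M hψ hθ' hinv' hψM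
  have hψN : (fun n : N => ψ ⟨(n : G), hNT n.2⟩) = (a : ℂ) • θ := by
    funext n
    have := congrFun hψa (e.symm n)
    simp only [Pi.smul_apply, Function.comp_apply, MulEquiv.apply_symm_apply] at this
    exact this
  let I : G → ℂ := Cfsg.indFun T ψ
  have hI : Cfsg.IsCharacter G I := Char.IsCharacter.indFun T (isCharacter_irr hψ)
  have hIχ : Cfsg.classInner I χ ≠ 0 := by
    show Cfsg.classInner (Cfsg.indFun T ψ) χ ≠ 0
    rw [Char.classInner_indFun T ψ χ hclχ,
      classInner_comm_char (isCharacter_irr hψ) hχT]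
    exact hψ1
  obtain ⟨hle, heq⟩ := degree_le_of_constituent hI hχ hIχ
  have hdegI : Char.degree I = T.index * (a * Char.degree θ) := by
    have h1 : (Char.degree I : ℂ) = ((T.index * (a * Char.degree θ) : ℕ) : ℂ) := by
      rw [Char.IsCharacter.degree_cast hI]
      show Cfsg.indFun T ψ 1 = _
      rw [Char.indFun_apply_one]
      have h2 : ψ 1 = (a : ℂ) * θ 1 := congrFun hψN 1
      push_cast
      rw [h2, Char.IsCharacter.degree_cast (isCharacter_irr hθ)]
    exact_mod_cast h1
  -- `a` is at most the multiplicity in `χ`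
  have haf : a ≤ mult (fun n : N => χ n) θ := by
    obtain ⟨m, hm⟩ := Char.IsCharacter.exists_nat_combination hχT
    have h1 : Cfsg.classInner (fun n : N => χ n) θ =
        ∑ φ : Cfsg.IrrCharacter T, (m φ : ℂ) *
          Cfsg.classInner (fun x : M => (φ : T → ℂ) x) (θ ∘ e) := by
      rw [← hcomp, ← hres]
      have : (fun m' : M => χT m') =
          ∑ φ : Cfsg.IrrCharacter T, (m φ : ℂ) • fun x : M => (φ : T → ℂ) x := by
        funext x
        have := congrFun hm x
        simp only [Finset.sum_apply, Pi.smul_apply] at this ⊢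
        exact this
      rw [this, Char.classInner_sum_left]
      simp only [Char.classInner_smul_left]
    choose c hc using fun φ : Cfsg.IrrCharacter T => Char.IsCharacter.exists_nat_classInner
      (Char.IsCharacter.restrict (isCharacter_irr φ.2) M) hθ'
    simp only [hc, classInner_eq_mult (Char.IsCharacter.restrict hchχ N) (isCharacter_irr hθ)] at h1
    norm_cast at h1
    rw [h1]
    have h2 : c ⟨ψ, hψ⟩ = a := by
      have := hc ⟨ψ, hψ⟩
      rw [show (fun x : M => ψ x) = (a : ℂ) • (θ ∘ e) from hψa, Char.classInner_smul_left,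
        Char.classInner_irr_self hθ', mul_one] at this
      exact_mod_cast this.symm
    have h3 : m ⟨ψ, hψ⟩ ≠ 0 := by
      intro h
      apply hψ1
      rw [hm]
      exact (Char.classInner_sum_smul_irr (fun φ => (m φ : ℂ)) ⟨ψ, hψ⟩).trans (by simp [h])
    refine le_trans ?_ (Finset.single_le_sum (f := fun φ => m φ * c φ)
      (fun φ _ => Nat.zero_le _) (Finset.mem_univ ⟨ψ, hψ⟩))
    rw [h2]
    exact Nat.le_mul_of_pos_left _ (Nat.pos_of_ne_zero h3)
  have hge := index_mul_le_degree N hchχ hclχ hθ T hT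
  have hmono : T.index * (a * Char.degree θ) ≤
      T.index * (mult (fun n : N => χ n) θ * Char.degree θ) :=
    Nat.mul_le_mul_left _ (Nat.mul_le_mul_right _ haf)
  have hIeq : I = χ := heq (by rw [hdegI]; exact hmono.trans hge)
  refine ⟨ψ, hψ, hIeq, ?_⟩
  have hidx : 0 < T.index := Nat.pos_of_ne_zero Subgroup.index_ne_zero_of_finite
  have : a = mult (fun n : N => χ n) θ := by
    have h1 : T.index * (mult (fun n : N => χ n) θ * Char.degree θ) ≤
        T.index * (a * Char.degree θ) := by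
      rw [← hdegI, hIeq]
      exact hge
    have h2 := Nat.le_of_mul_le_mul_left (le_antisymm hmono h1).ge hidx
    have h3 := Nat.le_of_mul_le_mul_right h2 (Char.IsIrrCharacter.degree_pos hθ)
    omega
  rw [← this]
  exact hψN

end CfsgLib.CharDeep.Cliff
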