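import Mathlib
import Cfsg.Prelude.Def_Characters

/-! Permutation characters on cosets, Solomon's theorem (local form). -/

namespace CfsgLib.CharDeep.Perm

open MulAction

/-- The number of cosets of `H` fixed by `g`. -/
noncomputable def fixCard {G : Type*} [Group G] (H : Subgroup G) (g : G) : ℕ :=
  Nat.card {q : G ⧸ H // g • q = q}

theorem mk_fixed_iff {G : Type*} [Group G] (H : Subgroup G) (g x : G) :
    g • (x : G ⧸ H) = x ↔ x⁻¹ * g * x ∈ H := by
  rw [MulAction.Quotient.smul_coe, eq_comm, QuotientGroup.eq, smul_eq_mul, mul_assoc]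

/-- Sum of a function over the conjugates of `g`, when it is a multiple of the indicator of a
union of cosets. -/
theorem indFun_eq_card {G : Type*} [Group G] [Fintype G] (H : Subgroup G) (θ : H → ℂ) (g : G)
    (t : Set (G ⧸ H)) (c : ℂ)
    (hin : ∀ x : G, (x : G ⧸ H) ∈ t → Cfsg.extendByZero H θ (x⁻¹ * g * x) = c)
    (hout : ∀ x : G, (x : G ⧸ H) ∉ t → Cfsg.extendByZero H θ (x⁻¹ * g * x) = 0) :
    Cfsg.indFun H θ g = c * (Nat.card t : ℂ) := by
  classical
  have h1 : ∀ x : G, Cfsg.extendByZero H θ (x⁻¹ * g * x) = if (x : G ⧸ H) ∈ t then c else 0 := by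
    intro x
    split_ifs with h
    · exact hin x h
    · exact hout x h
  have h2 : (Finset.univ.filter (fun x : G => (x : G ⧸ H) ∈ t)).card = Nat.card H * Nat.card t := by
    rw [← Nat.card_prod, ← Nat.card_congr (QuotientGroup.preimageMkEquivSubgroupProdSet H t),
      Nat.card_eq_fintype_card, Fintype.card_ofFinset]
    congr 1
  unfold Cfsg.indFun
  simp only [h1]
  rw [Finset.sum_ite, Finset.sum_const_zero, add_zero, Finset.sum_const, h2, nsmul_eq_mul,
    Nat.cast_mul]
  have : (Nat.card H : ℂ) ≠ 0 := by exact_mod_cast Nat.card_pos.ne'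
  field_simp

theorem indFun_one {G : Type*} [Group G] [Fintype G] (H : Subgroup G) (g : G) :
    Cfsg.indFun H (fun _ => (1 : ℂ)) g = (fixCard H g : ℂ) := by
  rw [indFun_eq_card H _ g {q : G ⧸ H | g • q = q} 1 ?_ ?_, one_mul]
  · rfl
  · intro x hx
    rw [Cfsg.extendByZero]
    exact Subtype.val_injective.extend_apply _ _ ⟨_, (mk_fixed_iff H g x).1 hx⟩
  · intro x hx
    rw [Cfsg.extendByZero, Function.extend_apply']
    · rfl
    · rintro ⟨y, hy⟩
      exact hx ((mk_fixed_iff H g x).2 (hy ▸ y.2))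

/-- Fixed points on a finite action decompose along orbit representatives. -/
theorem card_fixed_eq_sum {G : Type*} [Group G] [Fintype G] {X : Type*} [MulAction G X] [Finite X]
    {ι : Type*} [Fintype ι] (r : ι → X) (hr : ∀ x : X, ∃ i, x ∈ orbit G (r i))
    (hinj : ∀ i j, r i ∈ orbit G (r j) → i = j) (g : G) :
    Nat.card {x : X // g • x = x} = ∑ i, fixCard (stabilizer G (r i)) g := by
  unfold fixCard
  rw [← Nat.card_sigma]
  refine (Nat.card_congr (Equiv.ofBijective (fun z : (i : ι) ×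
      {q : G ⧸ stabilizer G (r i) // g • q = q} =>
    (⟨ofQuotientStabilizer G (r z.1) z.2.1, by
      rw [← ofQuotientStabilizer_smul, z.2.2]⟩ : {x : X // g • x = x})) ⟨?_, ?_⟩)).symm
  · rintro ⟨i, q, hq⟩ ⟨j, q', hq'⟩ h
    have h' : ofQuotientStabilizer G (r i) q = ofQuotientStabilizer G (r j) q' :=
      congrArg Subtype.val h
    have hij : i = j := by
      apply hinj
      have h1 : ofQuotientStabilizer G (r i) q ∈ orbit G (r i) :=
        ofQuotientStabilizer_mem_orbit G (r i) q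
      have h2 : ofQuotientStabilizer G (r j) q' ∈ orbit G (r j) :=
        ofQuotientStabilizer_mem_orbit G (r j) q'
      rw [← orbit_eq_iff] at h1 h2 ⊢
      rw [← h1, ← h2, h']
    subst hij
    obtain rfl := injective_ofQuotientStabilizer G (r i) h'
    rfl
  · rintro ⟨x, hx⟩
    obtain ⟨i, u, hu⟩ := hr x
    subst hu
    refine ⟨⟨i, (u : G ⧸ stabilizer G (r i)), ?_⟩, Subtype.ext rfl⟩
    exact injective_ofQuotientStabilizer G (r i) (by rw [ofQuotientStabilizer_smul]; exact hx)

theorem fixCard_mul {G : Type*} [Group G] [Fintype G] (H K : Subgroup G) :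
    ∃ a : Subgroup G → ℕ, (∀ U, a U ≠ 0 → U ≤ H) ∧
      ∀ g, fixCard H g * fixCard K g = ∑ U : Subgroup G, a U * fixCard U g := by
  classical
  let X := (G ⧸ H) × (G ⧸ K)
  have := Fintype.ofFinite (Quotient (orbitRel G X))
  have hrep : ∀ ω : Quotient (orbitRel G X), ∃ y : G ⧸ K, (Quotient.mk'' ((1 : G), y).1 : G ⧸ H) =
      ((1 : G) : G ⧸ H) ∧ Quotient.mk'' (((1 : G) : G ⧸ H), y) = ω := by
    intro ω
    induction ω using Quotient.inductionOn' with
    | h z =>
      obtain ⟨q, y⟩ := z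
      obtain ⟨u, rfl⟩ := QuotientGroup.mk_surjective q
      refine ⟨u⁻¹ • y, rfl, Quotient.sound' ⟨u⁻¹, ?_⟩⟩
      show u⁻¹ • ((u : G ⧸ H), y) = _
      rw [Prod.smul_mk, MulAction.Quotient.smul_coe, smul_eq_mul, inv_mul_cancel]
  choose y _ hy using hrep
  let r : Quotient (orbitRel G X) → X := fun ω => (((1 : G) : G ⧸ H), y ω)
  refine ⟨fun U => (Finset.univ.filter (fun ω => stabilizer G (r ω) = U)).card, ?_, ?_⟩
  · intro U hU
    obtain ⟨ω, hω⟩ := Finset.card_ne_zero.1 hU
    obtain rfl := (Finset.mem_filter.1 hω).2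
    intro u hu
    have h1 : u • ((1 : G) : G ⧸ H) = ((1 : G) : G ⧸ H) :=
      congrArg Prod.fst (mem_stabilizer_iff.1 hu)
    simpa using (mk_fixed_iff H u 1).1 h1
  · intro g
    have h1 : fixCard H g * fixCard K g = Nat.card {x : X // g • x = x} := by
      unfold fixCard
      rw [← Nat.card_prod]
      refine Nat.card_congr ?_
      exact {
        toFun := fun z => ⟨(z.1.1, z.2.1), Prod.ext z.1.2 z.2.2⟩
        invFun := fun z => (⟨z.1.1, congrArg Prod.fst z.2⟩, ⟨z.1.2, congrArg Prod.snd z.2⟩)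
        left_inv := fun z => rfl
        right_inv := fun z => rfl }
    rw [h1, card_fixed_eq_sum r ?_ ?_ g]
    · rw [← Finset.sum_fiberwise Finset.univ (fun ω => stabilizer G (r ω))]
      refine Finset.sum_congr rfl fun U _ => ?_
      rw [Finset.sum_congr rfl (g := fun _ => fixCard U g) fun ω hω => by
        rw [(Finset.mem_filter.1 hω).2]]
      simp
    · intro x
      exact ⟨Quotient.mk'' x, (orbitRel_apply (a := x)).1 (Quotient.eq''.1 (hy _).symm)⟩
    · intro i j h
      rw [← hy i, ← hy j]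
      exact Quotient.sound' h

/-- The `p`-part and `p'`-part of an element. -/
theorem exists_decomp {G : Type*} [Group G] [Finite G] (x : G) (p : ℕ) (hp : p.Prime) :
    ∃ a b : G, x = a * b ∧ Commute a b ∧ (∃ k : ℕ, a ^ p ^ k = 1) ∧ Nat.Coprime (orderOf b) p ∧
      a ∈ Subgroup.zpowers x ∧ b ∈ Subgroup.zpowers x := by
  obtain ⟨e, r, hr, hxo⟩ :=
    Nat.exists_eq_pow_mul_and_not_dvd (orderOf_pos x).ne' p hp.ne_one
  have hcop : IsCoprime (r : ℤ) ((p ^ e : ℕ) : ℤ) :=
    Nat.isCoprime_iff_coprime.2 ((hp.coprime_iff_not_dvd.2 hr).symm.pow_right e)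
  obtain ⟨u, v, huv⟩ := hcop
  refine ⟨x ^ (u * r), x ^ (v * (p ^ e : ℕ)), by rw [← zpow_add, huv, zpow_one],
    (Commute.refl x).zpow_zpow _ _, ⟨e, ?_⟩, ?_, ⟨_, rfl⟩, ⟨_, rfl⟩⟩
  · rw [← zpow_natCast, ← zpow_mul]
    refine orderOf_dvd_iff_zpow_eq_one.1 ⟨u, ?_⟩
    rw [hxo]; push_cast; ring
  · have h1 : orderOf (x ^ (v * ((p ^ e : ℕ) : ℤ))) ∣ r := by
      refine orderOf_dvd_of_pow_eq_one ?_
      rw [← zpow_natCast, ← zpow_mul]
      refine orderOf_dvd_iff_zpow_eq_one.1 ⟨v, ?_⟩
      rw [hxo]; push_cast; ring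
    exact Nat.Coprime.coprime_dvd_left h1 (hp.coprime_iff_not_dvd.2 hr).symm

/-- Fixed points of a `p`-element on the orbit of the trivial coset under an overgroup. -/
theorem card_fixed_orbit_modEq {G : Type*} [Group G] [Finite G] {p : ℕ} [Fact p.Prime]
    (H N : Subgroup G) (hHN : H ≤ N) (a : G) (ha : a ∈ N) (hap : ∃ k : ℕ, a ^ p ^ k = 1) :
    Nat.card {q : G ⧸ H | q ∈ orbit N ((1 : G) : G ⧸ H) ∧ a • q = q} ≡ H.relIndex N [MOD p] := by
  obtain ⟨k, hk⟩ := hap
  let A : Subgroup G := Subgroup.zpowers a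
  have hA : IsPGroup p A := by
    intro g
    obtain ⟨j, hj⟩ := Subgroup.mem_zpowers_iff.1 g.2
    refine ⟨k, Subtype.ext ?_⟩
    rw [SubgroupClass.coe_pow, Subgroup.coe_one, ← hj, ← zpow_natCast, ← zpow_mul, mul_comm,
      zpow_mul, zpow_natCast, hk, one_zpow]
  let O : Set (G ⧸ H) := orbit N ((1 : G) : G ⧸ H)
  have hAN : A ≤ N := Subgroup.zpowers_le.2 ha
  have hO : ∀ (g : A), ∀ q ∈ O, (g : G) • q ∈ O := by
    rintro g _ ⟨n, rfl⟩
    exact ⟨⟨g, hAN g.2⟩ * n, mul_smul (g : G) (n : G) ((1 : G) : G ⧸ H)⟩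
  let S : SubMulAction A (G ⧸ H) := ⟨O, fun g q hq => hO g q hq⟩
  have hcard : Nat.card S = H.relIndex N := by
    show Nat.card O = _
    rw [Nat.card_coe_set_eq, ← MulAction.index_stabilizer, Subgroup.relIndex]
    congr 1
    ext ⟨n, hn⟩
    rw [mem_stabilizer_iff, Subgroup.mem_subgroupOf]
    show n • ((1 : G) : G ⧸ H) = _ ↔ _
    rw [mk_fixed_iff]
    simp
  have h1 := hA.card_modEq_card_fixedPoints S
  rw [hcard] at h1
  refine Nat.ModEq.trans ?_ h1.symm
  refine Nat.ModEq.symm ?_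
  refine congrArg (· % p) (Nat.card_congr (Equiv.symm ?_))
  exact
    { toFun := fun q => ⟨⟨q.1, q.2.1⟩, fun g => Subtype.ext (smul_eq_self_of_mem_zpowers g.2 q.2.2)⟩
      invFun := fun s => ⟨s.1.1, s.1.2,
        congrArg Subtype.val (s.2 ⟨a, Subgroup.mem_zpowers a⟩)⟩
      left_inv := fun q => rfl
      right_inv := fun s => rfl }

/-- A `p`-quasi-elementary subgroup, phrased as in the statements. -/
def QuasiElem {G : Type*} [Group G] (p : ℕ) (H : Subgroup G) : Prop :=
  ∃ C : Subgroup G, C ≤ H ∧ H ≤ Subgroup.normalizer (C : Set G) ∧ IsCyclic C ∧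
    Nat.Coprime (Nat.card C) p ∧ ∃ k : ℕ, C.relIndex H = p ^ k

theorem QuasiElem.mono {G : Type*} [Group G] [Finite G] {p : ℕ} (hp : p.Prime) {H U : Subgroup G}
    (hH : QuasiElem p H) (hU : U ≤ H) : QuasiElem p U := by
  obtain ⟨C, hCH, hHC, hcyc, hcop, k, hk⟩ := hH
  have hinj : Function.Injective (Subgroup.inclusion (inf_le_left : C ⊓ U ≤ C)) :=
    Subgroup.inclusion_injective _
  refine ⟨C ⊓ U, inf_le_right, ?_, isCyclic_of_injective _ hinj,
    hcop.coprime_dvd_left (Subgroup.card_dvd_of_le inf_le_left), ?_⟩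
  · intro u hu
    rw [Subgroup.mem_normalizer_iff]
    intro c
    have h1 := (Subgroup.mem_normalizer_iff.1 (hHC (hU hu))) c
    simp only [Subgroup.mem_inf]
    rw [← h1]
    refine and_congr_right fun _ => ?_
    constructor
    · exact fun hc => U.mul_mem (U.mul_mem hu hc) (U.inv_mem hu)
    · intro hc
      simpa [mul_assoc] using U.mul_mem (U.mul_mem (U.inv_mem hu) hc) hu
  · haveI : (C.subgroupOf H).Normal := Subgroup.normal_subgroupOf_of_le_normalizer hHC
    rw [Subgroup.inf_relIndex_right]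
    have h1 : (C.subgroupOf H).relIndex (U.subgroupOf H) = C.relIndex U :=
      Subgroup.relIndex_subgroupOf hU
    have h2 : (C.subgroupOf H).relIndex (U.subgroupOf H) ∣ C.relIndex H := by
      rw [← Subgroup.relIndex_sup_right]
      exact Subgroup.relIndex_dvd_index_of_normal _ _
    rw [h1, hk] at h2
    exact ((Nat.dvd_prime_pow hp).1 h2).imp fun j hj => hj.2

theorem mem_normalizer_of_map_le {G : Type*} [Group G] [Finite G] {C : Subgroup G} {g : G}
    (h : C.map (MulAut.conj g).toMonoidHom ≤ C) : g ∈ Subgroup.normalizer (C : Set G) := by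
  have he : C.map (MulAut.conj g).toMonoidHom = C :=
    Subgroup.eq_of_le_of_card_ge h (by
      rw [Subgroup.card_map_of_injective (MulAut.conj g).injective])
  rw [Subgroup.mem_normalizer_iff]
  intro c
  conv_rhs => rw [← he]
  rw [Subgroup.mem_map_equiv]
  simp [mul_assoc]

/-- For each element and prime there is a quasi-elementary subgroup whose permutation character
is prime to `p` at the element. -/
theorem exists_quasiElem_fixCard {G : Type*} [Group G] [Finite G] (x : G) (p : ℕ) (hp : p.Prime) :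
    ∃ H : Subgroup G, QuasiElem p H ∧ ¬ p ∣ fixCard H x := by
  haveI := Fact.mk hp
  obtain ⟨a, b, hxab, hab, hap, hbp, ha, hb⟩ := exists_decomp x p hp
  set C := Subgroup.zpowers b
  set N := Subgroup.normalizer (C : Set G)
  have hCN : C ≤ N := Subgroup.le_normalizer
  have haN : a ∈ N := by
    rw [Subgroup.mem_normalizer_iff]
    intro c
    constructor
    · intro hc
      obtain ⟨j, rfl⟩ := Subgroup.mem_zpowers_iff.1 hc
      rw [(hab.zpow_right j).eq, mul_inv_cancel_right]
      exact hc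
    · intro hc
      obtain ⟨j, hj⟩ := Subgroup.mem_zpowers_iff.1 hc
      refine ⟨j, ?_⟩
      have : c = a⁻¹ * b ^ j * a := by rw [hj]; group
      rw [this, mul_assoc, ← (hab.zpow_right j).eq, inv_mul_cancel_left]
  obtain ⟨P⟩ : Nonempty (Sylow p N) := inferInstance
  set H' : Subgroup N := (P : Subgroup N) ⊔ C.subgroupOf N
  set H := H'.map N.subtype
  have hHN : H ≤ N := Subgroup.map_subtype_le _
  have hHH' : H.subgroupOf N = H' := Subgroup.comap_map_eq_self_of_injective N.subtype_injective _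
  have hCH : C ≤ H := by
    intro c hc
    exact ⟨⟨c, hCN hc⟩, Subgroup.mem_sup_right hc, rfl⟩
  have hidx : ¬ p ∣ H.relIndex N := by
    rw [Subgroup.relIndex, hHH']
    exact fun h => P.not_dvd_index (h.trans (Subgroup.index_dvd_of_le le_sup_left))
  have hrel : ∃ k, C.relIndex H = p ^ k := by
    haveI : (C.subgroupOf N).Normal := Subgroup.normal_subgroupOf_of_le_normalizer le_rfl
    have h1 : (C.subgroupOf N).relIndex (H.subgroupOf N) = C.relIndex H :=
      Subgroup.relIndex_subgroupOf hHN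
    rw [hHH', Subgroup.relIndex_sup_right] at h1
    obtain ⟨e, he⟩ := IsPGroup.iff_card.1 P.isPGroup'
    have h2 : (C.subgroupOf N).relIndex (P : Subgroup N) ∣ Nat.card (P : Subgroup N) :=
      Subgroup.index_dvd_card _
    rw [← h1]
    rw [he] at h2
    exact ((Nat.dvd_prime_pow hp).1 h2).imp fun j hj => hj.2
  refine ⟨H, ⟨C, hCH, hHN, inferInstance, by rwa [Nat.card_zpowers], hrel⟩, ?_⟩
  have key : {q : G ⧸ H | x • q = q} =
      {q : G ⧸ H | q ∈ orbit N ((1 : G) : G ⧸ H) ∧ a • q = q} := by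
    obtain ⟨k', hk'⟩ := hrel
    -- elements of `H` of order prime to `p` lie in `C`
    have hpart : ∀ y ∈ H, Nat.Coprime (orderOf y) p → y ∈ C := by
      intro y hy hyo
      haveI : (C.subgroupOf H).Normal := Subgroup.normal_subgroupOf_of_le_normalizer hHN
      have h1 : (⟨y, hy⟩ : H) ^ (p ^ k') ∈ C.subgroupOf H := by
        rw [← hk']; exact Subgroup.pow_index_mem _ _
      obtain ⟨m, hm⟩ := exists_pow_eq_self_of_coprime (hyo.pow_right k').symm
      rw [← hm]
      exact C.pow_mem h1 m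
    have hbfix : ∀ n : N, b • (((n : G) * 1 : G) : G ⧸ H) = (((n : G) * 1 : G) : G ⧸ H) := by
      intro n
      rw [mk_fixed_iff, mul_one]
      exact hCH ((Subgroup.mem_normalizer_iff''.1 n.2 b).1 (Subgroup.mem_zpowers b))
    ext q
    obtain ⟨u, rfl⟩ := QuotientGroup.mk_surjective q
    constructor
    · intro hq
      have hq' : x • (u : G ⧸ H) = u := hq
      have hb' : b • (u : G ⧸ H) = u := smul_eq_self_of_mem_zpowers hb hq'
      have hm : u⁻¹ * b * u ∈ C := by
        refine hpart _ ((mk_fixed_iff H b u).1 hb') ?_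
        rwa [show u⁻¹ * b * u = MulAut.conj u⁻¹ b by simp, MulEquiv.orderOf_eq]
      have hu : u⁻¹ ∈ N := by
        refine mem_normalizer_of_map_le ?_
        rw [MonoidHom.map_zpowers, Subgroup.zpowers_le]
        simpa using hm
      refine ⟨⟨⟨u, by simpa using N.inv_mem hu⟩, ?_⟩, smul_eq_self_of_mem_zpowers ha hq'⟩
      show u • ((1 : G) : G ⧸ H) = _
      rw [MulAction.Quotient.smul_coe, smul_eq_mul, mul_one]
    · rintro ⟨⟨n, hn⟩, hq⟩
      show x • (u : G ⧸ H) = u
      rw [hxab, mul_smul]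
      have : b • (u : G ⧸ H) = u := by
        rw [← hn]
        exact hbfix n
      rw [this, hq]
  have hmod := card_fixed_orbit_modEq (p := p) H N hHN a haN hap
  rw [← key] at hmod
  exact fun h => hidx ((hmod.dvd_iff dvd_rfl).1 h)
/-- From local nonvanishing mod `p` to a constant prime to `p`, inside a non-unital ring of
functions. -/
theorem exists_const_of_local {S R : Type*} [Fintype S] [CommRing R] (p : ℕ) (hp : p.Prime)
    (I : AddSubgroup (S → R)) (hmul : ∀ f ∈ I, ∀ g ∈ I, f * g ∈ I)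
    (hloc : ∀ x, ∃ f : S → ℤ, (fun s => (f s : R)) ∈ I ∧ ¬ (p : ℤ) ∣ f x) :
    ∃ m : ℤ, ¬ (p : ℤ) ∣ m ∧ (fun _ => (m : R)) ∈ I := by
  classical
  let cast : (S → ℤ) →+* (S → R) := RingHom.compLeft (Int.castRingHom R) S
  let J : AddSubgroup (S → ℤ) := I.comap cast.toAddMonoidHom
  have hJ : ∀ f ∈ J, ∀ g ∈ J, f * g ∈ J := fun f hf g hg => by
    show cast (f * g) ∈ I
    rw [map_mul]; exact hmul _ hf _ hg
  have hpow : ∀ f ∈ J, ∀ n : ℕ, f ^ (n + 1) ∈ J := by
    intro f hf n
    induction n with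
    | zero => simpa using hf
    | succ n ih => rw [pow_succ]; exact hJ _ ih _ hf
  have hone : ∀ x, ∃ f ∈ J, (p : ℤ) ∣ f x - 1 := by
    intro x
    obtain ⟨f, hf, hfx⟩ := hloc x
    haveI := Fact.mk hp
    have h0 : ((f x : ℤ) : ZMod p) ≠ 0 := by rwa [Ne, ZMod.intCast_zmod_eq_zero_iff_dvd]
    refine ⟨f ^ (p - 2 + 1), hpow f hf _, ?_⟩
    rw [← ZMod.intCast_zmod_eq_zero_iff_dvd, Pi.pow_apply]
    push_cast
    have h2 := hp.two_le
    rw [show p - 2 + 1 = p - 1 by omega, ZMod.pow_card_sub_one_eq_one h0, sub_self]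
  have key : ∀ s : Finset S, ∃ f ∈ J, ∀ x ∈ s, (p : ℤ) ∣ f x - 1 := by
    intro s
    induction s using Finset.induction_on with
    | empty => exact ⟨0, J.zero_mem, by simp⟩
    | @insert c s hc ih =>
      obtain ⟨f, hf, hf1⟩ := ih
      obtain ⟨g, hg, hg1⟩ := hone c
      refine ⟨f + g - f * g, J.sub_mem (J.add_mem hf hg) (hJ f hf g hg), ?_⟩
      intro x hx
      have he : (f + g - f * g) x - 1 = (f x - 1) * (1 - g x) := by
        simp only [Pi.sub_apply, Pi.add_apply, Pi.mul_apply]; ring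
      rw [he]
      rcases Finset.mem_insert.1 hx with rfl | hx
      · exact dvd_mul_of_dvd_right (by rw [← neg_sub]; exact dvd_neg.2 hg1) _
      · exact dvd_mul_of_dvd_left (hf1 x hx) _
  obtain ⟨f, hf, hf1⟩ := key Finset.univ
  have poly : ∀ s : Finset ℤ, ∃ h ∈ J, ∀ x, ∏ v ∈ s, (f x - v) = h x + ∏ v ∈ s, (-v) := by
    intro s
    induction s using Finset.induction_on with
    | empty => exact ⟨0, J.zero_mem, by simp⟩
    | @insert v s hv ih =>
      obtain ⟨h, hh, hh1⟩ := ih
      refine ⟨f * h + (∏ v ∈ s, (-v)) • f - v • h,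
        J.sub_mem (J.add_mem (hJ f hf h hh) (J.zsmul_mem hf _)) (J.zsmul_mem hh _), fun x => ?_⟩
      rw [Finset.prod_insert hv, Finset.prod_insert hv, hh1]
      simp only [Pi.sub_apply, Pi.add_apply, Pi.mul_apply, Pi.smul_apply, smul_eq_mul]
      ring
  obtain ⟨h, hh, hh1⟩ := poly (Finset.univ.image f)
  refine ⟨∏ v ∈ Finset.univ.image f, (-v), ?_, ?_⟩
  · intro hd
    obtain ⟨v, hv, hvd⟩ := (Nat.prime_iff_prime_int.1 hp).exists_mem_finset_dvd hd
    obtain ⟨x, -, rfl⟩ := Finset.mem_image.1 hv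
    have := dvd_add (hf1 x (Finset.mem_univ x)) hvd
    simp only [← sub_eq_add_neg, sub_sub, sub_self, zero_add] at this
    refine (Nat.prime_iff_prime_int.1 hp).not_dvd_one ?_
    simpa using this
  · have he : (fun _ : S => ((∏ v ∈ Finset.univ.image f, (-v) : ℤ) : R)) = cast (-h) := by
      funext x
      have := hh1 x
      rw [Finset.prod_eq_zero (Finset.mem_image_of_mem f (Finset.mem_univ x)) (sub_self _)] at this
      show _ = ((-h x : ℤ) : R)
      congr 1
      linarith
    rw [he]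
    exact J.neg_mem hh

/-- Solomon's theorem, local form. -/
theorem solomon_local {G : Type*} [Group G] [Fintype G] (p : ℕ) (hp : p.Prime) :
    ∃ (m : ℤ) (a : Subgroup G → ℤ), ¬ (p : ℤ) ∣ m ∧ (∀ H, a H ≠ 0 → QuasiElem p H) ∧
      ∀ g : G, m = ∑ H : Subgroup G, a H * (fixCard H g : ℤ) := by
  classical
  let Q : Finset (Subgroup G) := Finset.univ.filter (fun H => QuasiElem p H)
  let v : Subgroup G → G → ℤ := fun H g => (fixCard H g : ℤ)
  let M := Submodule.span ℤ (Set.range fun H : {H // QuasiElem p H} => v H.1)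
  have hv : ∀ f ∈ M, ∀ g ∈ M, f * g ∈ M := by
    intro f hf g hg
    have := Submodule.mul_mem_mul hf hg
    have hle : M * M ≤ M := by
      rw [Submodule.span_mul_span, Submodule.span_le]
      rintro _ ⟨_, ⟨H, rfl⟩, _, ⟨K, rfl⟩, rfl⟩
      obtain ⟨a, ha, hprod⟩ := fixCard_mul H.1 K.1
      have : v H.1 * v K.1 = ∑ U : Subgroup G, (a U : ℤ) • v U := by
        funext g
        simp only [Pi.mul_apply, Finset.sum_apply, Pi.smul_apply, smul_eq_mul, v]
        exact_mod_cast hprod g
      show v H.1 * v K.1 ∈ M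
      rw [this]
      refine Submodule.sum_mem _ fun U _ => ?_
      by_cases hU : a U = 0
      · simp [hU]
      · exact M.smul_mem _ (Submodule.subset_span ⟨⟨U, H.2.mono hp (ha U hU)⟩, rfl⟩)
    exact hle this
  obtain ⟨m, hm, hmem⟩ := exists_const_of_local (R := ℤ) p hp M.toAddSubgroup hv (fun x => by
    obtain ⟨H, hH, hx⟩ := exists_quasiElem_fixCard x p hp
    exact ⟨v H, Submodule.subset_span ⟨⟨H, hH⟩, by simp⟩, by simp only [v]; exact_mod_cast hx⟩)
  obtain ⟨c, hc⟩ := (Submodule.mem_span_range_iff_exists_fun ℤ).1 hmem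
  refine ⟨m, fun H => if h : QuasiElem p H then c ⟨H, h⟩ else 0, hm, ?_, ?_⟩
  · intro H hH
    by_contra h
    simp [h] at hH
  · intro g
    have h1 := congrFun hc g
    simp only [Finset.sum_apply, Pi.smul_apply, smul_eq_mul, Int.cast_id, v] at h1
    rw [← h1]
    rw [← Finset.sum_filter_add_sum_filter_not Finset.univ (fun H => QuasiElem p H)]
    rw [Finset.sum_eq_zero (s := Finset.filter (fun H => ¬QuasiElem p H) _)
      (fun H hH => by simp [(Finset.mem_filter.1 hH).2]), add_zero,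
      Finset.sum_subtype _ (p := fun H => QuasiElem p H) (by simp)]
    exact Finset.sum_congr rfl fun H _ => by simp [H.2]

end CfsgLib.CharDeep.Perm
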