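import Mathlib
import Cfsg.Agent.Lib.Char.Complete
import Cfsg.Agent.Lib.Char.Induced
import Cfsg.Agent.Lib.CharDeep.PermChar

/-! Local form of Brauer's induction theorem. -/

namespace CfsgLib.CharDeep.Ind

open MulAction
open scoped ComplexConjugate

/-- A system of integral linear equations solvable in algebraic integers is solvable in `ℤ`. -/
theorem exists_int_solution {ι κ : Type*} [Fintype ι] (a : ι → ℂ) (ha : ∀ i, IsIntegral ℤ (a i))
    (N : ι → κ → ℤ) (c : κ → ℤ) (h : ∀ k, ∑ i, a i * (N i k : ℂ) = (c k : ℂ)) :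
    ∃ b : ι → ℤ, ∀ k, ∑ i, b i * N i k = c k := by
  classical
  let A : Submodule ℤ ℂ := Submodule.span ℤ (Set.range (fun o : Option ι => o.elim 1 a))
  have hint : ∀ z ∈ A, IsIntegral ℤ z := by
    intro z hz
    induction hz using Submodule.span_induction with
    | mem x hx =>
      obtain ⟨o, rfl⟩ := hx
      cases o with
      | none => exact isIntegral_one
      | some i => exact ha i
    | zero => exact isIntegral_zero
    | add x y _ _ hx hy => exact hx.add hy
    | smul n x _ hx => exact hx.smul n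
  haveI : Module.Finite ℤ A := Module.Finite.span_of_finite ℤ (Set.finite_range _)
  haveI : Module.Free ℤ A := Module.free_of_finite_type_torsion_free'
  let e := Module.Free.chooseBasis ℤ A
  let one : A := ⟨1, Submodule.subset_span ⟨none, rfl⟩⟩
  let S : Submodule ℤ ℤ := LinearMap.range (LinearMap.applyₗ one : (A →ₗ[ℤ] ℤ) →ₗ[ℤ] ℤ)
  obtain ⟨d, hd⟩ := Submodule.IsPrincipal.principal S
  have hdvd : ∀ j, d ∣ e.repr one j := by
    intro j
    have : e.repr one j ∈ S := ⟨e.coord j, rfl⟩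
    rw [hd, Submodule.mem_span_singleton] at this
    obtain ⟨t, ht⟩ := this
    exact ⟨t, by rw [← ht, smul_eq_mul, mul_comm]⟩
  have hone : one = d • ∑ j, (e.repr one j / d) • e j := by
    rw [Finset.smul_sum]
    conv_lhs => rw [← e.sum_repr one]
    exact Finset.sum_congr rfl fun j _ => by rw [smul_smul, Int.mul_ediv_cancel' (hdvd j)]
  set u : A := ∑ j, (e.repr one j / d) • e j
  have hu : (1 : ℂ) = (d : ℂ) * (u : ℂ) := by
    have := congrArg Subtype.val hone
    simpa [one] using this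
  have hd0 : (d : ℂ) ≠ 0 := by
    intro h0; rw [h0, zero_mul] at hu; exact one_ne_zero hu
  have hq : (u : ℂ) = (((1 : ℚ) / d : ℚ) : ℂ) := by
    push_cast
    rw [eq_div_iff hd0, mul_comm, ← hu]
  obtain ⟨m, hm⟩ := CfsgLib.Char.exists_int_of_isIntegral_ratCast (hq ▸ hint _ u.2)
  have hdu : IsUnit d := by
    refine IsUnit.of_mul_eq_one m ?_
    have hd0' : (d : ℚ) ≠ 0 := by exact_mod_cast hd0
    rw [eq_div_iff hd0', mul_comm] at hm
    exact_mod_cast hm
  obtain ⟨f, hf⟩ : (1 : ℤ) ∈ S := by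
    rw [hd, Submodule.mem_span_singleton]
    obtain ⟨t, ht⟩ := hdu.exists_left_inv
    exact ⟨t, ht⟩
  refine ⟨fun i => f ⟨a i, Submodule.subset_span ⟨some i, rfl⟩⟩, fun k => ?_⟩
  have h1 : ∑ i, N i k • (⟨a i, Submodule.subset_span ⟨some i, rfl⟩⟩ : A) = c k • one := by
    apply Subtype.ext
    simp only [Submodule.coe_sum, Submodule.coe_smul, zsmul_eq_mul, one, mul_one]
    rw [← h k]
    exact Finset.sum_congr rfl fun i _ => mul_comm _ _
  have h2 := congrArg f h1
  simp only [map_sum, map_zsmul, smul_eq_mul] at h2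
  rw [show f one = 1 from hf, mul_one] at h2
  rw [← h2]
  exact Finset.sum_congr rfl fun i _ => mul_comm _ _

theorem exists_int_classInner {G : Type*} [Group G] [Fintype G] {θ ψ : G → ℂ}
    (hθ : Cfsg.IsGeneralizedCharacter G θ) (hψ : Cfsg.IsIrrCharacter G ψ) :
    ∃ z : ℤ, Cfsg.classInner θ ψ = z := by
  obtain ⟨a, b, ha, hb, rfl⟩ := hθ
  obtain ⟨m, hm⟩ := CfsgLib.Char.IsCharacter.exists_nat_classInner ha hψ
  obtain ⟨n, hn⟩ := CfsgLib.Char.IsCharacter.exists_nat_classInner hb hψ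
  exact ⟨(m : ℤ) - n, by simp [CfsgLib.Char.classInner_sub_left, hm, hn]⟩

/-- Descent of coefficients from the algebraic integers to `ℤ`. -/
theorem descend {G : Type*} [Group G] [Fintype G] {ι : Type*} [Fintype ι] (χ : ι → G → ℂ)
    (hχ : ∀ i, Cfsg.IsGeneralizedCharacter G (χ i)) (θ : G → ℂ)
    (hθ : Cfsg.IsGeneralizedCharacter G θ) (a : ι → ℂ) (ha : ∀ i, IsIntegral ℤ (a i))
    (h : θ = ∑ i, a i • χ i) : ∃ b : ι → ℤ, θ = ∑ i, (b i : ℂ) • χ i := by
  choose N hN using fun (i : ι) (ψ : Cfsg.IrrCharacter G) => exists_int_classInner (hχ i) ψ.2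
  choose c hc using fun ψ : Cfsg.IrrCharacter G => exists_int_classInner hθ ψ.2
  obtain ⟨b, hb⟩ := exists_int_solution a ha N c (fun ψ => by
    rw [← hc, h, CfsgLib.Char.classInner_sum_left]
    simp only [CfsgLib.Char.classInner_smul_left, hN])
  refine ⟨b, ?_⟩
  have hcl : ∀ {η : G → ℂ}, Cfsg.IsGeneralizedCharacter G η → η =
      ∑ ψ : Cfsg.IrrCharacter G, Cfsg.classInner η ψ • (ψ : G → ℂ) := fun {η} hη =>
    CfsgLib.Char.IsClassFunction.eq_sum_classInner
      (CfsgLib.Char.IsGeneralizedCharacter.isClassFunction hη)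
  have hcl' := hcl (CfsgLib.Char.IsGeneralizedCharacter.sum Finset.univ
    (fun i => (b i : ℂ) • χ i)
    (fun i _ => CfsgLib.Char.IsGeneralizedCharacter.intCast_smul (hχ i) (b i)))
  rw [hcl hθ, hcl']
  refine Finset.sum_congr rfl fun ψ _ => ?_
  congr 1
  rw [CfsgLib.Char.classInner_sum_left, hc, ← hb ψ]
  push_cast
  simp only [CfsgLib.Char.classInner_smul_left, hN]

/-- The generators: algebraic-integer multiples of characters induced from elementary subgroups. -/
def gens (G : Type*) [Group G] [Fintype G] (p : ℕ) : Set (G → ℂ) :=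
  {f | ∃ (a : ℂ) (E : Subgroup G) (φ : E → ℂ), IsIntegral ℤ a ∧ Cfsg.IsElementary p E ∧
    Cfsg.IsCharacter E φ ∧ f = a • Cfsg.indFun E φ}

theorem gens_mul {G : Type*} [Group G] [Fintype G] {p : ℕ} {f g : G → ℂ}
    (hf : f ∈ gens G p) (hg : g ∈ gens G p) : f * g ∈ gens G p := by
  obtain ⟨a, E, φ, ha, hE, hφ, rfl⟩ := hf
  obtain ⟨b, F, ψ, hb, _, hψ, rfl⟩ := hg
  refine ⟨a * b, E, fun e => φ e * Cfsg.indFun F ψ e, ha.mul hb, hE,
    CfsgLib.Char.IsCharacter.mul hφ
      (CfsgLib.Char.IsCharacter.restrict (CfsgLib.Char.IsCharacter.indFun F hψ) E), ?_⟩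
  rw [CfsgLib.Char.indFun_mul_res E φ _ (CfsgLib.Char.isClassFunction_indFun F ψ),
    smul_mul_smul_comm]

theorem zpowers_mul_comm {G : Type*} [Group G] {b : G} (c d : Subgroup.zpowers b) :
    c * d = d * c := by
  obtain ⟨_, i, rfl⟩ := c
  obtain ⟨_, j, rfl⟩ := d
  exact Subtype.ext (((Commute.refl b).zpow_zpow i j).eq)

/-- An elementary subgroup and an integral combination of induced characters that is an integer
prime to `p` at a given element. -/
theorem exists_local {G : Type*} [Group G] [Fintype G] (p : ℕ) (hp : p.Prime) (x : G) :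
    ∃ f : G → ℤ, (fun g => (f g : ℂ)) ∈ Submodule.span ℤ (gens G p) ∧ ¬ (p : ℤ) ∣ f x := by
  classical
  haveI := Fact.mk hp
  obtain ⟨a, b, hxab, hab, ⟨e, hae⟩, hbp, ha, hb⟩ := CfsgLib.CharDeep.Perm.exists_decomp x p hp
  set C := Subgroup.zpowers b
  set N := Subgroup.centralizer ({b} : Set G)
  have haN : a ∈ N := Subgroup.mem_centralizer_singleton_iff.2 hab.eq
  obtain ⟨P⟩ : Nonempty (Sylow p N) := inferInstance
  set r := orderOf b
  have hCc : ∀ (c : C) (q : (P : Subgroup N)), Commute ((C.subtype) c)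
      ((N.subtype.comp (P : Subgroup N).subtype) q) := by
    intro c q
    obtain ⟨j, hj⟩ := Subgroup.mem_zpowers_iff.1 c.2
    show Commute (c : G) ((q : N) : G)
    rw [← hj]
    have hqb : Commute b ((q : N) : G) := (Subgroup.mem_centralizer_singleton_iff.1 (q : N).2).symm
    exact hqb.zpow_left j
  let m : C × (P : Subgroup N) →* G := MonoidHom.noncommCoprod C.subtype
    (N.subtype.comp (P : Subgroup N).subtype) hCc
  have hm : ∀ z, m z = (z.1 : G) * ((z.2 : N) : G) := fun z => rfl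
  obtain ⟨n, hn⟩ := IsPGroup.iff_card.1 P.isPGroup'
  obtain ⟨k, hk1, hk2⟩ := Nat.chineseRemainder
    (n := r) (m := p ^ (n + e)) (hbp.pow_right _) 1 0
  have hkb : ∀ c : C, (c : G) ^ k = c := by
    intro c
    conv_rhs => rw [← pow_one (c : G)]
    refine pow_eq_pow_iff_modEq.2 (hk1.of_dvd ?_)
    exact (orderOf_dvd_iff_pow_eq_one.2 (by
      obtain ⟨j, hj⟩ := Subgroup.mem_zpowers_iff.1 c.2
      rw [← hj, ← zpow_natCast, ← zpow_mul, mul_comm, zpow_mul, zpow_natCast,
        pow_orderOf_eq_one, one_zpow]))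
  have hkp : ∀ q : G, q ^ p ^ (n + e) = 1 → q ^ k = 1 := by
    intro q hq
    obtain ⟨t, ht⟩ := (Nat.modEq_zero_iff_dvd.1 hk2)
    rw [ht, pow_mul, hq, one_pow]
  have hPk : ∀ q : (P : Subgroup N), ((q : N) : G) ^ k = 1 := by
    intro q
    refine hkp _ ?_
    have h1 : q ^ p ^ (n + e) = 1 := by rw [pow_add, pow_mul, ← hn, pow_card_eq_one', one_pow]
    exact congrArg (fun z : (P : Subgroup N) => ((z : N) : G)) h1
  have hmk : ∀ z, m z ^ k = (z.1 : G) := by
    intro z
    rw [hm, Commute.mul_pow (show Commute (z.1 : G) ((z.2 : N) : G) from hCc z.1 z.2), hPk, mul_one]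
    exact hkb z.1
  have hinj : Function.Injective m := by
    intro z w h
    have h1 : z.1 = w.1 := Subtype.ext (by rw [← hmk z, ← hmk w, h])
    refine Prod.ext h1 ?_
    rw [hm, hm, h1, mul_left_cancel_iff] at h
    exact Subtype.ext (Subtype.ext h)
  let E : Subgroup G := m.range
  let eE : C × (P : Subgroup N) ≃* E := MonoidHom.ofInjective hinj
  let proj : E →* C := (MonoidHom.fst C _).comp eE.symm.toMonoidHom
  have hproj : ∀ y : E, (proj y : G) = (y : G) ^ k := by
    intro y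
    obtain ⟨z, rfl⟩ := eE.surjective y
    show (((eE.symm (eE z)).1 : C) : G) = _
    rw [eE.symm_apply_apply]
    exact (hmk z).symm
  have hEN : E ≤ N := by
    rintro _ ⟨z, rfl⟩
    rw [hm]
    refine N.mul_mem ?_ (z.2 : N).2
    obtain ⟨j, hj⟩ := Subgroup.mem_zpowers_iff.1 z.1.2
    rw [← hj, Subgroup.mem_centralizer_singleton_iff]
    exact ((Commute.refl b).zpow_left j).eq
  have hcardE : Nat.card E = r * p ^ n := by
    rw [← Nat.card_congr eE.toEquiv, Nat.card_prod, Nat.card_zpowers, hn]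
  have hbE : b ∈ E := ⟨(⟨b, Subgroup.mem_zpowers b⟩, 1), by simp [hm]⟩
  have helem : Cfsg.IsElementary p E := by
    refine ⟨⟨b, hbE⟩, ?_, ?_, n, ?_⟩
    · rw [Subgroup.mem_center_iff]
      intro y
      exact Subtype.ext (Subgroup.mem_centralizer_singleton_iff.1 (hEN y.2))
    · rwa [← Subgroup.orderOf_coe]
    · have h1 := Subgroup.index_mul_card (Subgroup.zpowers (⟨b, hbE⟩ : E))
      rw [Nat.card_zpowers, ← Subgroup.orderOf_coe, hcardE, mul_comm r] at h1
      exact Nat.eq_of_mul_eq_mul_right (orderOf_pos b) h1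
  -- the function on `E`
  let ψ : E → ℂ := fun y => if (y : G) ^ k = b then (r : ℂ) else 0
  have hψ : ψ = ∑ χ : Cfsg.IrrCharacter C,
      conj ((χ : C → ℂ) ⟨b, Subgroup.mem_zpowers b⟩) • fun y : E => (χ : C → ℂ) (proj y) := by
    funext y
    simp only [Finset.sum_apply, Pi.smul_apply, smul_eq_mul]
    rw [Finset.sum_congr rfl (fun χ _ => mul_comm _ _)]
    rw [CfsgLib.Char.sum_mul_conj]
    have hcent : Subgroup.centralizer ({proj y} : Set C) = ⊤ := by
      rw [eq_top_iff]
      intro c _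
      rw [Subgroup.mem_centralizer_singleton_iff]
      exact zpowers_mul_comm c (proj y)
    rw [hcent, Subgroup.card_top, Nat.card_zpowers]
    refine if_congr ?_ rfl rfl
    rw [← hproj]
    constructor
    · intro h
      exact isConj_iff.2 ⟨1, Subtype.ext (by simp [h])⟩
    · intro h
      obtain ⟨c, hc⟩ := isConj_iff.1 h
      rw [zpowers_mul_comm c, mul_inv_cancel_right] at hc
      exact congrArg Subtype.val hc
  have hmem : Cfsg.indFun E ψ ∈ Submodule.span ℤ (gens G p) := by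
    rw [hψ, CfsgLib.Char.indFun_sum]
    refine Submodule.sum_mem _ fun χ _ => Submodule.subset_span ?_
    rw [CfsgLib.Char.indFun_smul]
    refine ⟨_, E, _, ?_, helem,
      CfsgLib.Char.IsCharacter.comp (CfsgLib.Char.IsIrrCharacter.isCharacter χ.2) proj, rfl⟩
    rw [← CfsgLib.Char.IsIrrCharacter.apply_inv χ.2]
    exact CfsgLib.Char.IsGeneralizedCharacter.isIntegral_apply
      (CfsgLib.Char.IsIrrCharacter.isGeneralizedCharacter χ.2) _
  have hψc : Cfsg.IsClassFunction E ψ := by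
    intro y u
    have : (proj (u * y * u⁻¹)) = proj y := by
      rw [map_mul, map_mul, map_inv, zpowers_mul_comm (proj u), mul_inv_cancel_right]
    simp only [ψ, ← hproj, this]
  let f : G → ℤ := fun g => ∑ i : G ⧸ E,
    if h : i.out⁻¹ * g * i.out ∈ E then (if (i.out⁻¹ * g * i.out) ^ k = b then (r : ℤ) else 0) else 0
  have hf : ∀ g, Cfsg.indFun E ψ g = (f g : ℂ) := by
    intro g
    rw [CfsgLib.Char.indFun_eq_sum_transversal E ψ hψc]
    push_cast [f]
    refine Finset.sum_congr rfl fun i _ => ?_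
    split_ifs with h1 h2
    · rw [CfsgLib.Char.extendByZero_apply_mem E ψ h1]; simp [ψ, h2]
    · rw [CfsgLib.Char.extendByZero_apply_mem E ψ h1]; simp [ψ, h2]
    · rw [CfsgLib.Char.extendByZero_of_notMem E ψ h1]; simp
  refine ⟨f, ?_, ?_⟩
  · rw [← funext hf]; exact hmem
  -- the value at `x`
  have hxk : x ^ k = b := by
    rw [hxab, hab.mul_pow, hkp a (by rw [pow_add, mul_comm, pow_mul, hae, one_pow]),
      one_mul]
    exact hkb ⟨b, Subgroup.mem_zpowers b⟩
  have hbfix : ∀ u : G, u ∈ N → b • (u : G ⧸ E) = (u : G ⧸ E) := by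
    intro u hu
    rw [CfsgLib.CharDeep.Perm.mk_fixed_iff, mul_assoc,
      ← (Subgroup.mem_centralizer_singleton_iff.1 hu), inv_mul_cancel_left]
    exact hbE
  let t : Set (G ⧸ E) := {q | q ∈ orbit N ((1 : G) : G ⧸ E) ∧ a • q = q}
  have hval : Cfsg.indFun E ψ x = (r : ℂ) * (Nat.card t : ℂ) := by
    have hmem_iff : ∀ u : G, ((u : G ⧸ E) ∈ orbit N ((1 : G) : G ⧸ E) ↔ u ∈ N) := by
      intro u
      constructor
      · rintro ⟨v, hv⟩
        have hv' : (((v : G) * 1 : G) : G ⧸ E) = u := hv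
        rw [mul_one, QuotientGroup.eq] at hv'
        have := N.mul_mem v.2 (hEN hv')
        rwa [mul_inv_cancel_left] at this
      · intro hu
        exact ⟨⟨u, hu⟩, by show ((u * 1 : G) : G ⧸ E) = _; rw [mul_one]⟩
    refine CfsgLib.CharDeep.Perm.indFun_eq_card E ψ x t r ?_ ?_
    · rintro u ⟨hu, hau⟩
      have huN := (hmem_iff u).1 hu
      have hxu : x • (u : G ⧸ E) = u := by rw [hxab, mul_smul, hbfix u huN, hau]
      rw [CfsgLib.CharDeep.Perm.mk_fixed_iff] at hxu
      rw [CfsgLib.Char.extendByZero_apply_mem E ψ hxu]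
      refine if_pos ?_
      show (u⁻¹ * x * u) ^ k = b
      rw [show u⁻¹ * x * u = MulAut.conj u⁻¹ x by simp, ← map_pow, hxk, MulAut.conj_apply, inv_inv,
        mul_assoc, ← Subgroup.mem_centralizer_singleton_iff.1 huN, inv_mul_cancel_left]
    · intro u hu
      by_cases hxu : u⁻¹ * x * u ∈ E
      · rw [CfsgLib.Char.extendByZero_apply_mem E ψ hxu]
        refine if_neg ?_
        show ¬ (u⁻¹ * x * u) ^ k = b
        intro hk'
        rw [show u⁻¹ * x * u = MulAut.conj u⁻¹ x by simp, ← map_pow, hxk, MulAut.conj_apply,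
          inv_inv, mul_assoc, inv_mul_eq_iff_eq_mul] at hk'
        apply hu
        have huN : u ∈ N := Subgroup.mem_centralizer_singleton_iff.2 hk'.symm
        exact ⟨(hmem_iff u).2 huN, smul_eq_self_of_mem_zpowers ha
          ((CfsgLib.CharDeep.Perm.mk_fixed_iff E x u).2 hxu)⟩
      · exact CfsgLib.Char.extendByZero_of_notMem E ψ hxu
  have hfx : f x = ((r * Nat.card t : ℕ) : ℤ) := by
    have h1 := (hf x).symm.trans hval
    exact_mod_cast h1
  rw [hfx, Int.natCast_dvd_natCast, hp.dvd_mul]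
  rintro (h | h)
  · exact hp.not_dvd_one (hbp ▸ Nat.dvd_gcd h dvd_rfl)
  · have hmod : Nat.card t ≡ E.relIndex N [MOD p] :=
      CfsgLib.CharDeep.Perm.card_fixed_orbit_modEq (p := p) E N hEN a haN ⟨e, hae⟩
    refine P.not_dvd_index (((hmod.dvd_iff dvd_rfl).1 h).trans (Subgroup.index_dvd_of_le ?_))
    intro q hq
    rw [Subgroup.mem_subgroupOf]
    exact ⟨(1, ⟨q, hq⟩), by simp [hm]⟩
/-- Local form of Brauer's induction theorem. -/
theorem brauer_local (G : Type*) [Group G] [Fintype G] (p : ℕ) (hp : p.Prime) :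
    ∃ (m : ℤ) (l : List ((E : Subgroup G) × ((E → ℂ) × ℤ))), ¬ (p : ℤ) ∣ m ∧
      (∀ t ∈ l, Cfsg.IsElementary p t.1 ∧ Cfsg.IsCharacter t.1 t.2.1) ∧
      (fun _ : G => (m : ℂ)) = (l.map fun t => (t.2.2 : ℂ) • Cfsg.indFun t.1 t.2.1).sum := by
  classical
  have hmul : ∀ f ∈ (Submodule.span ℤ (gens G p)).toAddSubgroup,
      ∀ g ∈ (Submodule.span ℤ (gens G p)).toAddSubgroup,
      f * g ∈ (Submodule.span ℤ (gens G p)).toAddSubgroup := by
    intro f hf g hg
    have hle : Submodule.span ℤ (gens G p) * Submodule.span ℤ (gens G p) ≤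
        Submodule.span ℤ (gens G p) := by
      rw [Submodule.span_mul_span]
      refine Submodule.span_mono ?_
      rintro _ ⟨u, hu, v, hv, rfl⟩
      exact gens_mul hu hv
    exact hle (Submodule.mul_mem_mul hf hg)
  obtain ⟨m, hm, hmem⟩ :=
    CfsgLib.CharDeep.Perm.exists_const_of_local (R := ℂ) p hp _ hmul (exists_local p hp)
  obtain ⟨n, z, v, hsum⟩ := (Submodule.mem_span_set' (R := ℤ)).1 hmem
  choose a E φ ha hE hφ hv using fun i => (v i).2
  obtain ⟨b, hb⟩ := descend (fun i => Cfsg.indFun (E i) (φ i))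
    (fun i => CfsgLib.Char.IsCharacter.isGeneralizedCharacter
      (CfsgLib.Char.IsCharacter.indFun (E i) (hφ i)))
    (fun _ : G => (m : ℂ)) (CfsgLib.Char.IsGeneralizedCharacter.intCast m)
    (fun i => (z i : ℂ) * a i) (fun i => (isIntegral_algebraMap (x := z i)).mul (ha i)) (by
      rw [← hsum]
      exact Finset.sum_congr rfl fun i _ => by
        rw [hv i, mul_smul, Int.cast_smul_eq_zsmul ℂ])
  refine ⟨m, List.ofFn (fun i : Fin n => ⟨E i, φ i, b i⟩), hm, ?_, ?_⟩
  · intro t ht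
    obtain ⟨i, rfl⟩ := List.mem_ofFn.1 ht
    exact ⟨hE i, hφ i⟩
  · rw [List.map_ofFn, List.sum_ofFn, hb]
    rfl

end CfsgLib.CharDeep.Ind
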