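import Mathlib
import Cfsg.Agent.Lib.Char.Brauer
import Cfsg.Agent.Lib.Char.Complete
import Cfsg.Agent.Lib.BlockReg.Regular

/-! Indicators of sections are integral combinations of irreducible characters. -/

namespace CfsgLib.CharDeep.PiSection

open CfsgLib
open scoped ComplexConjugate

variable {G : Type*} [Group G] {m n : ℕ}

/-- The exponent cutting out the part of order prime to `m`. -/
noncomputable def expo (hcop : Nat.Coprime m n) : ℕ := (Nat.chineseRemainder hcop 0 1).1

theorem dvd_expo (hcop : Nat.Coprime m n) : m ∣ expo hcop :=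
  Nat.modEq_zero_iff_dvd.1 (Nat.chineseRemainder hcop 0 1).2.1

theorem expo_modEq (hcop : Nat.Coprime m n) : expo hcop ≡ 1 [MOD n] :=
  (Nat.chineseRemainder hcop 0 1).2.2

theorem pow_expo_of_dvd_left (hcop : Nat.Coprime m n) {x : G} (h : orderOf x ∣ m) :
    x ^ expo hcop = 1 :=
  orderOf_dvd_iff_pow_eq_one.1 (h.trans (dvd_expo hcop))

theorem pow_expo_of_dvd_right (hcop : Nat.Coprime m n) {x : G} (h : orderOf x ∣ n) :
    x ^ expo hcop = x := by
  conv_rhs => rw [← pow_one x]
  rw [pow_eq_pow_iff_modEq]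
  exact (expo_modEq hcop).of_dvd h

theorem orderOf_pow_expo (hcop : Nat.Coprime m n) (x : G) (hx : orderOf x ∣ m * n) :
    orderOf (x ^ expo hcop) ∣ n := by
  apply orderOf_dvd_of_pow_eq_one
  rw [← pow_mul]
  exact orderOf_dvd_iff_pow_eq_one.1 (hx.trans (Nat.mul_dvd_mul_right (dvd_expo hcop) n))

/-- The factor of order prime to `m` is the power by `expo`. -/
theorem exists_decomp_iff (hcop : Nat.Coprime m n) (g x : G) (hx : orderOf x ∣ m * n)
    (hall : ∀ y : G, orderOf y ∣ m * n) :
    (∃ v : G, IsConj v g ∧ (∃ u : G, x = u * v ∧ Commute u v ∧ Nat.Coprime (orderOf u) n ∧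
      Nat.Coprime (orderOf v) m)) ↔ IsConj (x ^ expo hcop) g := by
  constructor
  · rintro ⟨v, hv, u, rfl, huv, hu, hv'⟩
    rwa [huv.mul_pow, pow_expo_of_dvd_left hcop (hu.dvd_of_dvd_mul_right (hall u)),
      pow_expo_of_dvd_right hcop (hv'.dvd_of_dvd_mul_left (hall v)), one_mul]
  · intro h
    refine ⟨x ^ expo hcop, h, x * (x ^ expo hcop)⁻¹, (inv_mul_cancel_right _ _).symm, ?_, ?_, ?_⟩
    · exact ((Commute.refl x).pow_right _).mul_left ((Commute.refl _).inv_left)
    · refine hcop.coprime_dvd_left ?_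
      apply orderOf_dvd_of_pow_eq_one
      rw [(((Commute.refl x).pow_right _).inv_right).mul_pow, inv_pow, ← pow_mul, mul_inv_eq_one]
      have h2 : m ≡ expo hcop * m [MOD n * m] := by
        simpa using ((expo_modEq hcop).mul_right' m).symm
      rw [pow_eq_pow_iff_modEq]
      exact h2.of_dvd (mul_comm m n ▸ hx)
    · exact (hcop.symm.coprime_dvd_left (orderOf_pow_expo hcop x hx))

theorem isIntegral_nat (c : ℕ) : IsIntegral ℤ (c : ℂ) := by
  have h := isIntegral_algebraMap (R := ℤ) (A := ℂ) (x := (c : ℤ))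
  simpa using h

section Nilpotent

variable {E : Type*} [Group E] [Finite E] [Group.IsNilpotent E]

/-- In a nilpotent group the power map is an endomorphism with the expected commutation. -/
theorem exists_hom (hcop : Nat.Coprime m n) (hE : Nat.card E ∣ m * n) :
    (∀ x y : E, (x * y) ^ expo hcop = x ^ expo hcop * y ^ expo hcop) ∧
    ∀ x y : E, y ^ expo hcop = 1 → Commute (x ^ expo hcop) y := by
  obtain ⟨φ⟩ := ((Group.isNilpotent_of_finite_tfae (G := E)).out 0 4 rfl rfl).1 ‹_›
  have hcomp : ∀ (q : (Nat.card E).primeFactors) (P : Sylow q E),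
      (∀ z : P, z ^ expo hcop = 1) ∨ ∀ z : P, z ^ expo hcop = z := by
    intro q P
    have hq := Fact.mk (Nat.prime_of_mem_primeFactors q.2)
    obtain ⟨k, hk⟩ := IsPGroup.iff_card.1 P.isPGroup'
    have hdvd : (q : ℕ) ^ k ∣ m * n := hk ▸ ((P : Subgroup E).card_subgroup_dvd_card.trans hE)
    by_cases hm : (q : ℕ) ∣ m
    · left
      intro z
      refine pow_expo_of_dvd_left hcop ((orderOf_dvd_natCard z).trans ?_)
      show Nat.card (P : Subgroup E) ∣ m
      rw [hk]
      exact (Nat.Coprime.pow_left k (hcop.coprime_dvd_left hm)).dvd_of_dvd_mul_right hdvd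
    · right
      intro z
      refine pow_expo_of_dvd_right hcop ((orderOf_dvd_natCard z).trans ?_)
      show Nat.card (P : Subgroup E) ∣ n
      rw [hk]
      exact (Nat.Coprime.pow_left k ((hq.out.coprime_iff_not_dvd).2 hm)).dvd_of_dvd_mul_left hdvd
  constructor
  · intro x y
    apply φ.symm.injective
    simp only [map_pow, map_mul]
    funext q P
    simp only [Pi.pow_apply, Pi.mul_apply]
    rcases hcomp q P with h | h <;> simp only [h, mul_one]
  · intro x y hy
    apply Commute.of_map φ.symm.injective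
    have hy' : φ.symm y ^ expo hcop = 1 := by rw [← map_pow, hy, map_one]
    rw [map_pow, commute_iff_eq]
    funext q P
    have hy'' := congrFun (congrFun hy' q) P
    simp only [Pi.pow_apply, Pi.one_apply] at hy''
    simp only [Pi.pow_apply, Pi.mul_apply]
    rcases hcomp q P with h | h
    · simp only [h, one_mul, mul_one]
    · rw [h] at hy''
      simp only [hy'', one_mul, mul_one]

variable [Fintype E]

/-- Integrality of the coefficients in the nilpotent case. -/
theorem isIntegral_classInner (hcop : Nat.Coprime m n) (hE : Nat.card E ∣ m * n) (S : Set E)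
    [DecidablePred (· ∈ S)] (ψ : Cfsg.IrrCharacter E) :
    IsIntegral ℤ (Cfsg.classInner (fun x => if x ^ expo hcop ∈ S then (n : ℂ) else 0) (ψ : E → ℂ)) := by
  classical
  obtain ⟨hmul, hcomm⟩ := exists_hom hcop hE
  let π : E →* E := MonoidHom.mk' (fun x => x ^ expo hcop) hmul
  have hidem : ∀ x, π (π x) = π x := fun x =>
    pow_expo_of_dvd_right hcop (orderOf_pow_expo hcop x ((orderOf_dvd_natCard x).trans hE))
  let f : π.range × π.ker ≃ E :=
    { toFun := fun vu => vu.1 * vu.2
      invFun := fun x => (⟨π x, x, rfl⟩, ⟨(π x)⁻¹ * x, by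
        rw [MonoidHom.mem_ker, map_mul, map_inv, hidem, inv_mul_cancel]⟩)
      left_inv := by
        rintro ⟨⟨_, a, rfl⟩, ⟨u, hu⟩⟩
        have h : π (π a * u) = π a := by
          rw [map_mul, hidem, MonoidHom.mem_ker.1 hu, mul_one]
        simp only [h, inv_mul_cancel_left]
      right_inv := fun x => mul_inv_cancel_left _ _ }
  have hcardE : Nat.card E = Nat.card π.range * Nat.card π.ker := by
    rw [← Nat.card_congr f, Nat.card_prod]
  have hrn : Nat.card π.range ∣ n := by
    refine Nat.Coprime.dvd_of_dvd_mul_left ?_ (π.range.card_subgroup_dvd_card.trans hE)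
    refine Nat.coprime_of_dvd fun q hq hq1 hq2 => ?_
    haveI := Fact.mk hq
    obtain ⟨⟨_, a, rfl⟩, ha⟩ := exists_prime_orderOf_dvd_card' q hq1
    rw [← Subgroup.orderOf_coe] at ha
    have h1 := hidem a
    rw [show π (π a) = (π a) ^ expo hcop from rfl,
      pow_expo_of_dvd_left hcop (show orderOf (π a) ∣ m by rw [show orderOf (π a) = q from ha]; exact hq2)] at h1
    exact hq.one_lt.ne (by rw [← ha]; show 1 = orderOf (π a); rw [← h1, orderOf_one])
  obtain ⟨c, hc⟩ := hrn
  have key : Cfsg.classInner (fun x => if x ^ expo hcop ∈ S then (n : ℂ) else 0) (ψ : E → ℂ) =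
      ∑ v : π.range, if (v : E) ∈ S then
        (c : ℂ) * conj ((Nat.card π.ker : ℂ)⁻¹ * ∑ u : π.ker, (ψ : E → ℂ) ((v : E) * u)) else 0 := by
    unfold Cfsg.classInner
    rw [← Equiv.sum_comp f, Fintype.sum_prod_type, Finset.mul_sum]
    refine Finset.sum_congr rfl fun v _ => ?_
    have hv : ∀ u : π.ker, (f (v, u)) ^ expo hcop = (v : E) := by
      intro u
      obtain ⟨_, a, rfl⟩ := v
      show π (π a * u) = π a
      rw [map_mul, hidem, MonoidHom.mem_ker.1 u.2, mul_one]
    simp only [hv]
    split_ifs with h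
    · rw [hcardE, hc, map_mul, map_inv₀, map_natCast, map_sum, ← Finset.mul_sum]
      have h1 : (Nat.card π.range : ℂ) ≠ 0 := Nat.cast_ne_zero.2 Nat.card_pos.ne'
      have h2 : (Nat.card π.ker : ℂ) ≠ 0 := Nat.cast_ne_zero.2 Nat.card_pos.ne'
      push_cast
      field_simp
      rfl
    · simp
  rw [key]
  refine IsIntegral.sum _ fun v _ => ?_
  split_ifs with h
  · refine (isIntegral_nat c).mul ?_
    refine IsIntegral.map (starRingEnd ℂ).toIntAlgHom ?_
    refine BlockReg.isIntegral_avg_trace π.ker (v : E) (fun u hu => ?_) ψ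
    obtain ⟨_, a, rfl⟩ := v
    exact hcomm a u hu
  · exact isIntegral_zero

end Nilpotent

variable [Fintype G]

/-- The section indicator, scaled by `n`, has algebraic integer coefficients. -/
theorem isIntegral_section (hmn : Nat.card G = m * n) (hcop : Nat.Coprime m n) (g : G)
    [DecidablePred fun x : G => IsConj (x ^ expo hcop) g] (χ : Cfsg.IrrCharacter G) :
    IsIntegral ℤ (Cfsg.classInner (fun x => if IsConj (x ^ expo hcop) g then (n : ℂ) else 0)
      (χ : G → ℂ)) := by
  classical
  set θ : G → ℂ := fun x => if IsConj (x ^ expo hcop) g then (n : ℂ) else 0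
  have hθ : Cfsg.IsClassFunction G θ := by
    intro x h
    refine if_congr ?_ rfl rfl
    rw [conj_pow]
    exact ⟨fun e => (isConj_iff.2 ⟨h, rfl⟩ : IsConj (x ^ expo hcop) _).trans e,
      fun e => (isConj_iff.2 ⟨h, rfl⟩ : IsConj (x ^ expo hcop) _).symm.trans e⟩
  obtain ⟨l, hl, heq⟩ := Char.exists_eq_comb_res θ hθ
  rw [heq]
  clear heq
  induction l with
  | nil => simp [Char.classInner_zero_left, isIntegral_zero]
  | cons t l ih =>
    rw [List.map_cons, List.sum_cons, Char.classInner_add_left, Char.classInner_smul_left]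
    refine ((show IsIntegral ℤ ((t.2.2 : ℤ) : ℂ) from isIntegral_algebraMap).mul ?_).add (ih fun s hs => hl s (List.mem_cons_of_mem _ hs))
    obtain ⟨p, hp, hel, hch⟩ := hl t List.mem_cons_self
    haveI : Group.IsNilpotent t.1 := Char.isNilpotent_of_isElementary hp hel
    have hE : Nat.card t.1 ∣ m * n := hmn ▸ t.1.card_subgroup_dvd_card
    have hres : (fun e : t.1 => θ e) =
        fun e => if e ^ expo hcop ∈ {y : t.1 | IsConj (y : G) g} then (n : ℂ) else 0 := by
      funext e
      simp only [θ, Set.mem_setOf_eq, SubgroupClass.coe_pow]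
    have hcl : Cfsg.IsClassFunction t.1 (fun e : t.1 => θ e) := fun a b => hθ a b
    have hexp : (fun e => t.2.1 e * θ e) = ∑ ψ : Cfsg.IrrCharacter t.1,
        Cfsg.classInner (fun e : t.1 => θ e) (ψ : t.1 → ℂ) • (fun e => t.2.1 e * (ψ : t.1 → ℂ) e) := by
      funext e
      have := congrFun (Char.IsClassFunction.eq_sum_classInner hcl) e
      simp only [Finset.sum_apply, Pi.smul_apply, smul_eq_mul] at this ⊢
      rw [this, Finset.mul_sum]
      exact Finset.sum_congr rfl fun ψ _ => by ring
    rw [hexp, Char.indFun_sum, Char.classInner_sum_left]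
    refine IsIntegral.sum _ fun ψ _ => ?_
    rw [Char.indFun_smul, Char.classInner_smul_left, hres]
    refine IsIntegral.mul ?_ ?_
    · have e := isIntegral_classInner hcop hE {y : t.1 | IsConj (y : G) g} ψ
      refine cast (congrArg (fun f => IsIntegral ℤ (Cfsg.classInner f (ψ : t.1 → ℂ))) (funext fun x => ?_)) e
      split_ifs <;> rfl
    obtain ⟨k, hk⟩ := Char.IsCharacter.exists_nat_classInner (Char.IsCharacter.indFun t.1
      (Char.IsCharacter.mul hch (Char.IsIrrCharacter.isCharacter ψ.2))) χ.2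
    rw [show (fun e => t.2.1 e * (ψ : t.1 → ℂ) e) = t.2.1 * (ψ : t.1 → ℂ) from rfl, hk]
    exact isIntegral_nat k

/-- Frobenius: the number of elements with order prime to `n` is a multiple of `m`. -/
theorem dvd_card_primeTo (hmn : Nat.card G = m * n) (hcop : Nat.Coprime m n) :
    m ∣ Nat.card {x : G // x ^ expo hcop = 1} := by
  classical
  have h := isIntegral_section hmn hcop 1 Char.principalIrr
  have hval : Cfsg.classInner (fun x : G => if IsConj (x ^ expo hcop) 1 then (n : ℂ) else 0)
      ((Char.principalIrr : Cfsg.IrrCharacter G) : G → ℂ) =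
      (Nat.card {x : G // x ^ expo hcop = 1} : ℂ) / m := by
    unfold Cfsg.classInner
    have hm : (m : ℂ) ≠ 0 ∧ (n : ℂ) ≠ 0 := by
      have := Nat.card_pos (α := G)
      rw [hmn] at this
      exact ⟨Nat.cast_ne_zero.2 (Nat.pos_of_mul_pos_right this).ne',
        Nat.cast_ne_zero.2 (Nat.pos_of_mul_pos_left this).ne'⟩
    simp only [isConj_one_left, isConj_one_right, Char.principalIrr_apply, map_one, mul_one]
    rw [← Finset.sum_filter, Finset.sum_const, nsmul_eq_mul, hmn,
      Nat.card_eq_fintype_card (α := {x : G // x ^ expo hcop = 1}), Fintype.card_subtype]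
    obtain ⟨h1, h2⟩ := hm
    push_cast
    field_simp
  rw [hval] at h
  refine Char.dvd_of_isIntegral_natCast_div ?_ h
  intro h0
  have := Nat.card_pos (α := G)
  rw [hmn, h0, Nat.zero_mul] at this
  exact this.false

end CfsgLib.CharDeep.PiSection
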