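import Mathlib
import Cfsg.Agent.Lib.CharDeep.PiSection
import Cfsg.Agent.Lib.Char.Kernel
import Cfsg.Agent.Lib.Char.Exceptional

/-! The Brauer–Suzuki criterion for a normal complement of a Hall subgroup. -/

namespace CfsgLib.CharDeep.HallCompl

open CfsgLib
open scoped ComplexConjugate

/-- A cyclic group times a commuting `q`-group is elementary. -/
theorem isElementary_sup {G : Type*} [Group G] [Finite G] {q : ℕ} (hq : q.Prime) (x : G)
    (Q : Subgroup G) (hQ : IsPGroup q Q) (hc : ∀ y ∈ Q, Commute x y) :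
    Cfsg.IsElementary q ↥(Subgroup.zpowers x ⊔ Q) ∧
      Nat.card ↥(Subgroup.zpowers x ⊔ Q) ∣ orderOf x * Nat.card Q := by
  haveI := Fact.mk hq
  set E := Subgroup.zpowers x ⊔ Q with hE
  have hcomm : ∀ (a : Subgroup.zpowers x) (b : Q), Commute ((Subgroup.zpowers x).subtype a) (Q.subtype b) := by
    rintro ⟨_, i, rfl⟩ b
    exact (hc b b.2).zpow_left i
  let f := MonoidHom.noncommCoprod (Subgroup.zpowers x).subtype Q.subtype hcomm
  have hr : f.range = E := by
    simp only [f]
    rw [MonoidHom.noncommCoprod_range, Subgroup.range_subtype, Subgroup.range_subtype]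
  have hdvd : Nat.card E ∣ orderOf x * Nat.card Q := by
    rw [← hr, ← Nat.card_zpowers, ← Nat.card_prod]
    exact Subgroup.card_range_dvd f
  refine ⟨?_, hdvd⟩
  obtain ⟨k, r, hr', hxk⟩ := Nat.exists_eq_pow_mul_and_not_dvd (orderOf_pos x).ne' q hq.one_lt.ne'
  obtain ⟨j, hj⟩ := IsPGroup.iff_card.1 hQ
  have hxE : x ∈ E := Subgroup.mem_sup_left (Subgroup.mem_zpowers x)
  let y : E := ⟨x ^ q ^ k, E.pow_mem hxE _⟩
  have hyo : orderOf y = r := by
    rw [← Subgroup.orderOf_coe]
    show orderOf (x ^ q ^ k) = r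
    rw [orderOf_pow' _ (pow_ne_zero _ hq.ne_zero), hxk, Nat.gcd_mul_right_left,
      Nat.mul_div_cancel_left _ (pow_pos hq.pos _)]
  refine ⟨y, ?_, ?_, ?_⟩
  · rw [Subgroup.mem_center_iff]
    have hEc : E ≤ Subgroup.centralizer ({x} : Set G) := by
      refine sup_le (Subgroup.zpowers_le.2 ?_) fun z hz => ?_
      · exact Subgroup.mem_centralizer_singleton_iff.2 rfl
      · exact Subgroup.mem_centralizer_singleton_iff.2 (hc z hz).eq.symm
    intro z
    apply Subtype.ext
    exact ((show Commute (z : G) x from Subgroup.mem_centralizer_singleton_iff.1 (hEc z.2)).pow_right _).eq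
  · rw [hyo]
    exact ((hq.coprime_iff_not_dvd).2 hr').symm
  · have h1 : r * (Subgroup.zpowers y).index ∣ r * q ^ (k + j) := by
      rw [← hyo, ← Nat.card_zpowers, Subgroup.card_mul_index, Nat.card_zpowers, hyo]
      calc Nat.card E ∣ orderOf x * Nat.card Q := hdvd
        _ = r * q ^ (k + j) := by rw [hxk, hj, pow_add]; ring
    have hr0 : 0 < r := Nat.pos_of_ne_zero fun h => hr' (h ▸ dvd_zero q)
    obtain ⟨i, -, hi⟩ := (Nat.dvd_prime_pow hq).1 (Nat.dvd_of_mul_dvd_mul_left hr0 h1)
    exact ⟨i, hi⟩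

/-- A generalized character of norm one and positive degree is irreducible. -/
theorem isIrr_of_norm_one {G : Type*} [Group G] [Fintype G] {θ : G → ℂ}
    (hθ : Cfsg.IsGeneralizedCharacter G θ) (h1 : Cfsg.classInner θ θ = 1)
    {d : ℕ} (hd : θ 1 = d) : Cfsg.IsIrrCharacter G θ := by
  classical
  choose c hc using fun χ : Cfsg.IrrCharacter G => CharExc.exists_int_classInner hθ χ.2
  have hexp := Char.IsClassFunction.eq_sum_classInner (Char.IsGeneralizedCharacter.isClassFunction hθ)
  simp only [hc] at hexp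
  have hnorm : ∑ χ, c χ * c χ = 1 := by
    rw [hexp, Char.classInner_sum_smul_sum_smul] at h1
    simp only [map_intCast] at h1
    exact_mod_cast h1
  obtain ⟨χ, hχ⟩ : ∃ χ, c χ ≠ 0 := by
    by_contra hcon
    push Not at hcon
    simp [hcon] at hnorm
  have hrest : ∀ ψ, ψ ≠ χ → c ψ = 0 := by
    intro ψ hψ
    by_contra h0
    have h2 : ∑ t ∈ ({χ, ψ} : Finset _), c t * c t ≤ 1 :=
      hnorm ▸ Finset.sum_le_sum_of_subset_of_nonneg (Finset.subset_univ _)
        (fun t _ _ => mul_self_nonneg _)
    rw [Finset.sum_pair hψ.symm] at h2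
    have := mul_self_pos.2 hχ
    have := mul_self_pos.2 h0
    omega
  have hval : c χ * c χ = 1 := by
    rw [← hnorm]
    exact (Finset.sum_eq_single (f := fun t => c t * c t) χ (fun ψ _ h => by simp [hrest ψ h])
      (fun h => absurd (Finset.mem_univ χ) h)).symm
  have heq : θ = (c χ : ℂ) • (χ : G → ℂ) := by
    rw [hexp]
    exact Finset.sum_eq_single χ (fun ψ _ h => by rw [hrest ψ h]; simp)
      (fun h => absurd (Finset.mem_univ χ) h)
  obtain ⟨e, he, hχ1⟩ := Char.IsIrrCharacter.exists_degree χ.2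
  have hpos : c χ = 1 := by
    rcases Int.eq_one_or_neg_one_of_mul_eq_one hval with h | h
    · exact h
    · exfalso
      have h2 := congrFun heq 1
      rw [hd, Pi.smul_apply, hχ1, h, smul_eq_mul] at h2
      have h3 : (d : ℤ) = -1 * e := by exact_mod_cast h2
      omega
  rw [heq, hpos, Int.cast_one, one_smul]
  exact χ.2

open PiSection

/-- The complement theorem. -/
theorem exists_complement {G : Type*} [Group G] [Fintype G] (H : Subgroup G) [Fintype H]
    (hHall : Nat.Coprime (Nat.card H) H.index)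
    (hfus : ∀ x ∈ H, ∀ y ∈ H, IsConj x y → ∃ h ∈ H, h * x * h⁻¹ = y)
    (helem : ∀ (E : Subgroup G) (p : ℕ), p.Prime → Cfsg.IsElementary p E → Nat.card E ∣ Nat.card H →
      ∃ g : G, E.map (MulAut.conj g).toMonoidHom ≤ H) :
    ∃ K : Subgroup G, K.Normal ∧ K ⊔ H = ⊤ ∧ K ⊓ H = ⊥ := by
  classical
  set n := Nat.card H with hn
  set m := H.index with hm
  have hmn : Nat.card G = m * n := by rw [mul_comm, hn, hm, H.card_mul_index]
  have hcop : Nat.Coprime m n := hHall.symm
  set e := expo hcop with he
  have hall : ∀ x : G, orderOf x ∣ m * n := fun x => hmn ▸ orderOf_dvd_natCard x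
  have hmpos : 0 < m := Nat.pos_of_ne_zero Subgroup.index_ne_zero_of_finite
  have hHe : ∀ h : H, (h : G) ^ e = h := fun h =>
    pow_expo_of_dvd_right hcop (by rw [Subgroup.orderOf_coe]; exact orderOf_dvd_natCard h)
  have hconjInv : ∀ g x : G, IsConj x (g * x * g⁻¹) := fun g x => isConj_iff.2 ⟨g, rfl⟩
  -- every `π`-part meets `H`
  have hmeet : ∀ x : G, ∃ h : H, IsConj (x ^ e) h := by
    intro x
    obtain ⟨hel, hcard⟩ := isElementary_sup Nat.prime_two (x ^ e) ⊥ IsPGroup.of_bot
      (fun y hy => by rw [Subgroup.mem_bot.1 hy]; exact Commute.one_right _)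
    rw [Subgroup.card_bot, mul_one] at hcard
    obtain ⟨g, hg⟩ := helem _ 2 Nat.prime_two hel (hcard.trans (orderOf_pow_expo hcop x (hall x)))
    exact ⟨⟨g * x ^ e * g⁻¹, hg ⟨x ^ e, Subgroup.mem_sup_left (Subgroup.mem_zpowers _), rfl⟩⟩,
      hconjInv g _⟩
  choose tr htr using hmeet
  have hstar : ∀ {F : H → ℂ}, Cfsg.IsClassFunction H F → ∀ (x : G) (h : H),
      IsConj (x ^ e) h → F (tr x) = F h := by
    intro F hF x h hh
    obtain ⟨c, hc, hce⟩ := hfus h h.2 (tr x) (tr x).2 (hh.symm.trans (htr x))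
    rw [show tr x = ⟨c, hc⟩ * h * ⟨c, hc⟩⁻¹ from Subtype.ext hce.symm]
    exact hF h ⟨c, hc⟩
  -- the counting
  let A : H → ℕ := fun h => (Finset.univ.filter fun x : G => IsConj (x ^ e) (h : G)).card
  let k : H → ℕ := fun h => (Finset.univ.filter fun h' : H => IsConj (h : G) (h' : G)).card
  have hkpos : ∀ h, 0 < k h := fun h =>
    Finset.card_pos.2 ⟨h, Finset.mem_filter.2 ⟨Finset.mem_univ _, IsConj.refl _⟩⟩
  have hA : ∀ h : H, m * k h ≤ A h := by
    intro h
    set C := Subgroup.centralizer ({(h : G)} : Set G) with hC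
    set CH := Subgroup.centralizer ({h} : Set H) with hCH
    -- the `π`-part of `C` is seen in `H`
    have hprime : ∀ q : ℕ, q.Prime → q ∣ n → ∀ j, q ^ j ∣ Nat.card C → q ^ j ∣ Nat.card CH := by
      intro q hq hqn j hj
      haveI := Fact.mk hq
      obtain ⟨Q, hQ⟩ := Sylow.exists_subgroup_card_pow_prime q hj
      set Q' := Q.map C.subtype with hQ'
      have hQcard : Nat.card Q' = q ^ j := by
        rw [hQ', Subgroup.card_map_of_injective C.subtype_injective, hQ]
      have hQc : ∀ y ∈ Q', Commute (h : G) y := by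
        rintro _ ⟨y, _, rfl⟩
        exact (Subgroup.mem_centralizer_singleton_iff.1 y.2 : (y : G) * h = h * y).symm
      obtain ⟨hel, hcard⟩ := isElementary_sup hq (h : G) Q' (IsPGroup.of_card hQcard) hQc
      have hEn : Nat.card ↥(Subgroup.zpowers (h : G) ⊔ Q') ∣ n := by
        refine Nat.Coprime.dvd_of_dvd_mul_left ?_ (hmn ▸ Subgroup.card_subgroup_dvd_card _)
        refine Nat.Coprime.coprime_dvd_left hcard (Nat.Coprime.mul_left ?_ ?_)
        · refine hcop.symm.coprime_dvd_left ?_
          rw [Subgroup.orderOf_coe]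
          exact orderOf_dvd_natCard h
        · rw [hQcard]
          exact Nat.Coprime.pow_left _ (hcop.symm.coprime_dvd_left hqn)
      obtain ⟨g, hg⟩ := helem _ q hq hel hEn
      have hgh : g * (h : G) * g⁻¹ ∈ H :=
        hg ⟨h, Subgroup.mem_sup_left (Subgroup.mem_zpowers _), rfl⟩
      obtain ⟨c, hc, hce⟩ := hfus _ hgh h h.2 (hconjInv g h).symm
      let φ : Q' →* H :=
        ((MulAut.conj (c * g)).toMonoidHom.comp Q'.subtype).codRestrict H (fun y => by
          show c * g * (y : G) * (c * g)⁻¹ ∈ H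
          rw [show c * g * (y : G) * (c * g)⁻¹ = c * (g * y * g⁻¹) * c⁻¹ by group]
          exact H.mul_mem (H.mul_mem hc (hg ⟨y, Subgroup.mem_sup_right y.2, rfl⟩)) (H.inv_mem hc))
      have hφ : ∀ y, φ y ∈ CH := by
        intro y
        rw [hCH, Subgroup.mem_centralizer_singleton_iff]
        apply Subtype.ext
        show c * g * (y : G) * (c * g)⁻¹ * h = h * (c * g * (y : G) * (c * g)⁻¹)
        have hh' : (h : G) = c * g * h * (c * g)⁻¹ := by
          conv_lhs => rw [← hce]
          group
        have hy : (y : G) * h = h * y := (hQc y y.2).eq.symm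
        calc c * g * (y : G) * (c * g)⁻¹ * h
            = c * g * (y : G) * (c * g)⁻¹ * (c * g * h * (c * g)⁻¹) := by rw [← hh']
          _ = c * g * ((y : G) * h) * (c * g)⁻¹ := by group
          _ = c * g * ((h : G) * y) * (c * g)⁻¹ := by rw [hy]
          _ = (c * g * h * (c * g)⁻¹) * (c * g * y * (c * g)⁻¹) := by group
          _ = _ := by rw [← hh']
      have hinj : Function.Injective (φ.codRestrict CH hφ) := fun a b hab =>
        Subtype.ext ((MulAut.conj (c * g)).injective (congrArg (fun z : CH => ((z : H) : G)) hab))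
      rw [← hQcard]
      exact Subgroup.card_dvd_of_injective _ hinj
    set n' := Nat.gcd (Nat.card C) n
    set m' := Nat.gcd (Nat.card C) m
    have hCsplit : Nat.card C = m' * n' := by
      rw [← Nat.Coprime.gcd_mul _ hcop, Nat.gcd_eq_left (hmn ▸ C.card_subgroup_dvd_card)]
    have hn' : n' ≤ Nat.card CH := by
      refine Nat.le_of_dvd Nat.card_pos ((Nat.dvd_iff_prime_pow_dvd_dvd _ _).2 fun q j hq hj => ?_)
      rcases Nat.eq_zero_or_pos j with rfl | hj0
      · simp
      exact hprime q hq ((dvd_pow_self q hj0.ne').trans (hj.trans (Nat.gcd_dvd_right _ _))) j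
        (hj.trans (Nat.gcd_dvd_left _ _))
    have hcop' : Nat.Coprime m' n' := (hcop.coprime_dvd_left (Nat.gcd_dvd_right _ _)).coprime_dvd_right
      (Nat.gcd_dvd_right _ _)
    -- elements killed by `e` in `C`
    set N := (Finset.univ.filter fun u : C => (u : G) ^ e = 1)
    have hN : m' ≤ N.card := by
      have hd := dvd_card_primeTo (G := C) hCsplit hcop'
      have hiff : ∀ u : C, u ^ expo hcop' = 1 ↔ (u : G) ^ e = 1 := by
        intro u
        have ho : orderOf (u : G) ∣ m' * n' := by
          rw [Subgroup.orderOf_coe, ← hCsplit]; exact orderOf_dvd_natCard u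
        have h1 : ∀ (a b : ℕ) (hab : Nat.Coprime a b), orderOf (u : G) ∣ a * b →
            (u : G) ^ expo hab = 1 → orderOf (u : G) ∣ a := by
          intro a b hab hoab hu
          refine (Nat.Coprime.dvd_of_dvd_mul_right ?_ hoab)
          refine Nat.coprime_of_dvd fun q hq hq1 hq2 => ?_
          have h2 := (hq1.trans (orderOf_dvd_of_pow_eq_one hu))
          have h3 := (expo_modEq hab).of_dvd hq2
          have h4 : 1 ≡ 0 [MOD q] := h3.symm.trans (Nat.modEq_zero_iff_dvd.2 h2)
          exact hq.not_dvd_one (Nat.modEq_zero_iff_dvd.1 h4)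
        rw [← Subtype.coe_inj, SubgroupClass.coe_pow, Subgroup.coe_one]
        constructor
        · intro hu
          exact pow_expo_of_dvd_left hcop ((h1 _ _ hcop' ho hu).trans (Nat.gcd_dvd_right _ _))
        · intro hu
          refine pow_expo_of_dvd_left hcop' (Nat.dvd_gcd ?_ (h1 _ _ hcop (hall _) hu))
          rw [Subgroup.orderOf_coe]; exact orderOf_dvd_natCard u
      simp only [hiff, Nat.card_eq_fintype_card, Fintype.card_subtype] at hd
      exact Nat.le_of_dvd (Finset.card_pos.2 ⟨1, Finset.mem_filter.2 ⟨Finset.mem_univ _, by simp⟩⟩) hd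
    -- fibres
    have hfib : ∀ z ∈ Finset.univ.filter (IsConj (h : G)),
        (Finset.univ.filter fun x : G => x ^ e = z).card = N.card := by
      intro z hz
      obtain ⟨g, rfl⟩ := isConj_iff.1 (Finset.mem_filter.1 hz).2
      refine (Finset.card_bij (fun (u : C) _ => g * ((u : G) * h) * g⁻¹) ?_ ?_ ?_).symm
      · intro u hu
        have huc : Commute (u : G) h := Subgroup.mem_centralizer_singleton_iff.1 u.2
        refine Finset.mem_filter.2 ⟨Finset.mem_univ _, ?_⟩
        rw [conj_pow, huc.mul_pow, (Finset.mem_filter.1 hu).2, one_mul, hHe]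
      · intro u _ u' _ huu
        exact Subtype.ext (mul_right_cancel (mul_left_cancel (mul_right_cancel huu)))
      · intro x hx
        have hx' : (g⁻¹ * x * g) ^ e = h := by
          have := (Finset.mem_filter.1 hx).2
          rw [show g⁻¹ * x * g = MulAut.conj g⁻¹ x by simp, ← map_pow, this]
          simp [mul_assoc]
        have hcx : Commute (g⁻¹ * x * g) (h : G) := hx' ▸ (Commute.refl _).pow_right e
        have hmem : g⁻¹ * x * g * (h : G)⁻¹ ∈ C :=
          Subgroup.mem_centralizer_singleton_iff.2 (hcx.mul_left (Commute.refl _).inv_left).eq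
        refine ⟨⟨_, hmem⟩, Finset.mem_filter.2 ⟨Finset.mem_univ _, ?_⟩, by group⟩
        show (g⁻¹ * x * g * (h : G)⁻¹) ^ e = 1
        rw [hcx.inv_right.mul_pow, hx', inv_pow, hHe, mul_inv_cancel]
    have hAeq : A h = (Finset.univ.filter (IsConj (h : G))).card * N.card := by
      show (Finset.univ.filter fun x : G => IsConj (x ^ e) (h : G)).card = _
      rw [Finset.card_eq_sum_card_fiberwise (f := fun x : G => x ^ e)
        (t := Finset.univ.filter (IsConj (h : G)))
        (fun x hx => Finset.mem_filter.2 ⟨Finset.mem_univ _, (Finset.mem_filter.1 hx).2.symm⟩),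
        ← smul_eq_mul, ← Finset.sum_const]
      refine Finset.sum_congr rfl fun z hz => ?_
      rw [← hfib z hz, Finset.filter_filter]
      refine congrArg Finset.card (Finset.filter_congr fun x _ => ?_)
      exact ⟨fun e' => e'.2, fun e' => ⟨e'.symm ▸ (Finset.mem_filter.1 hz).2.symm, e'⟩⟩
    have hkc : k h = Nat.card {y : H // IsConj h y} := by
      rw [Nat.card_eq_fintype_card, Fintype.card_subtype]
      refine congrArg Finset.card (Finset.filter_congr fun y _ => ⟨fun hy => ?_, fun hy => ?_⟩)
      · obtain ⟨c, hc, hce⟩ := hfus _ h.2 _ y.2 hy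
        exact isConj_iff.2 ⟨⟨c, hc⟩, Subtype.ext hce⟩
      · exact H.subtype.map_isConj hy
    have e1 : Nat.card {y : H // IsConj h y} * Nat.card CH = n :=
      Char.card_isConj_mul_card_centralizer h
    have e2 : (Finset.univ.filter (IsConj (h : G))).card * Nat.card C = m * n := by
      rw [← hmn, ← Char.card_isConj_mul_card_centralizer (h : G),
        Nat.card_eq_fintype_card (α := {x : G // IsConj (h : G) x}), Fintype.card_subtype]
    refine Nat.le_of_mul_le_mul_right ?_ (Nat.card_pos (α := CH))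
    rw [hAeq, hkc, mul_assoc, e1, ← e2, hCsplit, mul_assoc]
    exact Nat.mul_le_mul_left _ (Nat.mul_le_mul hN hn')
  have hsum : ∀ {F : H → ℂ}, Cfsg.IsClassFunction H F →
      ∑ x : G, F (tr x) = ∑ h : H, (A h : ℂ) / (k h : ℂ) * F h := by
    intro F hF
    have hstep : ∀ x : G, F (tr x) =
        ∑ h : H, if IsConj (x ^ e) (h : G) then F h / (k h : ℂ) else 0 := by
      intro x
      rw [← Finset.sum_filter]
      have hset : ∀ h ∈ Finset.univ.filter (fun h : H => IsConj (x ^ e) (h : G)),
          F h / (k h : ℂ) = F (tr x) / (k (tr x) : ℂ) := by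
        intro h hh
        have hh' := (Finset.mem_filter.1 hh).2
        rw [hstar hF x h hh']
        congr 2
        refine congrArg Finset.card (Finset.filter_congr fun y _ => ?_)
        exact ⟨fun e' => ((htr x).symm.trans hh').trans e', fun e' => (hh'.symm.trans (htr x)).trans e'⟩
      have hk : (Finset.univ.filter (fun h : H => IsConj (x ^ e) (h : G))).card = k (tr x) :=
        congrArg Finset.card (Finset.filter_congr fun y _ =>
          ⟨fun e' => (htr x).symm.trans e', fun e' => (htr x).trans e'⟩)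
      rw [Finset.sum_congr rfl hset, Finset.sum_const, hk, nsmul_eq_mul,
        mul_div_cancel₀ _ (Nat.cast_ne_zero.2 (hkpos _).ne')]
    simp only [hstep]
    rw [Finset.sum_comm]
    refine Finset.sum_congr rfl fun h _ => ?_
    rw [← Finset.sum_filter, Finset.sum_const, nsmul_eq_mul]
    show (A h : ℂ) * (F h / k h) = _
    ring
  have hAk : ∀ h : H, (A h : ℂ) / (k h : ℂ) = m := by
    have h1 := hsum (F := fun _ => 1) (fun _ _ => rfl)
    simp only [Finset.sum_const, Finset.card_univ, nsmul_eq_mul, mul_one] at h1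
    rw [← Nat.card_eq_fintype_card, hmn] at h1
    have h2 : ∑ h : H, (A h : ℝ) / (k h : ℝ) = ∑ _h : H, (m : ℝ) := by
      have h3 : ((∑ h : H, (A h : ℝ) / (k h : ℝ) : ℝ) : ℂ) = ((m * n : ℕ) : ℂ) := by
        push_cast
        rw [← h1]
        push_cast
        rfl
      rw [Finset.sum_const, Finset.card_univ, nsmul_eq_mul, ← Nat.card_eq_fintype_card, ← hn]
      rw [show ((m * n : ℕ) : ℂ) = (((n : ℝ) * (m : ℝ) : ℝ) : ℂ) by push_cast; ring] at h3
      exact_mod_cast h3
    have hle : ∀ h ∈ (Finset.univ : Finset H), (m : ℝ) ≤ (A h : ℝ) / (k h : ℝ) := fun h _ => by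
      rw [le_div_iff₀ (by exact_mod_cast hkpos h)]
      exact_mod_cast hA h
    intro h
    have := (Finset.sum_eq_sum_iff_of_le hle).1 h2.symm h (Finset.mem_univ _)
    have h4 : ((m : ℝ) : ℂ) = (((A h : ℝ) / (k h : ℝ) : ℝ) : ℂ) := congrArg _ this
    push_cast at h4
    exact h4.symm
  -- the extended characters
  have hirr : ∀ θ : Cfsg.IrrCharacter H, Cfsg.IsIrrCharacter G (fun x => (θ : H → ℂ) (tr x)) := by
    intro θ
    have hcl := Char.IsIrrCharacter.isClassFunction θ.2
    have htr1 : ∀ {F : H → ℂ}, Cfsg.IsClassFunction H F → F (tr 1) = F 1 := fun hF =>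
      hstar hF 1 1 (by rw [one_pow, Subgroup.coe_one])
    obtain ⟨d, -, hd⟩ := Char.IsIrrCharacter.exists_degree θ.2
    refine isIrr_of_norm_one ?_ ?_ (d := d) ((htr1 hcl).trans hd)
    · refine Char.isGeneralizedCharacter_of_elementary _ ?_ ?_
      · intro x g
        refine hstar hcl (g * x * g⁻¹) (tr x) ?_
        rw [conj_pow]
        exact (hconjInv g _).symm.trans (htr x)
      · intro E p hp hel
        haveI := Char.isNilpotent_of_isElementary hp hel
        obtain ⟨hmul, -⟩ := exists_hom (E := E) hcop (hmn ▸ E.card_subgroup_dvd_card)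
        let π : E →* E := MonoidHom.mk' (fun x => x ^ e) hmul
        let R : Subgroup G := π.range.map E.subtype
        have hRel : Cfsg.IsElementary p R := by
          have h1 := Char.isElementary_subgroup hp hel π.range
          let φ := π.range.equivMapOfInjective E.subtype E.subtype_injective
          obtain ⟨z, hz, hzc, j, hj⟩ := h1
          refine ⟨φ z, ?_, ?_, j, ?_⟩
          · rw [Subgroup.mem_center_iff]
            intro y
            obtain ⟨y, rfl⟩ := φ.surjective y
            rw [← map_mul, ← map_mul, Subgroup.mem_center_iff.1 hz y]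
          · rwa [MulEquiv.orderOf_eq]
          · rw [← hj, show φ z = φ.toMonoidHom z from rfl, ← MonoidHom.map_zpowers]
            exact Subgroup.index_map_equiv _ φ
        have hRn : Nat.card R ∣ n := by
          refine Nat.Coprime.dvd_of_dvd_mul_left ?_ (hmn ▸ R.card_subgroup_dvd_card)
          refine Nat.coprime_of_dvd fun q hq hq1 hq2 => ?_
          haveI := Fact.mk hq
          obtain ⟨⟨_, _, ⟨a, rfl⟩, rfl⟩, ha⟩ := exists_prime_orderOf_dvd_card' q hq1
          rw [← Subgroup.orderOf_coe] at ha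
          have h2 : q ∣ n := by
            rw [← ha]
            show orderOf ((a : G) ^ e) ∣ n
            exact orderOf_pow_expo hcop _ (hall _)
          exact hq.one_lt.ne' (Nat.eq_one_of_dvd_coprimes hcop hq2 h2)
        obtain ⟨g, hg⟩ := helem R p hp hRel hRn
        let c : E →* H := (((MulAut.conj g).toMonoidHom.comp E.subtype).comp π).codRestrict H
          (fun x => hg ⟨((π x : E) : G), ⟨π x, ⟨x, rfl⟩, rfl⟩, rfl⟩)
        have : (fun x : E => (θ : H → ℂ) (tr x)) = fun x => (θ : H → ℂ) (c x) := by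
          funext x
          refine hstar hcl x (c x) ?_
          exact hconjInv g _
        rw [this]
        exact Char.IsGeneralizedCharacter.comp (Char.IsIrrCharacter.isGeneralizedCharacter θ.2) c
    · have hF : Cfsg.IsClassFunction H (fun h => (θ : H → ℂ) h * conj ((θ : H → ℂ) h)) :=
        fun a b => by simp only [hcl a b]
      unfold Cfsg.classInner
      rw [hsum hF]
      simp only [hAk, ← Finset.mul_sum]
      have h1 := Char.classInner_irr_self θ.2
      unfold Cfsg.classInner at h1
      rw [inv_mul_eq_one₀ (Nat.cast_ne_zero.2 Nat.card_pos.ne')] at h1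
      rw [← h1, hmn, ← hn]
      have hm0 : (m : ℂ) ≠ 0 := Nat.cast_ne_zero.2 hmpos.ne'
      have hn0 : (n : ℂ) ≠ 0 := Nat.cast_ne_zero.2 Nat.card_pos.ne'
      push_cast
      field_simp
  -- the kernel
  choose d ρ hρ hρχ using fun θ : Cfsg.IrrCharacter H => hirr θ
  let K : Subgroup G := ⨅ θ : Cfsg.IrrCharacter H, MonoidHom.ker (ρ θ)
  have hker : ∀ x : G, x ∈ K ↔ x ^ e = 1 := by
    intro x
    have hiff : ∀ θ : Cfsg.IrrCharacter H,
        x ∈ MonoidHom.ker (ρ θ) ↔ (θ : H → ℂ) (tr x) = (θ : H → ℂ) 1 := by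
      intro θ
      rw [MonoidHom.mem_ker, show (1 : Module.End ℂ (Fin (d θ) → ℂ)) = LinearMap.id from rfl,
        ← Char.character_eq_degree_iff, ← Representation.char_one (ρ θ), hρχ θ]
      show (θ : H → ℂ) (tr x) = (θ : H → ℂ) (tr 1) ↔ _
      rw [show (θ : H → ℂ) (tr 1) = (θ : H → ℂ) 1 from
        hstar (Char.IsIrrCharacter.isClassFunction θ.2) 1 1 (by rw [one_pow, Subgroup.coe_one])]
    simp only [K, Subgroup.mem_iInf, hiff]
    constructor
    · intro hall'
      have h1 : IsConj (tr x) 1 := Char.isConj_of_forall_eq fun χ hχ => hall' ⟨χ, hχ⟩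
      rw [isConj_one_left] at h1
      have h2 := htr x
      rw [h1, Subgroup.coe_one, isConj_one_left] at h2
      exact h2
    · intro hx θ
      exact hstar (Char.IsIrrCharacter.isClassFunction θ.2) x 1 (by rw [hx, Subgroup.coe_one])
  refine ⟨K, Subgroup.normal_iInf_normal (fun θ => MonoidHom.normal_ker _), ?_⟩
  have hKcard : Nat.card K = m := by
    have h1 := hAk 1
    have hk1 : k 1 = 1 := by
      show (Finset.univ.filter fun h' : H => IsConj ((1 : H) : G) (h' : G)).card = 1
      rw [Finset.card_eq_one]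
      refine ⟨1, ?_⟩
      ext y
      simp [isConj_one_right, eq_comm]
    rw [hk1, Nat.cast_one, div_one, Nat.cast_inj] at h1
    rw [← h1, Nat.card_eq_fintype_card, Fintype.card_subtype]
    refine congrArg Finset.card (Finset.filter_congr fun x _ => ?_)
    rw [hker, Subgroup.coe_one, isConj_one_left]
  have hdisj : K ⊓ H = ⊥ := by
    rw [eq_bot_iff]
    rintro x ⟨hxK, hxH⟩
    have := hHe ⟨x, hxH⟩
    rw [(hker x).1 hxK] at this
    exact this.symm
  refine ⟨?_, hdisj⟩
  have hc : Subgroup.IsComplement' K H :=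
    Subgroup.isComplement'_of_card_mul_and_disjoint (by rw [hKcard, ← hn, hmn])
      (disjoint_iff.2 hdisj)
  exact hc.sup_eq_top

end CfsgLib.CharDeep.HallCompl
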