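import Mathlib
import Cfsg.Agent.Lib.CharDeep.Clifford

/-! Gallagher's correspondence. -/

namespace CfsgLib.CharDeep.Gal

open scoped ComplexConjugate
open CfsgLib
open CfsgLib.CharDeep.Cliff

variable {G : Type*} [Group G] [Fintype G]

/-- A squeeze: characters `c i` with positive weights `e i` whose weighted sum has norm `∑ e i ^ 2`
are pairwise distinct irreducible characters. -/
theorem norm_squeeze {ι : Type*} [Fintype ι] (c : ι → G → ℂ) (e : ι → ℕ) (he : ∀ i, 0 < e i)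
    (hc : ∀ i, Cfsg.IsCharacter G (c i)) (hne : ∀ i, c i ≠ 0)
    (h : Cfsg.classInner (∑ i, (e i : ℂ) • c i) (∑ i, (e i : ℂ) • c i) =
      ((∑ i, e i ^ 2 : ℕ) : ℂ)) :
    (∀ i, Cfsg.IsIrrCharacter G (c i)) ∧ ∀ i j, i ≠ j → Cfsg.classInner (c i) (c j) = 0 := by
  classical
  choose k hk using fun i j => Char.IsCharacter.exists_nat_classInner' (hc i) (hc j)
  simp only [Char.classInner_sum_left, Char.classInner_smul_left, Char.classInner_sum_right,
    Char.classInner_smul_right, map_natCast, hk] at h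
  norm_cast at h
  have hsym : ∀ i j, k i j = k j i := fun i j => by
    have h1 := congrArg conj (hk j i)
    rw [Char.classInner_conj_symm, map_natCast, hk] at h1
    exact_mod_cast h1
  have hkk : ∀ i, 0 < k i i := by
    intro i
    refine Nat.pos_of_ne_zero fun h0 => hne i ?_
    obtain ⟨m, hm⟩ := Char.IsCharacter.exists_nat_combination (hc i)
    have h1 := hk i i
    rw [hm, Char.classInner_sum_smul_sum_smul, h0] at h1
    simp only [map_natCast, ← Nat.cast_mul, ← Nat.cast_sum, Nat.cast_inj] at h1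
    rw [hm]
    refine Finset.sum_eq_zero fun φ _ => ?_
    have := (Finset.sum_eq_zero_iff.1 h1) φ (Finset.mem_univ φ)
    rw [mul_self_eq_zero] at this
    rw [this, Nat.cast_zero, zero_smul]
  have hsplit : ∀ i, e i * ∑ j, e j * k i j =
      e i ^ 2 * k i i + e i * ∑ j ∈ Finset.univ.erase i, e j * k i j := by
    intro i
    rw [← Finset.add_sum_erase _ _ (Finset.mem_univ i)]
    ring
  have h2 : ∀ i ∈ (Finset.univ : Finset ι), e i ^ 2 ≤ e i * ∑ j, e j * k i j := by
    intro i _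
    rw [hsplit]
    exact le_add_right (Nat.le_mul_of_pos_right _ (hkk i))
  have h' : ∑ i, e i * ∑ j, e j * k i j = ∑ i, e i ^ 2 := by
    rw [← h]
    exact Finset.sum_congr rfl fun i _ => congrArg (e i * ·)
      (Finset.sum_congr rfl fun j _ => by rw [hsym i j])
  have heq := (Finset.sum_eq_sum_iff_of_le h2).1 h'.symm
  have key : ∀ i, k i i = 1 ∧ ∀ j, j ≠ i → k i j = 0 := by
    intro i
    have h3 := heq i (Finset.mem_univ i)
    rw [hsplit] at h3
    have h4 : e i ^ 2 ≤ e i ^ 2 * k i i := Nat.le_mul_of_pos_right _ (hkk i)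
    have h5 : e i ^ 2 * k i i = e i ^ 2 := by omega
    have h6 : e i * ∑ j ∈ Finset.univ.erase i, e j * k i j = 0 := by omega
    refine ⟨Nat.eq_of_mul_eq_mul_left (pow_pos (he i) 2) (by rw [h5, mul_one]), fun j hj => ?_⟩
    have h7 := (Finset.sum_eq_zero_iff.1 ((mul_eq_zero.1 h6).resolve_left (he i).ne')) j
      (by simp [hj])
    exact (mul_eq_zero.1 h7).resolve_left (he j).ne'
  refine ⟨fun i => Char.IsCharacter.isIrrCharacter_of_classInner_self (hc i) ?_, fun i j hij => ?_⟩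
  · rw [hk, (key i).1, Nat.cast_one]
  · rw [hk, (key i).2 j hij.symm, Nat.cast_zero]

variable (N : Subgroup G) [N.Normal] [Fintype N]

/-- The generalised Gallagher correspondence. -/
theorem mul_bijection {φ θ : N → ℂ} (hφ : Cfsg.IsIrrCharacter N φ)
    (hφinv : ∀ g, CharTwist.conjFun N φ g = φ) (hθinv : ∀ g, CharTwist.conjFun N θ g = θ)
    (hprod : Cfsg.IsIrrCharacter N (φ * θ)) {χ : G → ℂ} (hχ : Cfsg.IsIrrCharacter G χ)
    (hext : ∀ n : N, χ n = θ n) :
    (∀ β, Cfsg.IsIrrCharacter G β → Cfsg.classInner (Cfsg.indFun N φ) β ≠ 0 →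
      Cfsg.IsIrrCharacter G (β * χ) ∧ Cfsg.classInner (Cfsg.indFun N (φ * θ)) (β * χ) ≠ 0) ∧
    (∀ β β', Cfsg.IsIrrCharacter G β → Cfsg.classInner (Cfsg.indFun N φ) β ≠ 0 →
      Cfsg.IsIrrCharacter G β' → Cfsg.classInner (Cfsg.indFun N φ) β' ≠ 0 →
      β * χ = β' * χ → β = β') ∧
    (∀ ψ, Cfsg.IsIrrCharacter G ψ → Cfsg.classInner (Cfsg.indFun N (φ * θ)) ψ ≠ 0 →
      ∃ β, Cfsg.IsIrrCharacter G β ∧ Cfsg.classInner (Cfsg.indFun N φ) β ≠ 0 ∧ β * χ = ψ) := by
  classical
  have hA : Cfsg.IsCharacter G (Cfsg.indFun N φ) :=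
    Char.IsCharacter.indFun N (isCharacter_irr hφ)
  obtain ⟨m, hm⟩ := Char.IsCharacter.exists_nat_combination hA
  let ι := {β : Cfsg.IrrCharacter G // m β ≠ 0}
  let c : ι → G → ℂ := fun i => (i.1 : G → ℂ) * χ
  have hm' : Cfsg.indFun N φ = ∑ i : ι, (m i.1 : ℂ) • (i.1 : G → ℂ) := by
    conv_lhs => rw [hm]
    rw [← Finset.sum_subtype (Finset.univ.filter fun β => m β ≠ 0) (by simp)
      (fun β : Cfsg.IrrCharacter G => (m β : ℂ) • (β : G → ℂ))]
    refine (Finset.sum_subset (Finset.filter_subset _ _) fun β _ hβ => ?_).symm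
    simp only [Finset.mem_filter, Finset.mem_univ, true_and, not_not] at hβ
    rw [hβ, Nat.cast_zero, zero_smul]
  have hprodind : Cfsg.indFun N (φ * θ) = ∑ i : ι, (m i.1 : ℂ) • c i := by
    rw [show φ * θ = fun n : N => φ n * χ n from funext fun n => by rw [hext n]; rfl,
      Char.indFun_mul_res N φ χ (Char.IsIrrCharacter.isClassFunction hχ), hm', Finset.sum_mul]
    simp only [c, smul_mul_assoc]
  have hprodinv : ∀ g, CharTwist.conjFun N (φ * θ) g = φ * θ := by
    intro g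
    funext n
    show CharTwist.conjFun N φ g n * CharTwist.conjFun N θ g n = _
    rw [hφinv, hθinv]
    rfl
  have hsum : ((∑ i : ι, m i.1 ^ 2 : ℕ) : ℂ) = (N.index : ℂ) := by
    have h := classInner_indFun_self N hφ hφinv
    rw [hm, Char.classInner_sum_smul_sum_smul] at h
    rw [← h, Nat.cast_sum]
    rw [← Finset.sum_subtype (Finset.univ.filter fun β => m β ≠ 0) (by simp)
      (fun β : Cfsg.IrrCharacter G => ((m β ^ 2 : ℕ) : ℂ))]
    rw [Finset.sum_subset (Finset.filter_subset _ _) (fun β _ hβ => by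
      simp only [Finset.mem_filter, Finset.mem_univ, true_and, not_not] at hβ
      simp [hβ])]
    refine Finset.sum_congr rfl fun β _ => ?_
    rw [map_natCast]; push_cast; ring
  obtain ⟨hirr, horth⟩ := norm_squeeze c (fun i : ι => m i.1) (fun i => Nat.pos_of_ne_zero i.2)
    (fun i => Char.IsCharacter.mul (isCharacter_irr i.1.2) (isCharacter_irr hχ))
    (fun i h0 => mul_ne_zero (Char.IsIrrCharacter.apply_one_ne_zero i.1.2)
      (Char.IsIrrCharacter.apply_one_ne_zero hχ) (congrFun h0 1))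
    (by rw [← hprodind, classInner_indFun_self N hprod hprodinv, hsum])
  have hmem : ∀ β (hβ : Cfsg.IsIrrCharacter G β), Cfsg.classInner (Cfsg.indFun N φ) β ≠ 0 →
      m ⟨β, hβ⟩ ≠ 0 := by
    intro β hβ h h0
    apply h
    rw [hm]
    exact (Char.classInner_sum_smul_irr (fun b => (m b : ℂ)) ⟨β, hβ⟩).trans (by simp [h0])
  have hval : ∀ i : ι, Cfsg.classInner (Cfsg.indFun N (φ * θ)) (c i) = (m i.1 : ℂ) := by
    intro i
    rw [hprodind, Char.classInner_sum_left, Finset.sum_eq_single i]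
    · rw [Char.classInner_smul_left, Char.classInner_irr_self (hirr i), mul_one]
    · intro j _ hj
      rw [Char.classInner_smul_left, horth j i hj, mul_zero]
    · simp
  refine ⟨fun β hβ h => ?_, fun β β' hβ h hβ' h' he => ?_, fun ψ hψ h => ?_⟩
  · refine ⟨hirr ⟨⟨β, hβ⟩, hmem β hβ h⟩, ?_⟩
    rw [show β * χ = c ⟨⟨β, hβ⟩, hmem β hβ h⟩ from rfl, hval]
    exact Nat.cast_ne_zero.2 (hmem β hβ h)
  · by_contra hne
    have h0 := horth ⟨⟨β, hβ⟩, hmem β hβ h⟩ ⟨⟨β', hβ'⟩, hmem β' hβ' h'⟩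
      (fun hh => hne (congrArg (fun i : ι => (i.1 : G → ℂ)) hh))
    simp only [c] at h0
    rw [← he, Char.classInner_irr_self (hirr ⟨⟨β, hβ⟩, hmem β hβ h⟩)] at h0
    exact one_ne_zero h0
  · obtain ⟨i, -, hi⟩ := Finset.exists_ne_zero_of_sum_ne_zero
      (show ∑ i : ι, (m i.1 : ℂ) * Cfsg.classInner (c i) ψ ≠ 0 by
        simpa [hprodind, Char.classInner_sum_left, Char.classInner_smul_left] using h)
    refine ⟨i.1, i.1.2, ?_, Char.eq_of_classInner_ne_zero (hirr i) hψ (right_ne_zero_of_mul hi)⟩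
    rw [hm, Char.classInner_sum_smul_irr (fun b => (m b : ℂ)) i.1]
    exact Nat.cast_ne_zero.2 i.2

/-- Gallagher: the characters over an extendible `θ`, via the quotient. -/
theorem quotient_bijection {χ : G → ℂ} (hχ : Cfsg.IsIrrCharacter G χ)
    (hN : Cfsg.IsIrrCharacter N (fun n : N => χ n)) :
    (∀ β, Cfsg.IsIrrCharacter (G ⧸ N) β →
      Cfsg.IsIrrCharacter G ((β ∘ QuotientGroup.mk' N) * χ) ∧
      Cfsg.classInner (fun n : N => ((β ∘ QuotientGroup.mk' N) * χ) n) (fun n : N => χ n) ≠ 0) ∧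
    (∀ β β', Cfsg.IsIrrCharacter (G ⧸ N) β → Cfsg.IsIrrCharacter (G ⧸ N) β' →
      (β ∘ QuotientGroup.mk' N) * χ = (β' ∘ QuotientGroup.mk' N) * χ → β = β') ∧
    (∀ ψ, Cfsg.IsIrrCharacter G ψ →
      Cfsg.classInner (fun n : N => ψ n) (fun n : N => χ n) ≠ 0 →
      ∃ β, Cfsg.IsIrrCharacter (G ⧸ N) β ∧ (β ∘ QuotientGroup.mk' N) * χ = ψ) := by
  classical
  have hone : Cfsg.IsIrrCharacter N (fun _ : N => (1 : ℂ)) := Char.isIrrCharacter_principal
  have hclχ := Char.IsIrrCharacter.isClassFunction hχ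
  have hchN := Char.IsCharacter.restrict (isCharacter_irr hχ) N
  obtain ⟨h1, h2, h3⟩ := mul_bijection N (φ := fun _ : N => (1 : ℂ)) (θ := fun n : N => χ n) hone
    (fun g => rfl) (fun g => conjFun_res N hclχ g)
    (by rw [show ((fun _ : N => (1 : ℂ)) * fun n : N => χ n) = fun n : N => χ n from
      funext fun n => one_mul _]; exact hN) hχ (fun n => rfl)
  have hover : ∀ {ψ : G → ℂ}, Cfsg.IsIrrCharacter G ψ → ∀ (f : N → ℂ), Cfsg.IsCharacter N f →
      (Cfsg.classInner (Cfsg.indFun N f) ψ ≠ 0 ↔ Cfsg.classInner (fun n : N => ψ n) f ≠ 0) := by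
    intro ψ hψ f hf
    rw [Char.classInner_indFun N f ψ (Char.IsIrrCharacter.isClassFunction hψ),
      classInner_comm_char hf (Char.IsCharacter.restrict (isCharacter_irr hψ) N)]
  have hinfl : ∀ β, Cfsg.IsIrrCharacter (G ⧸ N) β →
      Cfsg.IsIrrCharacter G (β ∘ QuotientGroup.mk' N) ∧
      Cfsg.classInner (Cfsg.indFun N (fun _ : N => (1 : ℂ))) (β ∘ QuotientGroup.mk' N) ≠ 0 := by
    intro β hβ
    have hi := CharTwist.isIrrCharacter_comp hβ (QuotientGroup.mk' N) (QuotientGroup.mk'_surjective N)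
    refine ⟨hi, (hover hi _ (isCharacter_irr hone)).2 ?_⟩
    have : (fun n : N => (β ∘ QuotientGroup.mk' N) n) = (β 1) • fun _ : N => (1 : ℂ) := by
      funext n
      simp [(QuotientGroup.eq_one_iff (n : G)).2 n.2]
    rw [this, Char.classInner_smul_left, Char.classInner_irr_self hone, mul_one]
    exact Char.IsIrrCharacter.apply_one_ne_zero hβ
  refine ⟨fun β hβ => ?_, fun β β' hβ hβ' he => ?_, fun ψ hψ h => ?_⟩
  · obtain ⟨hi, hn⟩ := h1 _ (hinfl β hβ).1 (hinfl β hβ).2
    refine ⟨hi, ?_⟩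
    have := (hover hi _ (Char.IsCharacter.mul (isCharacter_irr hone) hchN)).1 hn
    rwa [show ((fun _ : N => (1 : ℂ)) * fun n : N => χ n) = fun n : N => χ n from
      funext fun n => one_mul _] at this
  · have := h2 _ _ (hinfl β hβ).1 (hinfl β hβ).2 (hinfl β' hβ').1 (hinfl β' hβ').2 he
    funext q
    obtain ⟨g, rfl⟩ := QuotientGroup.mk'_surjective N q
    exact congrFun this g
  · obtain ⟨b, hb, hb1, rfl⟩ := h3 ψ hψ ((hover hψ _
      (Char.IsCharacter.mul (isCharacter_irr hone) hchN)).2 (by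
        rw [show ((fun _ : N => (1 : ℂ)) * fun n : N => χ n) = fun n : N => χ n from
          funext fun n => one_mul _]
        exact h))
    obtain ⟨e, -, he⟩ := res_eq_smul N hb hone (fun g => rfl)
      ((hover hb _ (isCharacter_irr hone)).1 hb1)
    obtain ⟨η, hη, rfl⟩ := CharTwist.exists_irr_quotient hb N (fun n hn => by
      have e1 := congrFun he ⟨n, hn⟩
      have e2 := congrFun he 1
      simp only [Pi.smul_apply, Subgroup.coe_one] at e1 e2
      rw [e1, e2])
    exact ⟨η, hη, rfl⟩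

/-- Averages over cosets. -/
noncomputable def cosetAvg (F : G → ℂ) : G ⧸ N → ℂ :=
  fun q => (Nat.card N : ℂ)⁻¹ * ∑ n : N, F ((n : G) * q.out)

theorem cosetAvg_mk (F : G → ℂ) (g : G) :
    cosetAvg N F (g : G ⧸ N) = (Nat.card N : ℂ)⁻¹ * ∑ n : N, F ((n : G) * g) := by
  unfold cosetAvg
  congr 1
  set g' := (g : G ⧸ N).out
  have h : g' * g⁻¹ ∈ N := by
    have h1 : g⁻¹ * g' ∈ N := QuotientGroup.eq.1 (QuotientGroup.out_eq' (g : G ⧸ N)).symm
    simpa [mul_assoc] using ‹N.Normal›.conj_mem _ h1 g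
  exact Fintype.sum_equiv (Equiv.mulRight (⟨g' * g⁻¹, h⟩ : N)) _ _ fun n => by simp [mul_assoc]

theorem isClassFunction_cosetAvg {F : G → ℂ} (hF : Cfsg.IsClassFunction G F) :
    Cfsg.IsClassFunction (G ⧸ N) (cosetAvg N F) := by
  intro q r
  obtain ⟨g, rfl⟩ := QuotientGroup.mk_surjective q
  obtain ⟨h, rfl⟩ := QuotientGroup.mk_surjective r
  rw [← QuotientGroup.mk_mul, ← QuotientGroup.mk_inv, ← QuotientGroup.mk_mul, cosetAvg_mk,
    cosetAvg_mk]
  congr 1
  refine (Fintype.sum_equiv (MulAut.conjNormal (H := N) h).toEquiv _ _ fun n => ?_).symm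
  rw [show F ((((MulAut.conjNormal (H := N) h).toEquiv n : N) : G) * (h * g * h⁻¹)) =
    F (h * ((n : G) * g) * h⁻¹) by simp [mul_assoc]]
  exact (hF _ h).symm

theorem classInner_cosetAvg (F : G → ℂ) (β : G ⧸ N → ℂ) [Fintype (G ⧸ N)] :
    Cfsg.classInner (cosetAvg N F) β = Cfsg.classInner F (β ∘ QuotientGroup.mk' N) := by
  classical
  unfold Cfsg.classInner
  have hcard : (Nat.card G : ℂ) = (Nat.card (G ⧸ N) : ℂ) * (Nat.card N : ℂ) := by
    rw [← Nat.cast_mul, Subgroup.card_eq_card_quotient_mul_card_subgroup N]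
  have hsum : ∑ g : G, F g * conj ((β ∘ QuotientGroup.mk' N) g) =
      ∑ q : G ⧸ N, ∑ n : N, F ((n : G) * q.out) * conj (β q) := by
    rw [← Finset.sum_fiberwise Finset.univ (fun g : G => (g : G ⧸ N))]
    refine Finset.sum_congr rfl fun q _ => ?_
    symm
    refine Finset.sum_bij (fun (n : N) _ => (n : G) * q.out) ?_ ?_ ?_ ?_
    · intro n _
      simp only [Finset.mem_filter, Finset.mem_univ, true_and, QuotientGroup.mk_mul,
        (QuotientGroup.eq_one_iff (n : G)).2 n.2, one_mul, QuotientGroup.out_eq']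
    · intro a _ b _ h
      exact Subtype.ext (mul_right_cancel h)
    · intro g hg
      simp only [Finset.mem_filter, Finset.mem_univ, true_and] at hg
      have h1 : q.out⁻¹ * g ∈ N := QuotientGroup.eq.1 ((QuotientGroup.out_eq' q).trans hg.symm)
      exact ⟨⟨g * q.out⁻¹, by simpa [mul_assoc] using ‹N.Normal›.conj_mem _ h1 q.out⟩,
        Finset.mem_univ _, by simp⟩
    · intro n _
      simp [(QuotientGroup.eq_one_iff (n : G)).2 n.2]
  rw [hsum, hcard, mul_inv, mul_assoc]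
  congr 1
  rw [Finset.mul_sum]
  refine Finset.sum_congr rfl fun q _ => ?_
  unfold cosetAvg
  rw [mul_assoc, Finset.sum_mul]

/-- Two characters extending the same irreducible character differ by a linear character. -/
theorem exists_linear_of_res_eq {χ ψ : G → ℂ} (hχ : Cfsg.IsIrrCharacter G χ)
    (hψ : Cfsg.IsIrrCharacter G ψ) (hN : Cfsg.IsIrrCharacter N (fun n : N => χ n))
    (h : ∀ n : N, ψ n = χ n) :
    ∃ l : G →* ℂˣ, (∀ n : N, l n = 1) ∧ ψ = fun g => (l g : ℂ) * χ g := by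
  obtain ⟨-, -, h3⟩ := quotient_bijection N hχ hN
  obtain ⟨β, hβ, rfl⟩ := h3 ψ hψ (by
    rw [show (fun n : N => ψ n) = fun n : N => χ n from funext h, Char.classInner_irr_self hN]
    exact one_ne_zero)
  have hβ1 : β 1 = 1 := by
    have := h 1
    simp only [Pi.mul_apply, Function.comp_apply, Subgroup.coe_one, map_one] at this
    exact (mul_eq_right₀ (Char.IsIrrCharacter.apply_one_ne_zero hχ)).1 this
  obtain ⟨f, hf⟩ := Char.IsCharacter.exists_linear (Char.IsIrrCharacter.isCharacter hβ) hβ1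
  refine ⟨f.comp (QuotientGroup.mk' N), fun n => ?_, funext fun g => ?_⟩
  · rw [MonoidHom.comp_apply, show QuotientGroup.mk' N (n : G) = 1 from
      (QuotientGroup.eq_one_iff (n : G)).2 n.2, map_one]
  · show β (QuotientGroup.mk' N g) * χ g = _
    rw [hf]
    rfl

end CfsgLib.CharDeep.Gal
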