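import Mathlib
import Cfsg.Prelude.Def_Characters

/-! Linear characters: bridge to homomorphisms, and extension from normal subgroups by transfer. -/

namespace CfsgLib.CharDeep.Lin

variable {G : Type*} [Group G]

theorem exists_hom_of_deg_one {μ : G → ℂ} (h : Cfsg.IsCharacter G μ) (h1 : μ 1 = 1) :
    ∃ f : G →* ℂˣ, ∀ g, μ g = (f g : ℂ) := by
  obtain ⟨n, ρ, rfl⟩ := h
  have hn : n = 1 := by
    have := ρ.char_one
    rw [h1, Module.finrank_fin_fun] at this
    exact_mod_cast this.symm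
  subst hn
  refine ⟨MonoidHom.toHomUnits ((LinearMap.det).comp ρ), fun g => ?_⟩
  have hdet : LinearMap.trace ℂ (Fin 1 → ℂ) (ρ g) = LinearMap.det (ρ g) := by
    rw [LinearMap.trace_eq_matrix_trace ℂ (Pi.basisFun ℂ (Fin 1)),
      ← LinearMap.det_toMatrix (Pi.basisFun ℂ (Fin 1)), Matrix.det_fin_one, Matrix.trace]
    simp
  simpa [Representation.character] using hdet

theorem isCharacter_hom (f : G →* ℂˣ) :
    Cfsg.IsCharacter G (fun g => (f g : ℂ)) ∧ (fun g => (f g : ℂ)) 1 = 1 := by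
  refine ⟨⟨1, ((algebraMap ℂ (Module.End ℂ (Fin 1 → ℂ))).toMonoidHom.comp
    ((Units.coeHom ℂ).comp f)), ?_⟩, by simp⟩
  funext g
  show LinearMap.trace ℂ (Fin 1 → ℂ) (algebraMap ℂ (Module.End ℂ (Fin 1 → ℂ)) (f g : ℂ)) = _
  rw [Algebra.algebraMap_eq_smul_one, map_smul]
  rw [show (1 : Module.End ℂ (Fin 1 → ℂ)) = LinearMap.id from rfl, LinearMap.trace_id]
  simp

/-- The map sending a homomorphism into `ℂˣ` to the underlying function. -/
def coeFun : (G →* ℂˣ) →* (G → ℂ) where
  toFun f := fun g => (f g : ℂ)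
  map_one' := by funext g; simp
  map_mul' a b := by funext g; simp

theorem coeFun_injective : Function.Injective (coeFun (G := G)) := by
  intro a b h
  ext g
  exact congrFun h g

theorem orderOf_coe (f : G →* ℂˣ) : orderOf (fun g => (f g : ℂ)) = orderOf f :=
  orderOf_injective (coeFun (G := G)) coeFun_injective f

section Transfer

variable {A : Type*} [CommGroup A] {N : Subgroup G} [N.Normal]

theorem invariant_hom {lam : N →* A} {g : G} (n : N)
    (hinv : ∀ (g : G) (n : N), lam ⟨g * n * g⁻¹, ‹N.Normal›.conj_mem (n : G) n.2 g⟩ = lam n) :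
    lam ⟨g⁻¹ * n * g, by simpa using ‹N.Normal›.conj_mem (n : G) n.2 g⁻¹⟩ = lam n := by
  conv_rhs => rw [← hinv g⁻¹ n]
  simp [inv_inv]

/-- The transfer of `ν` extends the `[G:H]`-th power of the invariant restriction of `ν` to `N`. -/
theorem exists_ext_pow_index [Finite G] (H : Subgroup G) (hNH : N ≤ H) (lam : N →* A)
    (hinv : ∀ (g : G) (n : N), lam ⟨g * n * g⁻¹, ‹N.Normal›.conj_mem (n : G) n.2 g⟩ = lam n)
    (ν : H →* A) (hν : ∀ n : N, ν ⟨n, hNH n.2⟩ = lam n) :
    ∃ F : G →* A, ∀ n : N, F n = lam n ^ H.index := by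
  classical
  refine ⟨MonoidHom.transfer ν, fun n => ?_⟩
  have := Fintype.ofFinite (G ⧸ H)
  have hper : ∀ q : G ⧸ H, Function.minimalPeriod ((n : G) • ·) q = 1 := by
    intro q
    rw [Function.minimalPeriod_eq_one_iff_isFixedPt]
    obtain ⟨x, rfl⟩ := QuotientGroup.mk_surjective q
    show (n : G) • (x : G ⧸ H) = x
    rw [MulAction.Quotient.smul_coe, eq_comm, QuotientGroup.eq, smul_eq_mul, ← mul_assoc]
    exact hNH (by simpa using ‹N.Normal›.conj_mem (n : G) n.2 x⁻¹)
  rw [MonoidHom.transfer_eq_prod_quotient_orbitRel_zpowers_quot,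
    Subgroup.index_eq_sum_minimalPeriod H (n : G), ← Finset.prod_pow_eq_pow_sum]
  refine Finset.prod_congr rfl fun q _ => ?_
  conv_rhs => rw [hper, pow_one, ← invariant_hom (g := q.out.out) n hinv, ← hν]
  congr 1
  exact Subtype.ext (by simp [hper])

/-- An invariant linear character extends as soon as it extends to a Sylow section for each
prime dividing its order. -/
theorem exists_ext_of_sylow (lam : N →* A)
    (hloc : ∀ p : ℕ, p.Prime → p ∣ orderOf lam → ∃ m : ℕ, ¬ p ∣ m ∧
      ∃ F : G →* A, ∀ n : N, F n = lam n ^ m) :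
    ∃ F : G →* A, ∀ n : N, F n = lam n := by
  let res : (G →* A) →* (N →* A) := MonoidHom.compHom' N.subtype
  let q : (N →* A) →* ((N →* A) ⧸ res.range) := QuotientGroup.mk' res.range
  have hext : ∀ m : ℕ, q lam ^ m = 1 ↔ ∃ F : G →* A, ∀ n : N, F n = lam n ^ m := by
    intro m
    rw [← map_pow, QuotientGroup.mk'_apply, QuotientGroup.eq_one_iff, MonoidHom.mem_range]
    exact exists_congr fun F => ⟨fun h n => DFunLike.congr_fun h n, fun h => MonoidHom.ext h⟩
  by_cases h1 : orderOf (q lam) = 1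
  · obtain ⟨F, hF⟩ := (hext 1).1 (by rw [← h1]; exact pow_orderOf_eq_one _)
    exact ⟨F, fun n => by simpa using hF n⟩
  exfalso
  obtain ⟨p, hp, hpd⟩ := Nat.exists_prime_and_dvd h1
  have hd : orderOf (q lam) ∣ orderOf lam := orderOf_map_dvd q lam
  obtain ⟨m, hm, hF⟩ := hloc p hp (hpd.trans hd)
  exact hm (hpd.trans (orderOf_dvd_of_pow_eq_one ((hext m).2 hF)))

theorem pow_index_eq_one_of_trivial (f : G →* A) (hf : ∀ n : N, f n = 1) : f ^ N.index = 1 := by
  ext g
  rw [MonoidHom.pow_apply, MonoidHom.one_apply, ← map_pow]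
  exact hf ⟨g ^ N.index, N.pow_index_mem g⟩

/-- Extension of coprime order. -/
theorem exists_ext_coprime [Finite G] (lam : N →* A)
    (hinv : ∀ (g : G) (n : N), lam ⟨g * n * g⁻¹, ‹N.Normal›.conj_mem (n : G) n.2 g⟩ = lam n)
    (hcop : Nat.Coprime N.index (orderOf lam)) :
    ∃ F : G →* A, (∀ n : N, F n = lam n) ∧ orderOf F = orderOf lam ∧
      ∀ F' : G →* A, (∀ n : N, F' n = lam n) → Nat.Coprime N.index (orderOf F') → F' = F := by
  obtain ⟨F₀, hF₀⟩ := exists_ext_pow_index N le_rfl lam hinv lam (fun n => rfl)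
  set o := orderOf lam
  have hlo : ∀ n : N, lam n ^ o = 1 := fun n => by
    rw [← MonoidHom.pow_apply, pow_orderOf_eq_one, MonoidHom.one_apply]
  have h1 : (F₀ ^ o) ^ N.index = 1 := pow_index_eq_one_of_trivial _ fun n => by
    rw [MonoidHom.pow_apply, hF₀, ← pow_mul, mul_comm, pow_mul, hlo, one_pow]
  obtain ⟨j, hj⟩ : ∃ j, N.index * N.index * j ≡ 1 [MOD o] := by
    rcases Nat.lt_or_ge 1 o with ho | ho
    · exact (Nat.exists_mul_mod_eq_one_of_coprime (hcop.mul_left hcop) ho).imp fun j hj => by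
        rw [Nat.ModEq, hj.2, Nat.one_mod_eq_one.2 (by omega)]
    · exact ⟨1, by rcases (show o = 0 ∨ o = 1 by omega) with h | h
                   · rw [h, Nat.coprime_zero_right] at hcop
                     rw [hcop, h]
                   · rw [h]; exact Nat.modEq_one⟩
  refine ⟨F₀ ^ (N.index * j), ?_, ?_, ?_⟩
  · intro n
    rw [MonoidHom.pow_apply, hF₀, ← pow_mul, ← mul_assoc]
    conv_rhs => rw [← pow_one (lam n)]
    rw [← MonoidHom.pow_apply, ← MonoidHom.pow_apply, pow_eq_pow_iff_modEq.2 hj]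
  · refine Nat.dvd_antisymm (orderOf_dvd_of_pow_eq_one ?_) ?_
    · rw [← pow_mul, show N.index * j * o = o * N.index * j by ring, pow_mul, pow_mul, h1, one_pow]
    · refine orderOf_dvd_of_pow_eq_one ?_
      ext n
      have hn : lam n = (F₀ ^ (N.index * j)) n := by
        rw [MonoidHom.pow_apply, hF₀, ← pow_mul, ← mul_assoc]
        conv_lhs => rw [← pow_one (lam n)]
        rw [← MonoidHom.pow_apply, ← MonoidHom.pow_apply, pow_eq_pow_iff_modEq.2 hj]
      rw [MonoidHom.pow_apply, hn, ← MonoidHom.pow_apply, pow_orderOf_eq_one]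
      rfl
  · intro F' hF' hc
    set F := F₀ ^ (N.index * j)
    have hFn : ∀ n : N, F n = lam n := by
      intro n
      rw [MonoidHom.pow_apply, hF₀, ← pow_mul, ← mul_assoc]
      conv_rhs => rw [← pow_one (lam n)]
      rw [← MonoidHom.pow_apply, ← MonoidHom.pow_apply, pow_eq_pow_iff_modEq.2 hj]
    have hFo : F ^ o = 1 := by
      rw [← pow_mul, show N.index * j * o = o * N.index * j by ring, pow_mul, pow_mul, h1, one_pow]
    have hd : orderOf (F' * F⁻¹) ∣ N.index :=
      orderOf_dvd_of_pow_eq_one (pow_index_eq_one_of_trivial _ fun n => by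
        rw [MonoidHom.mul_apply, MonoidHom.inv_apply, hF', hFn, mul_inv_cancel])
    have hd2 : orderOf (F' * F⁻¹) ∣ orderOf F' * o := orderOf_dvd_of_pow_eq_one (by
      rw [mul_pow, inv_pow, pow_mul, pow_orderOf_eq_one, one_pow, mul_comm (orderOf F') o, pow_mul,
        hFo, one_pow, inv_one, mul_one])
    have := Nat.eq_one_of_dvd_coprimes (hc.mul_right hcop) hd hd2
    exact eq_of_mul_inv_eq_one (orderOf_eq_one_iff.1 this)

end Transfer

end CfsgLib.CharDeep.Lin
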