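import Mathlib
import Cfsg.Prelude.Def_CharExt
import Cfsg.Agent.Lib.CharDeep.Gallagher
import Cfsg.Agent.Lib.CharDeep.LinearExt
import Cfsg.Agent.S0179

/-! A finite central extension over which an invariant irreducible character extends. -/

namespace CfsgLib.CharDeep.Cover

open scoped ComplexConjugate
open CfsgLib

section Schur

variable {H : Type*} [Group H] [Finite H] {V : Type*} [AddCommGroup V] [Module ℂ V]
  [FiniteDimensional ℂ V] {W : Type*} [AddCommGroup W] [Module ℂ W] [FiniteDimensional ℂ W]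

/-- Irreducible representations with the same character are equivalent. -/
theorem exists_linearEquiv (ρ : Representation ℂ H V) (σ : Representation ℂ H W) [ρ.IsIrreducible]
    [σ.IsIrreducible] (h : ρ.character = σ.character) :
    ∃ A : V ≃ₗ[ℂ] W, ∀ x v, A (ρ x v) = σ x (A v) := by
  cases nonempty_fintype H
  have h1 : Cfsg.classInner σ.character ρ.character = 1 := by
    rw [h]; exact Char.classInner_irr_self (Char.isIrrCharacter_character σ)
  rw [Char.classInner_character] at h1
  have h2 : Module.finrank ℂ (Representation.IntertwiningMap ρ σ) ≠ 0 := by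
    intro h0; simp [h0] at h1
  have : Nontrivial (Representation.IntertwiningMap ρ σ) :=
    Module.nontrivial_of_finrank_pos (R := ℂ) (Nat.pos_of_ne_zero h2)
  obtain ⟨f, hf⟩ := exists_ne (0 : Representation.IntertwiningMap ρ σ)
  have hb := (Representation.IsIrreducible.bijective_or_eq_zero f).resolve_right hf
  exact ⟨LinearEquiv.ofBijective f.toLinearMap hb, fun x v => f.isIntertwining ρ σ x v⟩

omit [FiniteDimensional ℂ V] in
theorem smul_one_inj [Nontrivial V] {c c' : ℂ} (h : c • (1 : Module.End ℂ V) = c' • 1) : c = c' :=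
  smul_left_injective ℂ one_ne_zero h

/-- For an irreducible character the determinantal character is computed by any representation
affording it. -/
theorem detChar_eq {n : ℕ} (ρ : Representation ℂ H (Fin n → ℂ)) [ρ.IsIrreducible] :
    Cfsg.detChar ρ.character = fun g => LinearMap.det (ρ g) := by
  have h : Cfsg.IsCharacter H ρ.character := ⟨n, ρ, rfl⟩
  unfold Cfsg.detChar
  rw [dif_pos h]
  funext g
  generalize hσ : Classical.choose (Classical.choose_spec h) = σ
  have hσc : σ.character = ρ.character := hσ ▸ Classical.choose_spec (Classical.choose_spec h)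
  cases nonempty_fintype H
  have : σ.IsIrreducible := by
    obtain ⟨m, τ, hτ, hτc⟩ := Char.IsCharacter.isIrrCharacter_of_classInner_self
      (G := H) ⟨_, σ, rfl⟩ (by
        rw [hσc]; exact Char.classInner_irr_self (Char.isIrrCharacter_character ρ))
    have hf : Module.finrank ℂ (Representation.IntertwiningMap τ σ) = 1 := by
      have h1 : Cfsg.classInner σ.character τ.character = 1 := by
        rw [hτc, hσc]; exact Char.classInner_irr_self (Char.isIrrCharacter_character ρ)
      rw [Char.classInner_character] at h1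
      exact_mod_cast h1
    have : Nontrivial (Representation.IntertwiningMap τ σ) :=
      Module.nontrivial_of_finrank_pos (R := ℂ) (by omega)
    obtain ⟨f, hfne⟩ := exists_ne (0 : Representation.IntertwiningMap τ σ)
    have hinj := (Representation.IsIrreducible.injective_or_eq_zero f).resolve_right hfne
    have hdim : Module.finrank ℂ (Fin m → ℂ) = Module.finrank ℂ (Fin (Classical.choose h) → ℂ) := by
      have := congrFun hτc 1
      simpa using this
    exact Char.isIrreducible_of_equiv (f.ofBijective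
      ⟨hinj, (LinearMap.injective_iff_surjective_of_finrank_eq_finrank hdim
        (f := f.toLinearMap)).1 hinj⟩)
  obtain ⟨A, hA⟩ := exists_linearEquiv ρ σ hσc.symm
  have : σ g = (A : (Fin n → ℂ) →ₗ[ℂ] _) ∘ₗ ρ g ∘ₗ (A.symm : _ →ₗ[ℂ] Fin n → ℂ) := by
    refine LinearMap.ext fun v => ?_
    simp [hA]
  rw [this, LinearMap.det_conj]

end Schur

variable {G : Type*} [Group G] [Finite G] (N : Subgroup G) [hN : N.Normal]
variable {d : ℕ} (ρ : Representation ℂ N (Fin d → ℂ))

/-- Pairs `(g, A)` with `A` intertwining `ρ` with its `g`-conjugate and with determinant a root of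
unity of bounded order. -/
def grp : Subgroup (G × (Module.End ℂ (Fin d → ℂ))ˣ) where
  carrier := {x | (∀ n : N, (x.2 : Module.End ℂ (Fin d → ℂ)) * ρ n =
      ρ ⟨x.1 * n * x.1⁻¹, hN.conj_mem n n.2 x.1⟩ * x.2) ∧
    LinearMap.det (x.2 : Module.End ℂ (Fin d → ℂ)) ^ Nat.card N = 1}
  one_mem' := ⟨fun n => by simp, by simp⟩
  mul_mem' := fun {x y} hx hy => by
    refine ⟨fun n => ?_, ?_⟩
    · simp only [Prod.snd_mul, Units.val_mul, Prod.fst_mul]
      rw [mul_assoc, hy.1, ← mul_assoc, hx.1, mul_assoc]
      congr 2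
      exact Subtype.ext (by simp [mul_assoc])
    · simp only [Prod.snd_mul, Units.val_mul, map_mul, mul_pow, hx.2, hy.2, mul_one]
  inv_mem' := fun {x} hx => by
    refine ⟨fun n => ?_, ?_⟩
    · have h := hx.1 ⟨x.1⁻¹ * n * x.1, by simpa using hN.conj_mem n n.2 x.1⁻¹⟩
      have he : (⟨x.1 * (x.1⁻¹ * n * x.1) * x.1⁻¹, hN.conj_mem _
          (by simpa using hN.conj_mem n n.2 x.1⁻¹) x.1⟩ : N) = n := Subtype.ext (by group)
      simp only [he] at h
      simp only [Prod.snd_inv, Prod.fst_inv]
      rw [Units.inv_mul_eq_iff_eq_mul, ← mul_assoc, Units.eq_mul_inv_iff_mul_eq]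
      rw [← h]
      congr 2
      exact Subtype.ext (by simp)
    · have h := hx.2
      simp only [Prod.snd_inv]
      have h2 : LinearMap.det ((x.2⁻¹ : (Module.End ℂ (Fin d → ℂ))ˣ) : Module.End ℂ (Fin d → ℂ)) *
          LinearMap.det (x.2 : Module.End ℂ (Fin d → ℂ)) = 1 := by
        rw [← map_mul, Units.inv_mul, map_one]
      have h3 := congrArg (· ^ Nat.card N) h2
      simpa [mul_pow, h] using h3

/-- The projection to `G`. -/
def proj : grp N ρ →* G := (MonoidHom.fst _ _).comp (grp N ρ).subtype

/-- The operator of a point of the cover. -/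
def rep : Representation ℂ (grp N ρ) (Fin d → ℂ) :=
  (Units.coeHom _).comp ((MonoidHom.snd _ _).comp (grp N ρ).subtype)

theorem rep_intertwines (x : grp N ρ) (n : N) :
    rep N ρ x * ρ n =
      ρ ⟨proj N ρ x * n * (proj N ρ x)⁻¹, hN.conj_mem n n.2 _⟩ * rep N ρ x :=
  x.2.1 n

theorem det_rep_pow (x : grp N ρ) : LinearMap.det (rep N ρ x) ^ Nat.card N = 1 := x.2.2

/-- The copy of `N` in the cover. -/
def incl : N →* grp N ρ where
  toFun n := ⟨((n : G), ρ.asGroupHom n), fun m => by
      rw [Representation.asGroupHom_apply, ← map_mul, ← map_mul]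
      exact congrArg ρ (Subtype.ext (by simp [mul_assoc])),
    by rw [Representation.asGroupHom_apply, ← map_pow, ← map_pow, pow_card_eq_one', map_one,
      map_one]⟩
  map_one' := Subtype.ext (Prod.ext rfl (map_one _))
  map_mul' a b := Subtype.ext (Prod.ext rfl (map_mul _ a b))

@[simp] theorem proj_incl (n : N) : proj N ρ (incl N ρ n) = n := rfl
@[simp] theorem rep_incl (n : N) : rep N ρ (incl N ρ n) = ρ n := rfl

theorem ext_grp {x y : grp N ρ} (h1 : proj N ρ x = proj N ρ y) (h2 : rep N ρ x = rep N ρ y) :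
    x = y :=
  Subtype.ext (Prod.ext h1 (Units.ext h2))

theorem incl_injective : Function.Injective (incl N ρ) := fun a b h => by
  have := congrArg (proj N ρ) h
  exact Subtype.ext this

theorem conj_incl (x : grp N ρ) (n : N) :
    x * incl N ρ n * x⁻¹ = incl N ρ ⟨proj N ρ x * n * (proj N ρ x)⁻¹, hN.conj_mem n n.2 _⟩ := by
  refine ext_grp N ρ (by simp) ?_
  rw [map_mul, map_mul, rep_incl, rep_intertwines, mul_assoc, ← map_mul, mul_inv_cancel, map_one,
    mul_one, rep_incl]

/-- The copy of `N` is normal. -/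
theorem range_normal : (incl N ρ).range.Normal :=
  ⟨by rintro _ ⟨n, rfl⟩ x; exact ⟨_, (conj_incl N ρ x n).symm⟩⟩

/-- The preimage of `N`. -/
abbrev base : Subgroup (grp N ρ) := N.comap (proj N ρ)

variable [hρ : ρ.IsIrreducible]

omit [Finite G] hN hρ in
theorem nontrivial_space (N : Subgroup G) {d : ℕ} (ρ : Representation ℂ N (Fin d → ℂ))
    [ρ.IsIrreducible] : Nontrivial (Fin d → ℂ) := CharKernel.nontrivial_of_irreducible ρ

omit [Finite G] hN hρ in
theorem pos_dim (N : Subgroup G) {d : ℕ} (ρ : Representation ℂ N (Fin d → ℂ))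
    [ρ.IsIrreducible] : 0 < d := by
  simpa using Char.finrank_pos_of_irreducible ρ

/-- Points over the identity are scalars. -/
theorem exists_scalar_ker {x : grp N ρ} (hx : proj N ρ x = 1) :
    ∃ c : ℂ, rep N ρ x = c • 1 ∧ c ^ (d * Nat.card N) = 1 := by
  obtain ⟨c, hc⟩ := Char.exists_scalar_of_commute ρ (rep N ρ x) (fun n => by
    rw [rep_intertwines]
    congr 2
    exact Subtype.ext (by simp [hx]))
  refine ⟨c, hc, ?_⟩
  have := det_rep_pow N ρ x
  rw [hc, LinearMap.det_smul, map_one, mul_one, ← pow_mul, Module.finrank_fin_fun] at this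
  exact this

theorem finite_grp : Finite (grp N ρ) := by
  have := pos_dim N ρ
  have hne := nontrivial_space N ρ
  have hK : 0 < d * Nat.card N := mul_pos this Nat.card_pos
  have : Finite (proj N ρ).ker := by
    choose c hc hcK using fun x : (proj N ρ).ker => exists_scalar_ker N ρ x.2
    have hfin : {z : ℂ | z ^ (d * Nat.card N) = 1}.Finite := by
      refine Set.Finite.subset (Polynomial.nthRootsFinset (d * Nat.card N) (1 : ℂ)).finite_toSet ?_
      intro z hz
      simp only [Finset.mem_coe, Polynomial.mem_nthRootsFinset hK]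
      exact hz
    have := hfin.to_subtype
    refine Finite.of_injective (fun x => (⟨c x, hcK x⟩ : {z : ℂ | z ^ (d * Nat.card N) = 1})) ?_
    intro x y h
    have hcxy : c x = c y := congrArg Subtype.val h
    exact Subtype.ext (ext_grp N ρ (x.2.trans y.2.symm) (by rw [hc, hc, hcxy]))
  have : Finite (grp N ρ ⧸ (proj N ρ).ker) :=
    Finite.of_equiv _ (QuotientGroup.quotientKerEquivRange (proj N ρ)).toEquiv.symm
  exact Finite.of_equiv _ (Subgroup.groupEquivQuotientProdSubgroup (s := (proj N ρ).ker)).symm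

variable (hinv : ∀ (g : G) (n : N), ρ.character ⟨g * n * g⁻¹, hN.conj_mem n n.2 g⟩ = ρ.character n)
include hinv

/-- The projection of the cover is onto. -/
theorem proj_surjective : Function.Surjective (proj N ρ) := by
  intro g
  cases nonempty_fintype G
  let σ : Representation ℂ N (Fin d → ℂ) :=
    ρ.comp (MulAut.conjNormal (H := N) g).toMonoidHom
  have : σ.IsIrreducible := CharTwist.irreducible_comp_surjective ρ _
    (MulAut.conjNormal (H := N) g).surjective
  obtain ⟨A, hA⟩ := exists_linearEquiv ρ σ (funext fun n => (hinv g n).symm)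
  have hdet : LinearMap.det (A : (Fin d → ℂ) →ₗ[ℂ] Fin d → ℂ) ≠ 0 := (LinearEquiv.isUnit_det' A).ne_zero
  obtain ⟨c, hc⟩ := IsAlgClosed.exists_pow_nat_eq
    ((LinearMap.det (A : (Fin d → ℂ) →ₗ[ℂ] Fin d → ℂ))⁻¹) (pos_dim N ρ)
  have hc0 : c ≠ 0 := by
    intro h
    rw [h, zero_pow (pos_dim N ρ).ne'] at hc
    exact inv_ne_zero hdet hc.symm
  let B : (Module.End ℂ (Fin d → ℂ))ˣ :=
    LinearMap.GeneralLinearGroup.ofLinearEquiv (A.trans (LinearEquiv.smulOfNeZero ℂ _ c hc0))
  have hB : (B : Module.End ℂ (Fin d → ℂ)) = c • (A : (Fin d → ℂ) →ₗ[ℂ] Fin d → ℂ) := by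
    refine LinearMap.ext fun v => ?_
    rfl
  refine ⟨⟨(g, B), fun n => ?_, ?_⟩, rfl⟩
  · rw [hB]
    refine LinearMap.ext fun v => ?_
    simp only [Module.End.mul_apply, LinearMap.smul_apply, LinearEquiv.coe_coe, hA, map_smul]
    rfl
  · rw [hB, LinearMap.det_smul, Module.finrank_fin_fun, hc, inv_mul_cancel₀ hdet, one_pow]

/-- The representation of the cover is irreducible. -/
theorem rep_irreducible : (rep N ρ).IsIrreducible := by
  have := nontrivial_space N ρ
  exact CharKernel.isIrreducible_of_forall _ fun W hW =>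
    CharKernel.eq_bot_or_eq_top ρ W fun n v hv => by
      rw [← rep_incl N ρ n]
      exact hW _ v hv

/-- The scalar character of the preimage of `N`: `A = lam x • ρ n` for `x = (n, A)`. -/
theorem exists_lam : ∃ lam : base N ρ →* ℂˣ,
    (∀ x : base N ρ, rep N ρ x = (lam x : ℂ) • ρ ⟨proj N ρ x, x.2⟩) ∧
    (∀ n : N, lam ⟨incl N ρ n, n.2⟩ = 1) ∧
    ∀ (g : grp N ρ) (x : base N ρ),
      lam ⟨g * x * g⁻¹, (Subgroup.Normal.comap hN (proj N ρ)).conj_mem x x.2 g⟩ = lam x := by
  have hd : (d : ℂ) ≠ 0 := Nat.cast_ne_zero.2 (pos_dim N ρ).ne'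
  have := nontrivial_space N ρ
  have hc : ∀ x : base N ρ, ∃ c : ℂ, rep N ρ x = c • ρ ⟨proj N ρ x, x.2⟩ := by
    intro x
    obtain ⟨c, hc, -⟩ := exists_scalar_ker N ρ
      (x := (x : grp N ρ) * (incl N ρ ⟨proj N ρ x, x.2⟩)⁻¹) (by simp)
    refine ⟨c, ?_⟩
    have : (x : grp N ρ) = ((x : grp N ρ) * (incl N ρ ⟨proj N ρ x, x.2⟩)⁻¹) *
        incl N ρ ⟨proj N ρ x, x.2⟩ := by group
    conv_lhs => rw [this, map_mul, hc, rep_incl, smul_mul_assoc, one_mul]
  choose c hc using hc
  have huniq : ∀ (x : base N ρ) (k : ℂ), rep N ρ x = k • ρ ⟨proj N ρ x, x.2⟩ → c x = k := by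
    intro x k hk
    rw [hc x] at hk
    have h2 := congrArg (fun T => T * ρ (⟨proj N ρ x, x.2⟩ : N)⁻¹) hk
    simp only [smul_mul_assoc, ← map_mul, mul_inv_cancel, map_one] at h2
    exact smul_one_inj h2
  have hmul : ∀ x y : base N ρ, c (x * y) = c x * c y := by
    intro x y
    refine huniq _ _ ?_
    show rep N ρ ((x : grp N ρ) * y) = _
    rw [map_mul, hc, hc, smul_mul_smul_comm, ← map_mul]
    congr 2
  have hone : c 1 = 1 := huniq _ _ (by
    show rep N ρ (1 : grp N ρ) = _
    rw [map_one, one_smul]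
    exact (map_one ρ).symm.trans (congrArg ρ (Subtype.ext (by simp))))
  refine ⟨MonoidHom.toHomUnits ⟨⟨c, hone⟩, hmul⟩, fun x => hc x, fun n => ?_, fun g x => ?_⟩
  · refine Units.ext (huniq _ _ ?_)
    rw [Units.val_one, one_smul]
    rfl
  · refine Units.ext (huniq _ _ ?_)
    show rep N ρ ((g : grp N ρ) * x * g⁻¹) = c x • _
    rw [map_mul, map_mul, hc, mul_smul_comm, rep_intertwines, smul_mul_assoc, mul_assoc,
      ← map_mul (rep N ρ), mul_inv_cancel, map_one, mul_one]
    congr 2

omit hρ in
/-- `θ` extends to `H ≥ N` iff the scalar character extends to the preimage of `H`. -/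
theorem extends_iff [ρ.IsIrreducible] (H : Subgroup G) (hNH : N ≤ H) (lam : base N ρ →* ℂˣ)
    (hlam : ∀ x : base N ρ, rep N ρ x = (lam x : ℂ) • ρ ⟨proj N ρ x, x.2⟩) :
    (∃ η : H → ℂ, Cfsg.IsIrrCharacter H η ∧ ∀ n : N, η ⟨n, hNH n.2⟩ = ρ.character n) ↔
      ∃ ν : H.comap (proj N ρ) →* ℂˣ, ∀ x : base N ρ, ν ⟨x, hNH x.2⟩ = lam x := by
  have := nontrivial_space N ρ
  constructor
  · rintro ⟨η, ⟨m, σ, hσ, rfl⟩, hη⟩
    have hm : m = d := by
      have := hη 1
      simp only [Subgroup.coe_one] at this
      rw [show (⟨1, hNH N.one_mem⟩ : H) = 1 from rfl, Representation.char_one,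
        Representation.char_one, Module.finrank_fin_fun, Module.finrank_fin_fun] at this
      exact_mod_cast this
    subst hm
    cases nonempty_fintype G
    have := Fintype.ofFinite N
    let σN : Representation ℂ N (Fin m → ℂ) := σ.comp (Subgroup.inclusion hNH)
    have hσN : σN.character = ρ.character := funext fun n => hη n
    have : σN.IsIrreducible := by
      obtain ⟨k, τ, hτ, hτc⟩ := Char.isIrrCharacter_character ρ
      have hk : k = m := by
        have := congrFun hτc 1
        simpa using this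
      subst hk
      have hf : Module.finrank ℂ (Representation.IntertwiningMap ρ σN) = 1 := by
        have h1 : Cfsg.classInner σN.character ρ.character = 1 := by
          rw [hσN]; exact Char.classInner_irr_self (Char.isIrrCharacter_character ρ)
        rw [Char.classInner_character] at h1
        exact_mod_cast h1
      have : Nontrivial (Representation.IntertwiningMap ρ σN) :=
        Module.nontrivial_of_finrank_pos (R := ℂ) (by omega)
      obtain ⟨f, hfne⟩ := exists_ne (0 : Representation.IntertwiningMap ρ σN)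
      have hinj := (Representation.IsIrreducible.injective_or_eq_zero f).resolve_right hfne
      exact Char.isIrreducible_of_equiv (f.ofBijective
        ⟨hinj, (LinearMap.injective_iff_surjective (f := f.toLinearMap)).1 hinj⟩)
    obtain ⟨A, hA⟩ := exists_linearEquiv σN ρ hσN
    let τ : Representation ℂ H (Fin m → ℂ) := Char.transport σ A
    have hτ : ∀ n : N, τ ⟨n, hNH n.2⟩ = ρ n := by
      intro n
      refine LinearMap.ext fun v => ?_
      have := hA n (A.symm v)
      rw [LinearEquiv.apply_symm_apply] at this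
      exact this
    let P : H.comap (proj N ρ) →* H := (proj N ρ).subgroupComap H
    have hs : ∀ x : H.comap (proj N ρ), ∃ c : ℂ, rep N ρ x = c • τ (P x) := by
      intro x
      obtain ⟨c, hc⟩ := Char.exists_scalar_of_commute ρ (τ (P x)⁻¹ * rep N ρ x) (fun n => by
        rw [mul_assoc, rep_intertwines, ← mul_assoc, ← hτ, ← map_mul, ← mul_assoc (ρ n), ← hτ,
          ← map_mul]
        congr 2
        refine Subtype.ext ?_
        show (proj N ρ x)⁻¹ * (proj N ρ x * n * (proj N ρ x)⁻¹) = n * (proj N ρ x)⁻¹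
        group)
      refine ⟨c, ?_⟩
      have h2 := congrArg (τ (P x) * ·) hc
      simp only [← mul_assoc, ← map_mul, mul_inv_cancel, map_one, one_mul, mul_smul_comm,
        mul_one] at h2
      exact h2
    choose c hc using hs
    have huniq : ∀ (x : H.comap (proj N ρ)) (k : ℂ), rep N ρ x = k • τ (P x) → c x = k := by
      intro x k hk
      rw [hc x] at hk
      have h2 := congrArg (fun T => T * τ (P x)⁻¹) hk
      simp only [smul_mul_assoc, ← map_mul, mul_inv_cancel, map_one] at h2
      exact smul_one_inj h2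
    have hmul : ∀ x y, c (x * y) = c x * c y := fun x y => huniq _ _ (by
      rw [Subgroup.coe_mul, map_mul, hc, hc, smul_mul_smul_comm, ← map_mul, ← map_mul])
    have hone : c 1 = 1 := huniq _ _ (by rw [Subgroup.coe_one, map_one, one_smul, map_one, map_one])
    refine ⟨MonoidHom.toHomUnits ⟨⟨c, hone⟩, hmul⟩, fun x => Units.ext (huniq _ _ ?_)⟩
    rw [hlam x]
    congr 1
    rw [← hτ]
    rfl
  · rintro ⟨ν, hν⟩
    cases nonempty_fintype G
    let P : H.comap (proj N ρ) →* H := (proj N ρ).subgroupComap H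
    have hP : Function.Surjective P :=
      MonoidHom.subgroupComap_surjective_of_surjective _ _ (proj_surjective N ρ hinv)
    let T : H.comap (proj N ρ) →* Module.End ℂ (Fin d → ℂ) :=
      { toFun := fun x => ((ν x)⁻¹ : ℂˣ).val • rep N ρ x
        map_one' := by simp
        map_mul' := fun x y => by
          rw [map_mul, mul_inv, Units.val_mul, Subgroup.coe_mul, map_mul, smul_mul_smul_comm] }
    have hker : P.ker ≤ T.ker := by
      intro x hx
      rw [MonoidHom.mem_ker] at hx
      have hp : proj N ρ x = 1 := congrArg Subtype.val hx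
      have hb : (x : grp N ρ) ∈ base N ρ := by
        show proj N ρ x ∈ N
        rw [hp]; exact N.one_mem
      rw [MonoidHom.mem_ker]
      show ((ν x)⁻¹ : ℂˣ).val • rep N ρ x = 1
      have h1 := hlam ⟨x, hb⟩
      rw [← hν ⟨x, hb⟩, show (⟨proj N ρ x, hb⟩ : N) = 1 from Subtype.ext hp, map_one] at h1
      rw [h1, smul_smul, Units.inv_mul, one_smul]
    have hwd : ∀ x y, P x = P y → T x = T y := by
      intro x y hxy
      have h1 : T (x⁻¹ * y) = 1 := hker (by rw [MonoidHom.mem_ker, map_mul, map_inv, hxy, inv_mul_cancel])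
      rw [show y = x * (x⁻¹ * y) by group, map_mul, h1, mul_one]
    let s := Function.surjInv hP
    have hs : ∀ h, P (s h) = h := Function.surjInv_eq hP
    let σ : Representation ℂ H (Fin d → ℂ) :=
      { toFun := fun h => T (s h)
        map_one' := (hwd (s 1) 1 (by rw [hs, map_one])).trans (map_one T)
        map_mul' := fun a b => (hwd (s (a * b)) (s a * s b) (by rw [map_mul, hs, hs, hs])).trans
          (map_mul T _ _) }
    have hσ : ∀ x, σ (P x) = ((ν x)⁻¹ : ℂˣ).val • rep N ρ x := fun x => hwd _ x (hs (P x))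
    have hσn : ∀ n : N, σ ⟨n, hNH n.2⟩ = ρ n := by
      intro n
      have hb : incl N ρ n ∈ base N ρ := n.2
      refine (hσ ⟨incl N ρ n, hNH hb⟩).trans ?_
      have h1 := hlam ⟨incl N ρ n, hb⟩
      rw [rep_incl] at h1
      show ((ν ⟨incl N ρ n, hNH hb⟩)⁻¹ : ℂˣ).val • rep N ρ (incl N ρ n) = ρ n
      rw [rep_incl, hν ⟨incl N ρ n, hb⟩]
      conv_lhs => rw [h1]
      rw [smul_smul, Units.inv_mul, one_smul]
      rfl
    have : σ.IsIrreducible := CharKernel.isIrreducible_of_forall _ fun W hW =>
      CharKernel.eq_bot_or_eq_top ρ W fun n v hv => by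
        rw [← hσn n]
        exact hW _ v hv
    refine ⟨σ.character, Char.isIrrCharacter_character σ, fun n => ?_⟩
    rw [Representation.character, hσn]
    rfl

omit hρ in
theorem index_comap (H : Subgroup G) [ρ.IsIrreducible] :
    (H.comap (proj N ρ)).index = H.index :=
  Subgroup.index_comap_of_surjective H (proj_surjective N ρ hinv)

end CfsgLib.CharDeep.Cover
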