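import Mathlib
import Cfsg.Agent.Lib.CharDeep.Cover

/-! Extension criteria for invariant irreducible characters. -/

namespace CfsgLib.CharDeep.Extend

open scoped ComplexConjugate
open CfsgLib

variable {G : Type*} [Group G] [Finite G] (N : Subgroup G) [hN : N.Normal]

/-- The cover of `θ`, packaged: the data needed to test extendibility. -/
theorem exists_cover (θ : N → ℂ) (hθ : Cfsg.IsIrrCharacter N θ)
    (hinv : ∀ (g : G) (n : N), θ ⟨g * n * g⁻¹, hN.conj_mem (n : G) n.2 g⟩ = θ n) :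
    ∃ (d : ℕ) (ρ : Representation ℂ N (Fin d → ℂ)) (_ : ρ.IsIrreducible)
      (lam : Cover.base N ρ →* ℂˣ),
      θ = ρ.character ∧ θ 1 = d ∧ Finite (Cover.grp N ρ) ∧
      (∀ x : Cover.base N ρ,
        Cover.rep N ρ x = (lam x : ℂ) • ρ ⟨Cover.proj N ρ x, x.2⟩) ∧
      (∀ (g : Cover.grp N ρ) (x : Cover.base N ρ),
        lam ⟨g * x * g⁻¹, (Subgroup.Normal.comap hN (Cover.proj N ρ)).conj_mem x x.2 g⟩ = lam x) ∧
      (∀ g : G, ∃ x : Cover.grp N ρ, Cover.proj N ρ x = g) := by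
  obtain ⟨d, ρ, hρ, rfl⟩ := hθ
  obtain ⟨lam, h1, -, h3⟩ := Cover.exists_lam N ρ hinv
  exact ⟨d, ρ, hρ, lam, rfl, by simp, Cover.finite_grp N ρ, h1, h3, Cover.proj_surjective N ρ hinv⟩

/-- Restatement of the criterion for the whole group. -/
theorem extends_top_iff {d : ℕ} (ρ : Representation ℂ N (Fin d → ℂ)) [ρ.IsIrreducible]
    (hinv : ∀ (g : G) (n : N), ρ.character ⟨g * n * g⁻¹, hN.conj_mem n n.2 g⟩ = ρ.character n)
    (lam : Cover.base N ρ →* ℂˣ)
    (hlam : ∀ x : Cover.base N ρ,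
        Cover.rep N ρ x = (lam x : ℂ) • ρ ⟨Cover.proj N ρ x, x.2⟩) :
    (∃ χ : G → ℂ, Cfsg.IsIrrCharacter G χ ∧ ∀ n : N, χ n = ρ.character n) ↔
      ∃ ν : Cover.grp N ρ →* ℂˣ, ∀ x : Cover.base N ρ, ν x = lam x := by
  have h := Cover.extends_iff N ρ hinv ⊤ le_top lam hlam
  constructor
  · rintro ⟨χ, hχ, hn⟩
    obtain ⟨ν, hν⟩ := h.1 ⟨χ ∘ (Subgroup.topEquiv : (⊤ : Subgroup G) ≃* G),
      CharTwist.isIrrCharacter_comp_equiv hχ _, hn⟩
    exact ⟨ν.comp ((MonoidHom.id _).codRestrict ((⊤ : Subgroup G).comap (Cover.proj N ρ))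
      (fun x => Subgroup.mem_top _)), hν⟩
  · rintro ⟨ν, hν⟩
    obtain ⟨η, hη, hn⟩ := h.2 ⟨ν.comp (Subgroup.subtype _), hν⟩
    refine ⟨η ∘ (Subgroup.topEquiv : (⊤ : Subgroup G) ≃* G).symm,
      CharTwist.isIrrCharacter_comp_equiv hη _, fun n => ?_⟩
    rw [← hn n]
    rfl

variable (θ : N → ℂ) (hθ : Cfsg.IsIrrCharacter N θ)
  (hinv : ∀ (g : G) (n : N), θ ⟨g * n * g⁻¹, hN.conj_mem (n : G) n.2 g⟩ = θ n)
include hθ hinv

/-- An invariant character extends when the quotient is cyclic. -/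
theorem extends_of_cyclic (hcyc : IsCyclic (G ⧸ N)) :
    ∃ χ : G → ℂ, Cfsg.IsIrrCharacter G χ ∧ ∀ n : N, χ n = θ n := by
  obtain ⟨d, ρ, hρ, lam, rfl, -, hfin, hlam, hli, hsurj⟩ := exists_cover N θ hθ hinv
  rw [extends_top_iff N ρ hinv lam hlam]
  let B := Cover.base N ρ
  let K : Subgroup (Cover.grp N ρ) := lam.ker.map B.subtype
  have hKmem : ∀ y, y ∈ K ↔ ∃ hy : y ∈ B, lam ⟨y, hy⟩ = 1 := by
    intro y
    constructor
    · rintro ⟨z, hz, rfl⟩
      exact ⟨z.2, hz⟩
    · rintro ⟨hy, h⟩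
      exact ⟨⟨y, hy⟩, h, rfl⟩
  have hK : K.Normal := ⟨fun y hy g => by
    obtain ⟨hyB, hy1⟩ := (hKmem y).1 hy
    exact (hKmem _).2 ⟨(Subgroup.Normal.comap hN (Cover.proj N ρ)).conj_mem y hyB g,
      (hli g ⟨y, hyB⟩).trans hy1⟩⟩
  let f : Cover.grp N ρ ⧸ K →* G ⧸ N :=
    QuotientGroup.lift K ((QuotientGroup.mk' N).comp (Cover.proj N ρ)) (fun y hy => by
      obtain ⟨hyB, -⟩ := (hKmem y).1 hy
      exact (QuotientGroup.eq_one_iff _).2 hyB)
  have hf : f.ker ≤ Subgroup.center (Cover.grp N ρ ⧸ K) := by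
    intro q hq
    obtain ⟨x, rfl⟩ := QuotientGroup.mk_surjective q
    have hx : x ∈ B := (QuotientGroup.eq_one_iff (N := N) (Cover.proj N ρ x)).1 hq
    rw [Subgroup.mem_center_iff]
    intro r
    obtain ⟨g, rfl⟩ := QuotientGroup.mk_surjective r
    rw [← QuotientGroup.mk_mul, ← QuotientGroup.mk_mul, QuotientGroup.eq]
    have he : (g * x)⁻¹ * (x * g) =
        x⁻¹ * (g⁻¹ * x * g⁻¹⁻¹) := by group
    rw [he]
    refine (hKmem _).2 ⟨B.mul_mem (B.inv_mem hx)
      ((Subgroup.Normal.comap hN (Cover.proj N ρ)).conj_mem x hx g⁻¹), ?_⟩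
    show lam (⟨x, hx⟩⁻¹ * ⟨_, (Subgroup.Normal.comap hN (Cover.proj N ρ)).conj_mem x hx g⁻¹⟩) = 1
    rw [map_mul, map_inv, hli g⁻¹ ⟨x, hx⟩, inv_mul_cancel]
  letI : CommGroup (Cover.grp N ρ ⧸ K) :=
    { (inferInstance : Group (Cover.grp N ρ ⧸ K)) with
      mul_comm := commutative_of_cyclic_center_quotient f hf }
  let mB : B →* Cover.grp N ρ ⧸ K := (QuotientGroup.mk' K).comp B.subtype
  let e : (B ⧸ lam.ker) →* Cover.grp N ρ ⧸ K :=
    QuotientGroup.lift lam.ker mB (fun y hy => (QuotientGroup.eq_one_iff _).2 ⟨y, hy, rfl⟩)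
  have he : Function.Injective e := by
    rw [injective_iff_map_eq_one]
    intro q hq
    obtain ⟨y, rfl⟩ := QuotientGroup.mk_surjective q
    obtain ⟨z, hz, hzy⟩ := (QuotientGroup.eq_one_iff _).1 hq
    rw [QuotientGroup.eq_one_iff]
    rwa [show y = z from (Subtype.ext hzy).symm]
  let l : e.range →* ℂˣ := (QuotientGroup.lift lam.ker lam le_rfl).comp
    (MonoidHom.ofInjective he).symm.toMonoidHom
  have : Finite (Cover.grp N ρ ⧸ K) := inferInstance
  have : NeZero (Monoid.exponent (Cover.grp N ρ ⧸ K) : ℂ) :=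
    ⟨Nat.cast_ne_zero.2 Monoid.exponent_ne_zero_of_finite⟩
  obtain ⟨L, hL⟩ := MonoidHom.domRestrict_surjective ℂ e.range l
  refine ⟨L.comp (QuotientGroup.mk' K), fun x => ?_⟩
  have h1 := DFunLike.congr_fun hL ⟨e (QuotientGroup.mk x), ⟨_, rfl⟩⟩
  have h2 : (MonoidHom.ofInjective he).symm ⟨e (QuotientGroup.mk x), ⟨_, rfl⟩⟩ =
      (QuotientGroup.mk x : B ⧸ lam.ker) := (MonoidHom.ofInjective he).symm_apply_apply _
  simp only [l, MonoidHom.comp_apply, MulEquiv.coe_toMonoidHom, h2] at h1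
  exact h1

/-- An invariant character extends if it extends to each Sylow section. -/
theorem extends_of_sylow (hsyl : ∀ p : ℕ, p.Prime → ∃ (P : Subgroup G) (hNP : N ≤ P) (η : P → ℂ),
      Nat.Coprime P.index p ∧ Cfsg.IsIrrCharacter P η ∧ ∀ n : N, η ⟨(n : G), hNP n.2⟩ = θ n) :
    ∃ χ : G → ℂ, Cfsg.IsIrrCharacter G χ ∧ ∀ n : N, χ n = θ n := by
  obtain ⟨d, ρ, hρ, lam, rfl, -, hfin, hlam, hli, hsurj⟩ := exists_cover N θ hθ hinv
  rw [extends_top_iff N ρ hinv lam hlam]
  haveI : (Cover.base N ρ).Normal := Subgroup.Normal.comap hN _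
  refine CharDeep.Lin.exists_ext_of_sylow lam fun p hp _ => ?_
  obtain ⟨P, hNP, η, hc, hη, hηn⟩ := hsyl p hp
  obtain ⟨ν, hν⟩ := (Cover.extends_iff N ρ hinv P hNP lam hlam).1 ⟨η, hη, hηn⟩
  refine ⟨(P.comap (Cover.proj N ρ)).index, ?_,
    CharDeep.Lin.exists_ext_pow_index _ (Subgroup.comap_mono hNP) lam hli ν hν⟩
  rw [Subgroup.index_comap_of_surjective P hsurj]
  exact fun h => hp.not_dvd_one (hc ▸ Nat.dvd_gcd h dvd_rfl)

/-- Gallagher's criterion: for coprime degree, extend the determinant. -/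
theorem extends_of_det (d : ℕ) (hd : θ 1 = d) (hcop : Nat.Coprime N.index d) (μ : G →* ℂˣ)
    (hμ : ∀ n : N, (μ n : ℂ) = Cfsg.detChar θ n) :
    ∃ χ : G → ℂ, Cfsg.IsIrrCharacter G χ ∧ ∀ n : N, χ n = θ n := by
  obtain ⟨d', ρ, hρ, lam, rfl, hd', hfin, hlam, hli, hsurj⟩ := exists_cover N θ hθ hinv
  obtain rfl : d = d' := by exact_mod_cast hd.symm.trans hd'
  rw [extends_top_iff N ρ hinv lam hlam]
  haveI : (Cover.base N ρ).Normal := Subgroup.Normal.comap hN _
  refine CharDeep.Lin.exists_ext_of_sylow lam fun p hp _ => ?_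
  by_cases hpd : p ∣ d
  · refine ⟨N.index, fun h => hp.not_dvd_one (hcop ▸ Nat.dvd_gcd h hpd), ?_⟩
    have h := CharDeep.Lin.exists_ext_pow_index (Cover.base N ρ) le_rfl lam hli lam (fun x => rfl)
    rwa [Subgroup.index_comap_of_surjective N hsurj] at h
  · let D : Cover.grp N ρ →* ℂˣ := MonoidHom.toHomUnits ((LinearMap.det).comp (Cover.rep N ρ))
    refine ⟨d, hpd, D * (μ.comp (Cover.proj N ρ))⁻¹, fun x => Units.ext ?_⟩
    have h2 := hμ ⟨Cover.proj N ρ x, x.2⟩
    rw [Cover.detChar_eq] at h2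
    simp only at h2
    show LinearMap.det (Cover.rep N ρ x) * ((μ (Cover.proj N ρ x))⁻¹ : ℂˣ).val = _
    rw [hlam x, LinearMap.det_smul, Module.finrank_fin_fun, Units.val_pow_eq_pow_val, mul_assoc,
      ← h2, Units.mul_inv, mul_one]

omit hinv in
/-- The determinant of an irreducible character is a linear character. -/
theorem exists_det_hom : ∃ δ : N →* ℂˣ, Cfsg.detChar θ = fun n => (δ n : ℂ) := by
  obtain ⟨d, ρ, hρ, rfl⟩ := hθ
  exact ⟨MonoidHom.toHomUnits ((LinearMap.det).comp ρ), by rw [Cover.detChar_eq]; rfl⟩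

omit hθ in
theorem det_invariant (hθ' : Cfsg.IsIrrCharacter N θ) (g : G) (n : N) :
    Cfsg.detChar θ ⟨g * n * g⁻¹, hN.conj_mem (n : G) n.2 g⟩ = Cfsg.detChar θ n := by
  obtain ⟨d, ρ, hρ, rfl⟩ := hθ'
  rw [Cover.detChar_eq]
  obtain ⟨x, rfl⟩ := Cover.proj_surjective N ρ hinv g
  have h := congrArg LinearMap.det (Cover.rep_intertwines N ρ x n)
  rw [map_mul, map_mul, mul_comm] at h
  refine (mul_right_cancel₀ ?_ h).symm
  intro h0
  have h3 := Cover.det_rep_pow N ρ x
  rw [h0, zero_pow Nat.card_pos.ne'] at h3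
  exact zero_ne_one h3

/-- Degree ratio for an invariant constituent. -/
theorem degree_dvd (χ : G → ℂ) (hχ : Cfsg.IsIrrCharacter G χ) [Fintype N]
    (hcon : Cfsg.classInner (fun n : N => χ n) θ ≠ 0) :
    ∃ b d : ℕ, θ 1 = d ∧ χ 1 = (b * d : ℕ) ∧ b ∣ N.index := by
  classical
  obtain ⟨d, ρ, hρ, lam, rfl, hd, hfin, hlam, hli, hsurj⟩ := exists_cover N θ hθ hinv
  cases nonempty_fintype G
  have := Fintype.ofFinite (Cover.grp N ρ)
  let M : Subgroup (Cover.grp N ρ) := (Cover.incl N ρ).range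
  haveI : M.Normal := Cover.range_normal N ρ
  let eM : N ≃* M := MonoidHom.ofInjective (Cover.incl_injective N ρ)
  have hrep : (Cover.rep N ρ).IsIrreducible := Cover.rep_irreducible N ρ hinv
  have hψ := Char.isIrrCharacter_character (Cover.rep N ρ)
  have hcomp : ∀ (f f' : M → ℂ),
      Cfsg.classInner (f ∘ eM) (f' ∘ eM) = Cfsg.classInner f f' := by
    intro f f'
    unfold Cfsg.classInner
    rw [Nat.card_congr eM.toEquiv]
    congr 1
    exact Fintype.sum_equiv eM.toEquiv _ _ fun n => rfl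
  have hres : (fun m : M => (Cover.rep N ρ).character m) ∘ eM = ρ.character := funext fun n => rfl
  have hψM : Cfsg.IsIrrCharacter M (fun m : M => (Cover.rep N ρ).character m) := by
    have h := CharTwist.isIrrCharacter_comp_equiv (Char.isIrrCharacter_character ρ) eM.symm
    convert h using 1
    funext m
    conv_lhs => rw [← eM.apply_symm_apply m]
    rfl
  let χ' : Cover.grp N ρ → ℂ := χ ∘ Cover.proj N ρ
  have hχ' : Cfsg.IsIrrCharacter (Cover.grp N ρ) χ' :=
    CharTwist.isIrrCharacter_comp hχ _ hsurj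
  obtain ⟨-, -, h3⟩ := CharDeep.Gal.quotient_bijection M hψ hψM
  obtain ⟨β, hβ, hb⟩ := h3 χ' hχ' (by rw [← hcomp, hres]; exact hcon)
  obtain ⟨m, σ, hσ, rfl⟩ := hβ
  refine ⟨m, d, hd, ?_, ?_⟩
  · have h1 := congrFun hb 1
    simp only [Pi.mul_apply, Function.comp_apply, map_one, χ', Representation.char_one,
      Module.finrank_fin_fun] at h1
    rw [← h1, Nat.cast_mul]
  · have h1 : Module.finrank ℂ (Fin m → ℂ) ∣ (Subgroup.center (Cover.grp N ρ ⧸ M)).index :=
      Cfsg.Agent.S0179.result σ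
    rw [Module.finrank_fin_fun] at h1
    have hle : (Cover.base N ρ).map (QuotientGroup.mk' M) ≤ Subgroup.center (Cover.grp N ρ ⧸ M) := by
      rintro _ ⟨x, hx, rfl⟩
      rw [Subgroup.mem_center_iff]
      intro r
      obtain ⟨g, rfl⟩ := QuotientGroup.mk_surjective r
      rw [QuotientGroup.mk'_apply, ← QuotientGroup.mk_mul, ← QuotientGroup.mk_mul,
        QuotientGroup.eq]
      -- compare with the scalar part, which is central
      refine ⟨⟨Cover.proj N ρ ((g * x)⁻¹ * (x * g)), ?_⟩, ?_⟩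
      · rw [show (g * x)⁻¹ * (x * g) = x⁻¹ * (g⁻¹ * x * g⁻¹⁻¹) by group]
        exact (Cover.base N ρ).mul_mem ((Cover.base N ρ).inv_mem hx)
          ((Subgroup.Normal.comap hN (Cover.proj N ρ)).conj_mem x hx g⁻¹)
      · refine Cover.ext_grp N ρ (Cover.proj_incl N ρ _) ?_
        rw [Cover.rep_incl]
        have hx' : x⁻¹ * (g⁻¹ * x * g⁻¹⁻¹) ∈ Cover.base N ρ :=
          (Cover.base N ρ).mul_mem ((Cover.base N ρ).inv_mem hx)
            ((Subgroup.Normal.comap hN (Cover.proj N ρ)).conj_mem x hx g⁻¹)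
        have hlam1 : lam ⟨_, hx'⟩ = 1 := by
          show lam (⟨x, hx⟩⁻¹ * ⟨_, (Subgroup.Normal.comap hN (Cover.proj N ρ)).conj_mem x hx g⁻¹⟩)
            = 1
          rw [map_mul, map_inv, hli g⁻¹ ⟨x, hx⟩, inv_mul_cancel]
        have h5 := hlam ⟨_, hx'⟩
        rw [hlam1, Units.val_one, one_smul] at h5
        have he : (g * x)⁻¹ * (x * g) = x⁻¹ * (g⁻¹ * x * g⁻¹⁻¹) := by group
        simp only [he]
        exact h5.symm
    refine h1.trans ((Subgroup.index_dvd_of_le hle).trans ?_)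
    refine (Subgroup.index_map_dvd _ (QuotientGroup.mk'_surjective M)).trans ?_
    rw [Subgroup.index_comap_of_surjective N hsurj]

omit hθ hinv in
/-- The determinant of a twist by a linear character. -/
theorem detChar_twist {χ : G → ℂ} (hχ : Cfsg.IsIrrCharacter G χ) (l : G →* ℂˣ) (d : ℕ)
    (hd : χ 1 = d) :
    Cfsg.detChar (fun g => (l g : ℂ) * χ g) = fun g => (l g : ℂ) ^ d * Cfsg.detChar χ g := by
  obtain ⟨n, ρ, hρ, rfl⟩ := hχ
  obtain rfl : n = d := by simpa using hd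
  let σ : Representation ℂ G (Fin n → ℂ) :=
    { toFun := fun g => (l g : ℂ) • ρ g
      map_one' := by simp
      map_mul' := fun a b => by rw [map_mul, Units.val_mul, map_mul, smul_mul_smul_comm] }
  have hσc : σ.character = fun g => (l g : ℂ) * ρ.character g := by
    funext g
    show LinearMap.trace ℂ _ ((l g : ℂ) • ρ g) = _
    rw [map_smul]
    rfl
  have : σ.IsIrreducible := by
    have := CharKernel.nontrivial_of_irreducible ρ
    refine CharKernel.isIrreducible_of_forall σ fun W hW =>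
      CharKernel.eq_bot_or_eq_top ρ W fun g v hv => ?_
    have h := W.smul_mem (((l g)⁻¹ : ℂˣ) : ℂ) (hW g v hv)
    simpa [σ, smul_smul] using h
  rw [← hσc, Cover.detChar_eq, Cover.detChar_eq]
  funext g
  show LinearMap.det ((l g : ℂ) • ρ g) = _
  rw [LinearMap.det_smul, Module.finrank_fin_fun]

omit hinv in
/-- The extension with given determinant, when one extension exists. -/
theorem existsUnique_det (d : ℕ) (hd : θ 1 = d) (hcop : Nat.Coprime N.index d) (η : G → ℂ)
    (hη : Cfsg.IsIrrCharacter G η) (hηN : ∀ n : N, η n = θ n) (μ : G →* ℂˣ)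
    (hμ : ∀ n : N, (μ n : ℂ) = Cfsg.detChar θ n) :
    ∃! χ : G → ℂ, Cfsg.IsIrrCharacter G χ ∧ (∀ n : N, χ n = θ n) ∧
      Cfsg.detChar χ = fun g => (μ g : ℂ) := by
  cases nonempty_fintype G
  have := Fintype.ofFinite N
  have hη1 : η 1 = d := by
    have := hηN 1
    rw [Subgroup.coe_one] at this
    rw [this, hd]
  obtain ⟨D, hD⟩ : ∃ D : G →* ℂˣ, Cfsg.detChar η = fun g => (D g : ℂ) := by
    obtain ⟨m, σ, hσ, rfl⟩ := hη
    exact ⟨MonoidHom.toHomUnits ((LinearMap.det).comp σ), by rw [Cover.detChar_eq]; rfl⟩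
  have hDN : ∀ n : N, (D n : ℂ) = Cfsg.detChar θ n := by
    obtain ⟨m, σ, hσ, rfl⟩ := hη
    have hθσ : θ = Representation.character (σ.comp N.subtype : Representation ℂ N (Fin m → ℂ)) :=
      funext fun n => (hηN n).symm
    obtain ⟨k, τ, hτ, hτc⟩ := hθ
    have hkm : k = m := by
      have := congrFun (hτc.trans hθσ) 1
      simpa using this
    subst hkm
    let σN : Representation ℂ N (Fin k → ℂ) := σ.comp N.subtype
    have : σN.IsIrreducible := by
      have hf : Module.finrank ℂ (Representation.IntertwiningMap τ σN) = 1 := by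
        have h1 : Cfsg.classInner σN.character τ.character = 1 := by
          rw [show σN.character = θ from hθσ.symm, ← hτc]; exact Char.classInner_irr_self (Char.isIrrCharacter_character τ)
        rw [Char.classInner_character] at h1
        exact_mod_cast h1
      have : Nontrivial (Representation.IntertwiningMap τ σN) :=
        Module.nontrivial_of_finrank_pos (R := ℂ) (by omega)
      obtain ⟨f, hfne⟩ := exists_ne (0 : Representation.IntertwiningMap τ σN)
      have hinj := (Representation.IsIrreducible.injective_or_eq_zero f).resolve_right hfne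
      exact Char.isIrreducible_of_equiv (f.ofBijective
        ⟨hinj, (LinearMap.injective_iff_surjective (f := f.toLinearMap)).1 hinj⟩)
    intro n
    have h1 := congrFun hD (n : G)
    rw [Cover.detChar_eq] at h1
    rw [show θ = σN.character from hθσ, Cover.detChar_eq]
    exact h1.symm
  obtain ⟨k, hk⟩ : ∃ k, d * k ≡ 1 [MOD N.index] := by
    rcases Nat.lt_or_ge 1 N.index with h | h
    · obtain ⟨k, -, hk⟩ := Nat.exists_mul_mod_eq_one_of_coprime hcop.symm h
      exact ⟨k, by rw [Nat.ModEq, hk, Nat.one_mod_eq_one.2 (by omega)]⟩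
    · have : N.index = 1 := le_antisymm h (Nat.pos_of_ne_zero Subgroup.index_ne_zero_of_finite)
      exact ⟨0, by rw [this]; exact Nat.modEq_one⟩
  have hpow : ∀ f : G →* ℂˣ, (∀ n : N, f n = 1) → f ^ (d * k) = f := by
    intro f hf
    conv_rhs => rw [← pow_one f]
    exact pow_eq_pow_iff_modEq.2 (hk.of_dvd (orderOf_dvd_of_pow_eq_one
      (CharDeep.Lin.pow_index_eq_one_of_trivial f hf)))
  let ν : G →* ℂˣ := μ * D⁻¹
  have hνN : ∀ n : N, ν n = 1 := fun n => by
    have : μ n = D n := Units.ext ((hμ n).trans (hDN n).symm)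
    rw [MonoidHom.mul_apply, MonoidHom.inv_apply, this, mul_inv_cancel]
  let l : G →* ℂˣ := ν ^ k
  have hlN : ∀ n : N, l n = 1 := fun n => by rw [MonoidHom.pow_apply, hνN, one_pow]
  refine ⟨fun g => (l g : ℂ) * η g, ⟨Char.IsIrrCharacter.linear_mul hη l, fun n => by
    show (l n : ℂ) * η n = θ n
    rw [hlN, Units.val_one, one_mul, hηN], ?_⟩, ?_⟩
  · rw [detChar_twist hη l d hη1, hD]
    funext g
    rw [← Units.val_pow_eq_pow_val, ← MonoidHom.pow_apply, ← Units.val_mul]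
    congr 1
    show ((ν ^ k) ^ d) g * D g = μ g
    rw [show (ν ^ k) ^ d = ν ^ (k * d) from MonoidHom.ext fun x => by
      simp only [MonoidHom.pow_apply, pow_mul], mul_comm k d, hpow ν hνN]
    simp [ν, mul_assoc]
  · rintro χ ⟨hχ, hχN, hχd⟩
    have hres : Cfsg.IsIrrCharacter N (fun n : N => η n) := by
      rw [show (fun n : N => η n) = θ from funext hηN]; exact hθ
    obtain ⟨l', hl'N, rfl⟩ := CharDeep.Gal.exists_linear_of_res_eq N hη hχ hres
      (fun n => (hχN n).trans (hηN n).symm)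
    rw [detChar_twist hη l' d hη1, hD] at hχd
    have hld : l' ^ d = ν := by
      refine MonoidHom.ext fun g => Units.ext ?_
      have := congrFun hχd g
      simp only at this
      rw [MonoidHom.pow_apply, Units.val_pow_eq_pow_val, MonoidHom.mul_apply, MonoidHom.inv_apply,
        Units.val_mul, ← this, mul_assoc, Units.mul_inv, mul_one]
    have : l' = l := by
      rw [← hpow l' hl'N]
      refine MonoidHom.ext fun x => ?_
      have h3 := DFunLike.congr_fun hld x
      simp only [MonoidHom.pow_apply, l] at h3 ⊢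
      rw [pow_mul, h3]
    rw [this]

end CfsgLib.CharDeep.Extend
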