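import Mathlib
import Cfsg.Agent.Lib.Char.Complete
import Cfsg.Agent.Lib.Char.Linear
import Cfsg.Agent.Lib.Char.Ito
import Cfsg.Agent.Lib.Char.Clifford
import Cfsg.Agent.Lib.CharDeep.Clifford

/-! Groups all of whose character degrees are powers of one prime. -/

namespace CfsgLib.CharDeep.PPowDeg

open CfsgLib

universe u

/-- The degree of a constituent of a restriction divides the degree. -/
theorem exists_overchar {G : Type u} [Group G] [Finite G] (N : Subgroup G) [N.Normal]
    {θ : N → ℂ} (hθ : Cfsg.IsIrrCharacter N θ) :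
    ∃ (χ : Cfsg.IrrCharacter G) (m : ℕ), (χ : G → ℂ) 1 = m * θ 1 := by
  classical
  cases nonempty_fintype G
  have := Fintype.ofFinite N
  have hind : Cfsg.IsCharacter G (Cfsg.indFun N θ) :=
    Char.IsCharacter.indFun N (Char.IsIrrCharacter.isCharacter hθ)
  obtain ⟨χ, hχ, hne⟩ := CfsgLib.Clifford.exists_constituent hind (by
    rw [Char.indFun_apply_one]
    exact mul_ne_zero (Nat.cast_ne_zero.2 Subgroup.index_ne_zero_of_finite)
      (Char.IsIrrCharacter.apply_one_ne_zero hθ))
  rw [Char.classInner_indFun N θ χ (Char.IsIrrCharacter.isClassFunction hχ)] at hne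
  have hne' : Cfsg.classInner (fun n : N => χ n) θ ≠ 0 := by
    rw [← Char.classInner_conj_symm]
    exact (map_ne_zero _).2 hne
  have h := CfsgLib.Clifford.apply_one_eq N hχ hθ hne'
  obtain ⟨k, hk⟩ := Char.IsCharacter.exists_nat_classInner
    (CfsgLib.Clifford.isCharacter_res (Char.IsIrrCharacter.isCharacter hχ) N)
    hθ
  refine ⟨⟨χ, hχ⟩, k * (CfsgLib.CharTwist.inertia N θ).index, ?_⟩
  show χ 1 = _
  rw [h, hk]
  push_cast
  ring

/-- All degrees one forces commutativity. -/
theorem comm_of_linear {G : Type u} [Group G] [Finite G]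
    (h : ∀ χ : Cfsg.IrrCharacter G, (χ : G → ℂ) 1 = 1) (x y : G) : x * y = y * x := by
  classical
  cases nonempty_fintype G
  have h1 := Char.sum_apply_one_sq (G := G)
  simp only [h, one_pow, Finset.sum_const, Finset.card_univ, nsmul_eq_mul, mul_one, Nat.cast_inj] at h1
  rw [← Nat.card_eq_fintype_card, Char.card_irrCharacter] at h1
  have hinj : Function.Injective (ConjClasses.mk : G → ConjClasses G) :=
    ((Nat.bijective_iff_surjective_and_card _).2 ⟨ConjClasses.mk_surjective, h1.symm⟩).1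
  have h2 : x * y * x⁻¹ = y := hinj (ConjClasses.mk_eq_mk_iff_isConj.2 (isConj_iff.2 ⟨x⁻¹, by group⟩))
  conv_rhs => rw [← h2]
  group

variable {p : ℕ}

/-- A prime dividing all nonlinear degrees and the order gives a normal subgroup of that index. -/
theorem exists_normal_index {G : Type u} [Group G] [Finite G] (hp : p.Prime) (hdvd : p ∣ Nat.card G)
    (h : ∀ χ : Cfsg.IrrCharacter G, ∃ k : ℕ, (χ : G → ℂ) 1 = (p : ℂ) ^ k) :
    ∃ N : Subgroup G, N.Normal ∧ N.index = p := by
  classical
  cases nonempty_fintype G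
  haveI : Fact p.Prime := ⟨hp⟩
  choose k hk using h
  have hsum : ∑ χ : Cfsg.IrrCharacter G, (p ^ k χ) ^ 2 = Nat.card G := by
    have h1 := Char.sum_apply_one_sq (G := G)
    simp only [hk] at h1
    exact_mod_cast h1
  have hlin : p ∣ Nat.card (G →* ℂˣ) := by
    rw [Nat.card_congr Char.linearCharEquiv, Nat.card_eq_fintype_card, Fintype.card_subtype]
    have hiff : ∀ χ : Cfsg.IrrCharacter G, (χ : G → ℂ) 1 = 1 ↔ k χ = 0 := by
      intro χ
      rw [hk]
      constructor
      · intro h1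
        have h2 : p ^ k χ = 1 := by exact_mod_cast h1
        exact (Nat.pow_eq_one.1 h2).resolve_left hp.one_lt.ne'
      · intro h0
        rw [h0, pow_zero]
    simp only [hiff]
    rw [← hsum, ← Finset.sum_filter_add_sum_filter_not Finset.univ (fun χ => k χ = 0)] at hdvd
    have h2 : p ∣ ∑ χ ∈ Finset.univ.filter (fun χ : Cfsg.IrrCharacter G => ¬ k χ = 0), (p ^ k χ) ^ 2 :=
      Finset.dvd_sum fun χ hχ => dvd_pow (dvd_pow_self p (Finset.mem_filter.1 hχ).2) two_ne_zero
    rw [← Nat.dvd_add_iff_left h2, Finset.sum_congr rfl (g := fun _ => 1) (fun χ hχ => by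
      rw [(Finset.mem_filter.1 hχ).2, pow_zero, one_pow])] at hdvd
    simpa using hdvd
  have : Finite (G →* ℂˣ) := Finite.of_equiv _ Char.linearCharEquiv.symm
  obtain ⟨l, hl⟩ := exists_prime_orderOf_dvd_card' p hlin
  refine ⟨l.ker, MonoidHom.normal_ker l, ?_⟩
  rw [Subgroup.index_ker]
  haveI : Finite l.range := Finite.of_surjective l.rangeRestrict l.rangeRestrict_surjective
  haveI : IsCyclic l.range := isCyclic_subgroup_units l.range
  have hexp : ∀ z : l.range, z ^ p = 1 := by
    rintro ⟨_, g, rfl⟩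
    apply Subtype.ext
    show l g ^ p = 1
    rw [← MonoidHom.pow_apply, ← hl, pow_orderOf_eq_one, MonoidHom.one_apply]
  have h1 : Nat.card l.range ∣ p := by
    rw [← IsCyclic.exponent_eq_card]
    exact Monoid.exponent_dvd_of_forall_pow_eq_one hexp
  rcases (Nat.dvd_prime hp).1 h1 with h1 | h1
  · exfalso
    have hbot : l.range = ⊥ := Subgroup.card_eq_one.1 h1
    rw [MonoidHom.range_eq_bot_iff] at hbot
    rw [hbot, orderOf_one] at hl
    exact hp.one_lt.ne hl
  · exact h1

/-- The structure theorem, for a given order. -/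
theorem exists_abelian_complement (hp : p.Prime) : ∀ (n : ℕ) (G : Type u) [Group G] [Finite G],
    Nat.card G = n → (∀ χ : Cfsg.IrrCharacter G, ∃ k : ℕ, (χ : G → ℂ) 1 = (p : ℂ) ^ k) →
    ∃ A : Subgroup G, A.Normal ∧ (∀ a ∈ A, ∀ b ∈ A, a * b = b * a) ∧
      Nat.Coprime (Nat.card A) p ∧ ∃ k : ℕ, A.index = p ^ k := by
  intro n
  induction n using Nat.strong_induction_on with
  | _ n ih => ?_
  intro G _ _ hn h
  classical
  cases nonempty_fintype G
  by_cases hdvd : p ∣ Nat.card G
  · obtain ⟨N, hN, hidx⟩ := exists_normal_index hp hdvd h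
    have hlt : Nat.card N < n := by
      rw [← hn, ← N.card_mul_index, hidx]
      exact lt_mul_of_one_lt_right Nat.card_pos hp.one_lt
    have hdeg : ∀ θ : Cfsg.IrrCharacter N, ∃ k : ℕ, (θ : N → ℂ) 1 = (p : ℂ) ^ k := by
      intro θ
      obtain ⟨χ, m, hm⟩ := exists_overchar N θ.2
      obtain ⟨k, hk⟩ := h χ
      obtain ⟨d, -, hd⟩ := Char.IsIrrCharacter.exists_degree θ.2
      rw [hk, hd] at hm
      have h1 : p ^ k = m * d := by exact_mod_cast hm
      obtain ⟨j, -, hj⟩ := (Nat.dvd_prime_pow hp).1 ⟨m, by rw [h1, mul_comm]⟩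
      exact ⟨j, by rw [hd, hj, Nat.cast_pow]⟩
    obtain ⟨A, hA, hAc, hAp, k, hk⟩ := ih _ hlt N rfl hdeg
    have hchar : A.Characteristic := by
      have hcop : Nat.Coprime (Nat.card A) A.index := by
        rw [hk]; exact Nat.Coprime.pow_right k hAp
      refine Subgroup.characteristic_iff_map_le.2 fun φ => ?_
      have hcard : Nat.card (A.map φ.toMonoidHom) = Nat.card A :=
        Subgroup.card_map_of_injective φ.injective
      intro a ha
      have h1 : orderOf (QuotientGroup.mk' A a) = 1 := by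
        refine Nat.eq_one_of_dvd_coprimes hcop ?_ (orderOf_dvd_natCard _)
        refine (orderOf_map_dvd _ a).trans ?_
        rw [← hcard, ← Subgroup.orderOf_mk a ha]
        exact orderOf_dvd_natCard _
      rw [orderOf_eq_one_iff, QuotientGroup.mk'_apply, QuotientGroup.eq_one_iff] at h1
      exact h1
    refine ⟨A.map N.subtype, inferInstance, ?_, ?_, k + 1, ?_⟩
    · rintro _ ⟨a, ha, rfl⟩ _ ⟨b, hb, rfl⟩
      rw [← map_mul, ← map_mul, hAc a ha b hb]
    · rwa [Subgroup.card_map_of_injective N.subtype_injective]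
    · rw [Subgroup.index_map_subtype, hk, hidx, pow_succ]
  · refine ⟨⊤, inferInstance, fun a _ b _ => comm_of_linear (fun χ => ?_) a b, ?_, 0, by simp⟩
    · obtain ⟨k, hk⟩ := h χ
      obtain ⟨d, ρ, hρ, hχ⟩ := χ.2
      have h1 : Module.finrank ℂ (Fin d → ℂ) ∣ Nat.card G := Char.finrank_dvd_card ρ
      rw [Module.finrank_fin_fun] at h1
      have h2 : (χ : G → ℂ) 1 = d := by
        rw [← hχ]; simp
      rw [hk] at h2 ⊢
      have h3 : p ^ k = d := by exact_mod_cast h2
      rcases k with _ | k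
      · rw [pow_zero]
      · exact absurd ((dvd_pow_self p k.succ_ne_zero).trans (h3 ▸ h1)) hdvd
    · rw [Subgroup.card_top]
      exact ((hp.coprime_iff_not_dvd).2 hdvd).symm

/-- Conversely, degrees divide the index of an abelian normal subgroup. -/
theorem degree_pow_of_complement {G : Type u} [Group G] [Finite G] (hp : p.Prime) (A : Subgroup G)
    [A.Normal] (hA : ∀ a ∈ A, ∀ b ∈ A, a * b = b * a) (k : ℕ) (hk : A.index = p ^ k)
    (χ : Cfsg.IrrCharacter G) : ∃ j : ℕ, (χ : G → ℂ) 1 = (p : ℂ) ^ j := by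
  obtain ⟨d, ρ, hρ, hχ⟩ := χ.2
  have h1 := Char.finrank_dvd_index_of_abelian_normal ρ A hA
  rw [Module.finrank_fin_fun, hk] at h1
  obtain ⟨j, -, hj⟩ := (Nat.dvd_prime_pow hp).1 h1
  refine ⟨j, ?_⟩
  rw [← hχ, ← Nat.cast_pow, ← hj]
  simp

end CfsgLib.CharDeep.PPowDeg
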