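import Mathlib
import Cfsg.Prelude.Def_LieExceptional

/-! Basic facts about Zassenhaus groups. -/

namespace CfsgLib.CharDeep.Zas

open MulAction

variable {G Ω : Type*} [Group G] [MulAction G Ω]

theorem two_trans (hZ : Cfsg.IsZassenhausGroup G Ω) {a b c d : Ω} (hab : a ≠ b) (hcd : c ≠ d) :
    ∃ g : G, g • a = c ∧ g • b = d :=
  (MulAction.is_two_pretransitive_iff.1 hZ.2.1) hab hcd

theorem three_fix (hZ : Cfsg.IsZassenhausGroup G Ω) {g : G} {a b c : Ω} (hab : a ≠ b)
    (hg : g ≠ 1) (ha : g • a = a) (hb : g • b = b) (hc : g • c = c) : c = a ∨ c = b := by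
  by_contra h
  push Not at h
  exact hg (hZ.2.2.1 g a b c hab (Ne.symm h.2) (Ne.symm h.1) ha hb hc)

theorem exists_two_fix (hZ : Cfsg.IsZassenhausGroup G Ω) {a b : Ω} (hab : a ≠ b) :
    ∃ g : G, g ≠ 1 ∧ g • a = a ∧ g • b = b := by
  obtain ⟨g, hg, c, d, hcd, hc, hd⟩ := hZ.2.2.2.1
  obtain ⟨x, hxc, hxd⟩ := two_trans hZ hcd hab
  refine ⟨x * g * x⁻¹, by simpa [mul_inv_eq_one] using hg, ?_, ?_⟩
  · rw [← hxc, mul_smul, mul_smul, inv_smul_smul, hc]
  · rw [← hxd, mul_smul, mul_smul, inv_smul_smul, hd]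

/-- `G` acts on at least three points. -/
theorem three_le_card [Fintype Ω] (hZ : Cfsg.IsZassenhausGroup G Ω) : 3 ≤ Fintype.card Ω := by
  obtain ⟨g, hg, c, d, hcd, hc, hd⟩ := hZ.2.2.2.1
  by_contra h
  apply hg
  have := hZ.1
  apply eq_of_smul_eq_smul (α := Ω)
  intro x
  classical
  rw [one_smul]
  by_cases hxc : x = c
  · rw [hxc, hc]
  by_cases hxd : x = d
  · rw [hxd, hd]
  exfalso
  apply h
  calc 3 = ({x, c, d} : Finset Ω).card := by
        rw [Finset.card_insert_of_notMem (by simp [hxc, hxd]), Finset.card_pair hcd]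
    _ ≤ _ := Finset.card_le_univ _

/-- The orbit count for the stabilizer of a point acting on the other points. -/
theorem card_stabilizer [Finite G] [Fintype Ω] (hZ : Cfsg.IsZassenhausGroup G Ω) {a c : Ω}
    (hca : c ≠ a) :
    Nat.card (stabilizer G a) =
      (Fintype.card Ω - 1) * Nat.card (stabilizer G a ⊓ stabilizer G c : Subgroup G) := by
  classical
  have horb : MulAction.orbit (stabilizer G a) c = {x | x ≠ a} := by
    ext x
    constructor
    · rintro ⟨⟨g, hg⟩, rfl⟩ h
      apply hca
      have h2 : g • c = g • a := h.trans (mem_stabilizer_iff.1 hg).symm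
      exact MulAction.injective g h2
    · intro hx
      obtain ⟨g, h1, h2⟩ := two_trans hZ hca hx
      exact ⟨⟨g, h2⟩, h1⟩
  have h1 : (MulAction.stabilizer (stabilizer G a) c).index = Fintype.card Ω - 1 := by
    rw [MulAction.index_stabilizer, horb, Set.ncard_eq_toFinset_card']
    rw [show ({x | x ≠ a} : Set Ω).toFinset = Finset.univ.erase a by ext; simp]
    simp
  have h2 : MulAction.stabilizer (stabilizer G a) c =
      (stabilizer G a ⊓ stabilizer G c).subgroupOf (stabilizer G a) := by
    ext ⟨g, hg⟩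
    simp [Subgroup.mem_subgroupOf, mem_stabilizer_iff, mem_stabilizer_iff.1 hg]
  rw [← Subgroup.index_mul_card (MulAction.stabilizer (stabilizer G a) c), h1, h2,
    Nat.card_congr (Subgroup.subgroupOfEquivOfLe inf_le_left).toEquiv]

/-- The elements of a point stabilizer fixing no further point, with the identity, form exactly
the subgroup `H` given by its order. -/
theorem mem_kernel [Finite G] [Fintype Ω] (hZ : Cfsg.IsZassenhausGroup G Ω) (a : Ω)
    (H : Subgroup G) (hHa : H ≤ stabilizer G a) (hHcard : Nat.card H + 1 = Fintype.card Ω)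
    (hHfix : ∀ u ∈ H, u ≠ 1 → ∀ c : Ω, u • c = c → c = a)
    {g : G} (hga : g • a = a) (hgfix : ∀ c : Ω, g • c = c → c = a) : g ∈ H := by
  classical
  have := Fintype.ofFinite G
  have h3 := three_le_card hZ
  have hne : ∀ c : Ω, ∃ d, d ≠ c := fun c => Fintype.exists_ne_of_one_lt_card (by omega) c
  obtain ⟨b, hb⟩ := hne a
  let E : Ω → Finset G := fun c =>
    Finset.univ.filter (fun x : G => x ≠ 1 ∧ x • a = a ∧ x • c = c)
  let F : Finset G := (Finset.univ.erase a).biUnion E
  let K : Finset G := Finset.univ.filter (fun x : G => x • a = a ∧ x ∈ H)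
  have hS : ∀ c, c ≠ a → (E c).card + 1 =
      Nat.card (stabilizer G a ⊓ stabilizer G c : Subgroup G) := by
    intro c _
    rw [Nat.card_eq_fintype_card, Fintype.card_subtype]
    rw [show E c = (Finset.univ.filter
        (fun x : G => x ∈ (stabilizer G a ⊓ stabilizer G c : Subgroup G))).erase 1 by
      ext x; simp [E, mem_stabilizer_iff]]
    exact Finset.card_erase_add_one (by simp)
  have hEc : ∀ c ∈ Finset.univ.erase a, (E c).card = (E b).card := by
    intro c hc
    have hc' : c ≠ a := (Finset.mem_erase.1 hc).1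
    have e1 := card_stabilizer hZ hc'
    have e2 := card_stabilizer hZ hb
    have := Nat.eq_of_mul_eq_mul_left (show 0 < Fintype.card Ω - 1 by omega) (e1.symm.trans e2)
    rw [← hS c hc', ← hS b hb] at this
    omega
  have hF : F.card = (Fintype.card Ω - 1) * (E b).card := by
    rw [Finset.card_biUnion, Finset.sum_congr rfl hEc, Finset.sum_const, smul_eq_mul]
    · simp
    · intro c hc d hd hcd
      simp only [Finset.mem_coe, Finset.mem_erase] at hc hd
      rw [Function.onFun, Finset.disjoint_left]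
      intro x hxc hxd
      simp only [E, Finset.mem_filter, Finset.mem_univ, true_and] at hxc hxd
      rcases three_fix hZ (Ne.symm hc.1) hxc.1 hxc.2.1 hxc.2.2 hxd.2.2 with h | h
      · exact hd.1 h
      · exact hcd h.symm
  have hK : K.card = Nat.card H := by
    rw [Nat.card_eq_fintype_card, Fintype.card_subtype]
    congr 1
    ext x
    simp only [K, Finset.mem_filter, Finset.mem_univ, true_and, and_iff_right_iff_imp]
    exact fun hx => hHa hx
  have hdisj : Disjoint F K := by
    rw [Finset.disjoint_left]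
    intro x hxF hxK
    simp only [F, E, K, Finset.mem_biUnion, Finset.mem_erase, Finset.mem_filter,
      Finset.mem_univ, true_and, and_true] at hxF hxK
    obtain ⟨c, hca, hx1, -, hxc⟩ := hxF
    exact hca (hHfix x hxK.2 hx1 c hxc)
  have hsub : F ∪ K = Finset.univ.filter (fun x : G => x • a = a) := by
    refine Finset.eq_of_subset_of_card_le ?_ ?_
    · intro x hx
      simp only [F, E, K, Finset.mem_union, Finset.mem_biUnion, Finset.mem_erase,
        Finset.mem_filter, Finset.mem_univ, true_and, and_true] at hx ⊢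
      rcases hx with ⟨c, -, -, h, -⟩ | ⟨h, -⟩ <;> exact h
    · rw [Finset.card_union_of_disjoint hdisj, hF, hK]
      have e2 := card_stabilizer hZ hb
      rw [← hS b hb, Nat.card_eq_fintype_card, Fintype.card_subtype] at e2
      have : Fintype.card Ω - 1 = Nat.card H := by omega
      rw [this] at e2 ⊢
      simp only [mem_stabilizer_iff] at e2
      rw [e2, Nat.mul_add, Nat.mul_one]
  have hgm : g ∈ F ∪ K := by rw [hsub]; simp [hga]
  simp only [F, E, K, Finset.mem_union, Finset.mem_biUnion, Finset.mem_erase,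
    Finset.mem_filter, Finset.mem_univ, true_and, and_true] at hgm
  rcases hgm with ⟨c, hc, -, -, h⟩ | ⟨-, h⟩
  · exact absurd (hgfix c h) hc
  · exact h

theorem normalizer_kernel [Finite G] [Fintype Ω] (hZ : Cfsg.IsZassenhausGroup G Ω) (a : Ω)
    (H : Subgroup G) (hHa : H ≤ stabilizer G a) (hHcard : Nat.card H + 1 = Fintype.card Ω)
    (hHfix : ∀ u ∈ H, u ≠ 1 → ∀ c : Ω, u • c = c → c = a) :
    Subgroup.normalizer (H : Set G) = stabilizer G a := by
  have h3 := three_le_card hZ
  obtain ⟨u, huH, hu1⟩ : ∃ u ∈ H, u ≠ (1 : G) := by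
    by_contra h
    push Not at h
    have : H = ⊥ := (Subgroup.eq_bot_iff_forall H).2 h
    subst this
    simp at hHcard
    omega
  have key : ∀ g : G, g • a = a → ∀ u ∈ H, g * u * g⁻¹ ∈ H := by
    intro g hg u hu
    by_cases h1 : u = 1
    · simp [h1, H.one_mem]
    have hgi : g⁻¹ • a = a := by rw [inv_smul_eq_iff, hg]
    have hua : u • a = a := hHa hu
    refine mem_kernel hZ a H hHa hHcard hHfix ?_ ?_
    · rw [mul_smul, mul_smul, hgi, hua, hg]
    · intro c hc
      rw [mul_smul, mul_smul, ← eq_inv_smul_iff] at hc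
      have := hHfix u hu h1 _ hc
      rw [inv_smul_eq_iff] at this
      rw [this, hg]
  ext g
  rw [Subgroup.mem_normalizer_iff, mem_stabilizer_iff]
  constructor
  · intro hn
    have hm := (hn u).1 huH
    have h1 : g * u * g⁻¹ ≠ 1 := by simpa [mul_inv_eq_one] using hu1
    have hua : u • a = a := hHa huH
    refine hHfix _ hm h1 (g • a) ?_
    rw [mul_smul, mul_smul, inv_smul_smul, hua]
  · intro hg x
    refine ⟨fun hx => key g hg x hx, fun hx => ?_⟩
    have := key g⁻¹ (by rw [inv_smul_eq_iff, hg]) _ hx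
    simpa [mul_assoc] using this

/-- The normaliser of a two-point stabilizer is the setwise stabilizer of the pair. -/
theorem normalizer_pair (hZ : Cfsg.IsZassenhausGroup G Ω) {a b : Ω} (hab : a ≠ b) (g : G) :
    g ∈ Subgroup.normalizer ((stabilizer G a ⊓ stabilizer G b : Subgroup G) : Set G) ↔
      (g • a = a ∧ g • b = b) ∨ (g • a = b ∧ g • b = a) := by
  rw [Subgroup.mem_normalizer_iff]
  constructor
  · intro hn
    obtain ⟨e, he, hea, heb⟩ := exists_two_fix hZ hab
    have hm := (hn e).1 ⟨hea, heb⟩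
    simp only [Subgroup.mem_inf, mem_stabilizer_iff] at hm
    have h1 : g * e * g⁻¹ ≠ 1 := by simpa [mul_inv_eq_one] using he
    have fa : (g * e * g⁻¹) • (g • a) = g • a := by rw [mul_smul, mul_smul, inv_smul_smul, hea]
    have fb : (g * e * g⁻¹) • (g • b) = g • b := by rw [mul_smul, mul_smul, inv_smul_smul, heb]
    have hne : g • a ≠ g • b := fun h => hab (MulAction.injective g h)
    rcases three_fix hZ hab h1 hm.1 hm.2 fa with ha | ha <;>
      rcases three_fix hZ hab h1 hm.1 hm.2 fb with hb | hb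
    · exact absurd (ha.trans hb.symm) hne
    · exact Or.inl ⟨ha, hb⟩
    · exact Or.inr ⟨ha, hb⟩
    · exact absurd (ha.trans hb.symm) hne
  · intro hg x
    simp only [Subgroup.mem_inf, mem_stabilizer_iff, mul_smul]
    rcases hg with ⟨ha, hb⟩ | ⟨ha, hb⟩
    · have hai : g⁻¹ • a = a := by rw [inv_smul_eq_iff, ha]
      have hbi : g⁻¹ • b = b := by rw [inv_smul_eq_iff, hb]
      rw [hai, hbi, smul_eq_iff_eq_inv_smul g, smul_eq_iff_eq_inv_smul g, hai, hbi]
    · have hai : g⁻¹ • a = b := by rw [inv_smul_eq_iff, hb]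
      have hbi : g⁻¹ • b = a := by rw [inv_smul_eq_iff, ha]
      rw [hai, hbi, smul_eq_iff_eq_inv_smul g, smul_eq_iff_eq_inv_smul g, hai, hbi]
      exact and_comm

end CfsgLib.CharDeep.Zas
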