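import Mathlib
import Cfsg.Agent.Lib.Char.Clifford
import Cfsg.Agent.Lib.CharDeep.Clifford
import Cfsg.Agent.Lib.Char.Linear

/-! Restriction of an invariant character to an abelian chief factor. -/

namespace CfsgLib.CharDeep.Chief

open CfsgLib
open scoped ComplexConjugate

universe u

variable {K : Type u} [Group K] [Fintype K]

/-- Distinct constituents of equal multiplicity fit into the degree. -/
theorem card_mul_le_degree {ι : Type*} [Fintype ι] {X : K → ℂ} (hX : Cfsg.IsCharacter K X)
    (f : ι → Cfsg.IrrCharacter K) (hf : Function.Injective f) (e d D : ℕ)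
    (he : ∀ i, Cfsg.classInner X (f i : K → ℂ) = e) (hd : ∀ i, (f i : K → ℂ) 1 = d)
    (hD : X 1 = D) : Fintype.card ι * (e * d) ≤ D := by
  classical
  obtain ⟨m, hm⟩ := Char.IsCharacter.exists_nat_combination hX
  have hm' : ∀ i, m (f i) = e := fun i => by
    have h := he i
    rw [hm, Char.classInner_sum_smul_irr (fun φ => (m φ : ℂ)) (f i)] at h
    exact_mod_cast h
  choose dg _ hdg using fun φ : Cfsg.IrrCharacter K => Char.IsIrrCharacter.exists_degree φ.2
  have hdf : ∀ i, dg (f i) = d := fun i => by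
    have h := hd i
    rw [hdg] at h
    exact_mod_cast h
  have h1 : ∑ φ : Cfsg.IrrCharacter K, m φ * dg φ = D := by
    have h := congrFun hm 1
    simp only [Finset.sum_apply, Pi.smul_apply, smul_eq_mul, hdg, hD] at h
    exact_mod_cast h.symm
  calc Fintype.card ι * (e * d) = ∑ i : ι, m (f i) * dg (f i) := by simp [hm', hdf]
    _ = ∑ φ ∈ Finset.univ.image f, m φ * dg φ :=
      (Finset.sum_image (f := fun φ => m φ * dg φ) (fun a _ b _ h => hf h)).symm
    _ ≤ ∑ φ, m φ * dg φ := Finset.sum_le_sum_of_subset (Finset.subset_univ _)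
    _ = D := h1

variable (N : Subgroup K) [N.Normal] [Fintype N]

/-- The trichotomy. -/
theorem trichotomy (hab : ∀ a b : K, a * b * a⁻¹ * b⁻¹ ∈ N) {ι : Type*} (α : ι → MulAut K)
    (hN : ∀ i, ∀ x ∈ N, α i x ∈ N)
    (hchief : ∀ M : Subgroup K, N ≤ M → (∀ i, ∀ x ∈ M, α i x ∈ M) → M = N ∨ M = ⊤)
    {θ : K → ℂ} (hθ : Cfsg.IsIrrCharacter K θ) (hinv : ∀ i x, θ (α i x) = θ x) :
    Cfsg.IsIrrCharacter N (fun n : N => θ n) ∨
    (∃ (φ : N → ℂ) (e : ℕ), Cfsg.IsIrrCharacter N φ ∧ (fun n : N => θ n) = (e : ℂ) • φ ∧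
      e ^ 2 = N.index) ∨
    ∃ F : Finset (N → ℂ), (∀ φ ∈ F, Cfsg.IsIrrCharacter N φ) ∧ F.card = N.index ∧
      (fun n : N => θ n) = ∑ φ ∈ F, φ := by
  classical
  have hcl := Char.IsIrrCharacter.isClassFunction hθ
  obtain ⟨φ, hφ, hφc⟩ := CfsgLib.Clifford.exists_constituent_res N hθ
  have hres : Cfsg.IsCharacter N (fun n : N => θ n) :=
    CfsgLib.Clifford.isCharacter_res (Char.IsIrrCharacter.isCharacter hθ) N
  obtain ⟨c, hc⟩ := Char.IsCharacter.exists_nat_classInner hres hφ
  obtain ⟨df, hdfpos, hdf⟩ := Char.IsIrrCharacter.exists_degree hφ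
  obtain ⟨dt, -, hdt⟩ := Char.IsIrrCharacter.exists_degree hθ
  have hcpos : 0 < c := Nat.pos_of_ne_zero fun h => hφc (by rw [hc, h, Nat.cast_zero])
  have hind : Cfsg.IsCharacter K (Cfsg.indFun N φ) :=
    Char.IsCharacter.indFun N (Char.IsIrrCharacter.isCharacter hφ)
  have hindd : Cfsg.indFun N φ 1 = ((N.index * df : ℕ) : ℂ) := by
    rw [Char.indFun_apply_one, hdf, Nat.cast_mul]
  set T := CharTwist.inertia N φ
  have hNT : N ≤ T := CharTwist.le_inertia N (Char.IsIrrCharacter.isClassFunction hφ)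
  have hTn : ∀ k : K, ∀ x ∈ T, k * x * k⁻¹ ∈ T := by
    intro k x hx
    rw [show k * x * k⁻¹ = (k * x * k⁻¹ * x⁻¹) * x by group]
    exact T.mul_mem (hNT (hab k x)) hx
  have hTinv : ∀ i, ∀ x ∈ T, α i x ∈ T := by
    intro i x hx
    let β₀ : N →* N := ((α i).toMonoidHom.comp N.subtype).codRestrict N (fun n => hN i n n.2)
    have hβ₀ : Function.Bijective β₀ := Finite.injective_iff_bijective.1 fun a b h =>
      Subtype.ext ((α i).injective (congrArg Subtype.val h))
    let β := MulEquiv.ofBijective β₀ hβ₀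
    have hβ : ∀ n : N, ((β n : N) : K) = α i n := fun n => rfl
    have hconst : Cfsg.classInner (fun n : N => θ n) (φ ∘ β) ≠ 0 := by
      have h : (fun n : N => θ n) = (fun n : N => θ n) ∘ β := funext fun n => by
        show θ n = θ ((β n : N) : K)
        rw [hβ, hinv]
      rw [h, CfsgLib.Clifford.classInner_comp_equiv β]
      exact hφc
    obtain ⟨k, hk⟩ := CfsgLib.Clifford.exists_conjFun_eq N hθ hφ
      (CharTwist.isIrrCharacter_comp_equiv hφ β) hφc hconst
    rw [CharTwist.mem_inertia]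
    funext m
    obtain ⟨n, rfl⟩ := β.surjective m
    have hn : x * (n : K) * x⁻¹ ∈ N := Subgroup.Normal.conj_mem inferInstance _ n.2 x
    have h1 : CharTwist.conjFun N φ (α i x) (β n) = φ (β ⟨x * n * x⁻¹, hn⟩) := by
      refine congrArg φ (Subtype.ext ?_)
      show α i x * (β n : N) * (α i x)⁻¹ = ((β ⟨x * n * x⁻¹, hn⟩ : N) : K)
      rw [hβ, hβ, ← map_inv, ← map_mul, ← map_mul]
    rw [h1, show φ (β ⟨x * n * x⁻¹, hn⟩) = (φ ∘ β) ⟨x * n * x⁻¹, hn⟩ from rfl, ← hk,
      show φ (β n) = (φ ∘ β) n from rfl, ← hk]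
    have h2 := congrFun (CharTwist.mem_inertia.1 (hTn k x hx))
      ⟨k * n * k⁻¹, Subgroup.Normal.conj_mem inferInstance _ n.2 k⟩
    refine Eq.trans (congrArg φ (Subtype.ext ?_)) h2
    show k * (x * n * x⁻¹) * k⁻¹ = k * x * k⁻¹ * (k * n * k⁻¹) * (k * x * k⁻¹)⁻¹
    group
  rcases hchief T hNT hTinv with hT | hT
  · -- the orbit has full length
    refine Or.inr (Or.inr ?_)
    have horb : (CfsgLib.Clifford.orbit N φ).card = N.index := by
      rw [CfsgLib.Clifford.card_orbit]; exact congrArg Subgroup.index hT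
    have h1 := CfsgLib.Clifford.apply_one_eq N hθ hφ hφc
    rw [hc, show (CharTwist.inertia N φ).index = N.index from congrArg Subgroup.index hT, hdt, hdf] at h1
    have h1' : dt = c * N.index * df := by exact_mod_cast h1
    have h2 := card_mul_le_degree hind (fun _ : Unit => (⟨θ, hθ⟩ : Cfsg.IrrCharacter K))
      (fun _ _ _ => rfl) c dt _ (fun _ => by
        show Cfsg.classInner (Cfsg.indFun N φ) θ = c
        rw [Char.classInner_indFun N φ θ hcl, ← Char.classInner_conj_symm, hc, map_natCast])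
      (fun _ => hdt) hindd
    rw [Fintype.card_unit, one_mul, h1'] at h2
    have hc1 : c = 1 := by
      have hpos : 0 < N.index * df :=
        Nat.mul_pos (Nat.pos_of_ne_zero Subgroup.index_ne_zero_of_finite) hdfpos
      have h3 : c * c * (N.index * df) ≤ 1 * (N.index * df) := by
        rw [one_mul]; exact le_trans (le_of_eq (by ring)) h2
      have := Nat.le_of_mul_le_mul_right h3 hpos
      nlinarith
    refine ⟨CfsgLib.Clifford.orbit N φ, fun ψ hψ => ?_, horb, ?_⟩
    · obtain ⟨g, rfl⟩ := (CfsgLib.Clifford.mem_orbit N).1 hψ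
      exact CharTwist.isIrrCharacter_conjFun N hφ g
    · rw [CfsgLib.Clifford.res_eq N hθ hφ hφc, hc, hc1, Nat.cast_one, one_smul]
  · -- `φ` is invariant
    have hφinv : ∀ g, CharTwist.conjFun N φ g = φ := fun g =>
      CharTwist.mem_inertia.1 (show g ∈ T by rw [hT]; trivial)
    obtain ⟨e, hepos, he⟩ := Cliff.res_eq_smul N hθ hφ hφinv hφc
    let Q := K ⧸ N
    letI : CommGroup Q :=
      { (inferInstance : Group Q) with
        mul_comm := fun x y => by
          obtain ⟨a, rfl⟩ := QuotientGroup.mk_surjective x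
          obtain ⟨b, rfl⟩ := QuotientGroup.mk_surjective y
          rw [← QuotientGroup.mk_mul, ← QuotientGroup.mk_mul, QuotientGroup.eq]
          rw [show (a * b)⁻¹ * (b * a) = b⁻¹ * a⁻¹ * (b⁻¹)⁻¹ * (a⁻¹)⁻¹ by group]
          exact hab _ _ }
    let S : Set (Q →* ℂˣ) := {l | ∀ y : K, (l (QuotientGroup.mk y) : ℂ) * θ y = θ y}
    let U : Subgroup K := ⨅ l : S, ((l : Q →* ℂˣ).comp (QuotientGroup.mk' N)).ker
    have hmemU : ∀ x, x ∈ U ↔ ∀ l ∈ S, l (QuotientGroup.mk x) = 1 := by
      intro x
      simp [U, Subgroup.mem_iInf, MonoidHom.mem_ker]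
      rfl
    have hNU : N ≤ U := fun x hx => (hmemU x).2 fun l _ => by
      rw [(QuotientGroup.eq_one_iff x).2 hx, map_one]
    have hUinv : ∀ i, ∀ x ∈ U, α i x ∈ U := by
      intro i x hx
      rw [hmemU] at hx ⊢
      intro l hl
      exact hx (l.comp (QuotientGroup.map N N (α i).toMonoidHom (fun n hn => hN i n hn))) fun y => by
        have := hl (α i y)
        rw [hinv] at this
        exact this
    rcases hchief U hNU hUinv with hU | hU
    · refine Or.inr (Or.inl ⟨φ, e, hφ, he, ?_⟩)
      have hz : ∀ x, x ∉ N → θ x = 0 := by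
        intro x hx
        rw [← hU, hmemU] at hx
        push Not at hx
        obtain ⟨l, hl, hlx⟩ := hx
        by_contra h0
        exact hlx (Units.ext (mul_right_cancel₀ h0 (by rw [Units.val_one, one_mul]; exact hl x)))
      have hs := Cliff.card_eq_sum_split N hθ e hφ he
      rw [Finset.sum_eq_zero (fun g hg => by simp [hz g (Finset.mem_filter.1 hg).2]), add_zero,
        ← N.card_mul_index] at hs
      push_cast at hs
      exact_mod_cast (mul_left_cancel₀ (Nat.cast_ne_zero.2 Nat.card_pos.ne') hs).symm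
    · left
      have hfix : ∀ l ∈ S, l = 1 := fun l hl => MonoidHom.ext fun q => by
        obtain ⟨x, rfl⟩ := QuotientGroup.mk_surjective q
        exact (hmemU x).1 (hU ▸ Subgroup.mem_top x) l hl
      have := Fintype.ofFinite (Q →* ℂˣ)
      let f : (Q →* ℂˣ) → Cfsg.IrrCharacter K := fun l =>
        ⟨_, Char.IsIrrCharacter.linear_mul hθ (l.comp (QuotientGroup.mk' N))⟩
      have hfapp : ∀ l x, (f l : K → ℂ) x = (l (QuotientGroup.mk x) : ℂ) * θ x := fun _ _ => rfl
      have hfinj : Function.Injective f := fun l l' h => by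
        refine (inv_mul_eq_one.1 (hfix (l⁻¹ * l') fun y => ?_))
        have h' : (l (QuotientGroup.mk y) : ℂ) * θ y = (l' (QuotientGroup.mk y) : ℂ) * θ y :=
          congrFun (congrArg Subtype.val h) y
        rw [MonoidHom.mul_apply, MonoidHom.inv_apply, Units.val_mul, mul_assoc, ← h', ← mul_assoc,
          Units.inv_mul, one_mul]
      have hmult : ∀ l, Cfsg.classInner (Cfsg.indFun N φ) (f l : K → ℂ) = e := by
        intro l
        rw [Char.classInner_indFun N φ _ (Char.IsIrrCharacter.isClassFunction (f l).2)]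
        have h : (fun n : N => (f l : K → ℂ) n) = (e : ℂ) • φ := by
          rw [← he]
          funext n
          rw [hfapp, (QuotientGroup.eq_one_iff (n : K)).2 n.2, map_one, Units.val_one, one_mul]
        rw [h, Char.classInner_smul_right, map_natCast, Char.classInner_irr_self hφ, mul_one]
      have hdeg : ∀ l, (f l : K → ℂ) 1 = ((e * df : ℕ) : ℂ) := by
        intro l
        have := congrFun he 1
        simp only [Subgroup.coe_one, Pi.smul_apply, smul_eq_mul, hdf] at this
        rw [hfapp, this, QuotientGroup.mk_one, map_one, Units.val_one, one_mul, Nat.cast_mul]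
      have h2 := card_mul_le_degree hind f hfinj e (e * df) _ hmult hdeg hindd
      rw [← Nat.card_eq_fintype_card, CommGroup.card_monoidHom_of_hasEnoughRootsOfUnity,
        show Nat.card Q = N.index from rfl] at h2
      have he1 : e = 1 := by
        have h3 := Nat.le_of_mul_le_mul_left h2 (Nat.pos_of_ne_zero Subgroup.index_ne_zero_of_finite)
        have h4 : e * e * df ≤ 1 * df := by rw [one_mul]; exact le_trans (le_of_eq (by ring)) h3
        have := Nat.le_of_mul_le_mul_right h4 hdfpos
        nlinarith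
      rw [he, he1, Nat.cast_one, one_smul]
      exact hφ

end CfsgLib.CharDeep.Chief
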