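import Mathlib
import Cfsg.Agent.S0857
import Cfsg.Agent.Lib.CharDeep.Clifford

/-! Relative monomiality above a normal subgroup with nonsquare chief factors. -/

namespace CfsgLib.CharDeep.RelM

open CfsgLib

universe u

theorem indFun_congr {H : Type u} [Group H] [Fintype H] {S S' : Subgroup H} (h : S = S')
    (f : S → ℂ) (f' : S' → ℂ) (hf : ∀ x (hx : x ∈ S) (hx' : x ∈ S'), f ⟨x, hx⟩ = f' ⟨x, hx'⟩) :
    Cfsg.indFun S f = Cfsg.indFun S' f' := by
  subst h
  rw [show f = f' from funext fun x => hf x.1 x.2 x.2]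

/-- A subgroup perfect modulo the trivial group in a solvable group is trivial. -/
theorem eq_bot_of_le_commutator {G : Type u} [Group G] [Group.IsSolvable G] (K : Subgroup G)
    (h : K ≤ ⁅K, K⁆) : K = ⊥ := by
  obtain ⟨n, hn⟩ := Group.IsSolvable.solvable (G := G)
  have hle : ∀ m, K ≤ derivedSeries G m := by
    intro m
    induction m with
    | zero => exact le_top
    | succ m ih => exact h.trans (Subgroup.commutator_mono ih ih)
  exact eq_bot_iff.2 (hn ▸ hle n)

/-- Either the restriction is irreducible or the character is induced from a proper subgroup. -/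
theorem res_irr_or_induced {H : Type u} [Group H] [Fintype H] (N : Subgroup H) [N.Normal]
    (hperf : ∀ K : Subgroup H, N ≤ K → K ≤ ⁅K, K⁆ ⊔ N → K ≤ N)
    (hchief : ∀ K L : Subgroup H, K.Normal → L.Normal → N ≤ L → L < K →
      (∀ M : Subgroup H, M.Normal → L ≤ M → M ≤ K → M = L ∨ M = K) → ¬ IsSquare (L.relIndex K))
    {ψ : H → ℂ} (hψ : Cfsg.IsIrrCharacter H ψ) :
    Cfsg.IsIrrCharacter N (fun x : N => ψ x) ∨
      ∃ (T : Subgroup H) (ψ' : T → ℂ),
        N ≤ T ∧ T ≠ ⊤ ∧ Cfsg.IsIrrCharacter T ψ' ∧ Cfsg.indFun T ψ' = ψ := by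
  classical
  suffices hmain : ∀ (n : ℕ) (K : Subgroup H), Nat.card K = n → K.Normal → N ≤ K →
      Cfsg.IsIrrCharacter K (fun x : K => ψ x) →
      Cfsg.IsIrrCharacter N (fun x : N => ψ x) ∨
      ∃ (T : Subgroup H) (ψ' : T → ℂ),
        N ≤ T ∧ T ≠ ⊤ ∧ Cfsg.IsIrrCharacter T ψ' ∧ Cfsg.indFun T ψ' = ψ from
    hmain _ ⊤ rfl inferInstance le_top (CharTwist.isIrrCharacter_comp_equiv hψ Subgroup.topEquiv)
  intro n
  induction n using Nat.strong_induction_on with
  | _ n ih => ?_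
  intro K hn hKn hNK hK
  by_cases hKN : K ≤ N
  · left
    obtain rfl : K = N := le_antisymm hKN hNK
    exact hK
  let C : Subgroup H := ⁅K, K⁆ ⊔ N
  have hCn : C.Normal := by
    haveI : (⁅K, K⁆).Normal := Subgroup.commutator_normal K K
    exact Subgroup.sup_normal _ _
  have hCK : C < K := lt_of_le_of_ne (sup_le K.commutator_le_self hNK)
    fun h => hKN (hperf K hNK h.ge)
  obtain ⟨L, ⟨hLn, hCL, hLK⟩, hmax⟩ :=
    ({L : Subgroup H | L.Normal ∧ C ≤ L ∧ L < K}).toFinite.exists_maximal ⟨C, hCn, le_rfl, hCK⟩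
  have hNL : N ≤ L := le_sup_right.trans hCL
  have hchief' : ∀ M : Subgroup H, M.Normal → L ≤ M → M ≤ K → M = L ∨ M = K := by
    intro M hM hLM hMK
    rcases eq_or_lt_of_le hMK with h | h
    · exact Or.inr h
    · exact Or.inl (le_antisymm (hmax ⟨hM, hCL.trans hLM, h⟩ hLM) hLM)
  have hab : ⁅K, K⁆ ≤ L := le_sup_left.trans hCL
  have hcl := Char.IsIrrCharacter.isClassFunction hψ
  rcases Cfsg.Agent.S0857.result K L hLK hchief' hab (fun x : K => ψ x) hK
    (fun g x => hcl x g) with h | ⟨φ, e, -, -, he⟩ | ⟨F, hF, hcard, hsum⟩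
  · refine ih (Nat.card L) ?_ L rfl hLn hNL h
    rw [← hn]
    refine lt_of_le_of_ne (Nat.le_of_dvd Nat.card_pos (Subgroup.card_dvd_of_le hLK.le)) fun h' => ?_
    exact hLK.ne (Subgroup.eq_of_le_of_card_ge hLK.le h'.ge)
  · exact absurd ⟨e, by rw [← sq, he]⟩ (hchief K L hKn hLn hNL hLK hchief')
  · right
    have h2 : 1 < F.card := by
      rw [hcard]
      have h0 : L.relIndex K ≠ 0 := Subgroup.index_ne_zero_of_finite
      have h1 : L.relIndex K ≠ 1 := fun h => not_le_of_gt hLK (Subgroup.relIndex_eq_one.1 h)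
      omega
    obtain ⟨φ, hφ, φ', hφ', hne⟩ := Finset.one_lt_card.1 h2
    have hsum' : (fun x : L => ψ x) = ∑ f ∈ F, f := hsum
    have hinner : ∀ f ∈ F, Cfsg.classInner (fun x : L => ψ x) f = 1 := by
      intro f hf
      rw [hsum', Char.classInner_sum_left, Finset.sum_eq_single f
        (fun g hg hgf => Char.classInner_irr_of_ne (hF g hg) (hF f hf) hgf) (fun h => absurd hf h)]
      exact Char.classInner_irr_self (hF f hf)
    have hcon : Cfsg.classInner (fun x : L => ψ x) φ ≠ 0 := by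
      rw [hinner φ hφ]; exact one_ne_zero
    let T := CharTwist.inertia L φ
    have hLT : L ≤ T := CharTwist.le_inertia L (Char.IsIrrCharacter.isClassFunction (hF φ hφ))
    obtain ⟨ψ', hψ', hind, -⟩ := Cliff.correspondence L hψ (hF φ hφ) T
      (fun g => CharTwist.mem_inertia) hLT hcon
    refine ⟨T, ψ', hNL.trans hLT, fun hT => ?_, hψ', hind⟩
    obtain ⟨e, -, he⟩ := Cliff.res_eq_smul L hψ (hF φ hφ)
      (fun g => CharTwist.mem_inertia.1 (show g ∈ T by rw [hT]; trivial)) hcon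
    have h3 := hinner φ' hφ'
    rw [he, Char.classInner_smul_left, Char.classInner_irr_of_ne (hF φ hφ) (hF φ' hφ') hne,
      mul_zero] at h3
    exact zero_ne_one h3

variable {G : Type u} [Group G] [Fintype G]

/-- The relative M-group property. -/
theorem exists_induced (N : Subgroup G) [N.Normal] (hsolv : Group.IsSolvable (G ⧸ N))
    (hchief : ∀ (H K L : Subgroup G), N ≤ L → L < K → K ≤ H →
      (∀ h ∈ H, ∀ k ∈ K, h * k * h⁻¹ ∈ K) → (∀ h ∈ H, ∀ l ∈ L, h * l * h⁻¹ ∈ L) →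
      (∀ M : Subgroup G, L ≤ M → M ≤ K → (∀ h ∈ H, ∀ m ∈ M, h * m * h⁻¹ ∈ M) → M = L ∨ M = K) →
      ¬ IsSquare (L.relIndex K))
    {χ : G → ℂ} (hχ : Cfsg.IsIrrCharacter G χ) :
    ∃ (H : Subgroup G) (hNH : N ≤ H) (ψ : H → ℂ), Cfsg.IsIrrCharacter H ψ ∧
      Cfsg.indFun H ψ = χ ∧ Cfsg.IsIrrCharacter N (fun n : N => ψ ⟨(n : G), hNH n.2⟩) := by
  classical
  suffices hmain : ∀ (n : ℕ) (T : Subgroup G) (ψ : T → ℂ), Nat.card T = n → N ≤ T →
      Cfsg.IsIrrCharacter T ψ → Cfsg.indFun T ψ = χ →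
      ∃ (H : Subgroup G) (hNH : N ≤ H) (ψ : H → ℂ), Cfsg.IsIrrCharacter H ψ ∧
        Cfsg.indFun H ψ = χ ∧ Cfsg.IsIrrCharacter N (fun n : N => ψ ⟨(n : G), hNH n.2⟩) by
    refine hmain _ ⊤ (fun x => χ x) rfl le_top
      (CharTwist.isIrrCharacter_comp_equiv hχ Subgroup.topEquiv) ?_
    funext g
    rw [Char.indFun_apply]
    have hcl := Char.IsIrrCharacter.isClassFunction hχ
    rw [Finset.sum_congr rfl (g := fun _ => χ g) (fun x _ => by
      rw [Char.extendByZero_apply_mem ⊤ _ (Subgroup.mem_top _)]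
      show χ (x⁻¹ * g * x) = χ g
      simpa using hcl g x⁻¹), Finset.sum_const, Finset.card_univ, nsmul_eq_mul, Subgroup.card_top,
      ← Nat.card_eq_fintype_card, ← mul_assoc, inv_mul_cancel₀ (Nat.cast_ne_zero.2 Nat.card_pos.ne'),
      one_mul]
  intro n
  induction n using Nat.strong_induction_on with
  | _ n ih => ?_
  intro T ψ hn hNT hψ hind
  let N' : Subgroup T := N.subgroupOf T
  have hperf : ∀ K : Subgroup T, N' ≤ K → K ≤ ⁅K, K⁆ ⊔ N' → K ≤ N' := by
    intro K _ hK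
    let f : T →* G ⧸ N := (QuotientGroup.mk' N).comp T.subtype
    have hker : f.ker = N' := by
      ext x
      simp [f, N', Subgroup.mem_subgroupOf, MonoidHom.mem_ker]
    have h1 : K.map f ≤ ⁅K.map f, K.map f⁆ := by
      have h2 := Subgroup.map_mono (f := f) hK
      rwa [Subgroup.map_sup, Subgroup.map_commutator, (Subgroup.map_eq_bot_iff N').2 hker.ge,
        sup_bot_eq] at h2
    have h3 := eq_bot_of_le_commutator _ h1
    rwa [Subgroup.map_eq_bot_iff, hker] at h3
  have hchief' : ∀ K L : Subgroup T, K.Normal → L.Normal → N' ≤ L → L < K →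
      (∀ M : Subgroup T, M.Normal → L ≤ M → M ≤ K → M = L ∨ M = K) →
      ¬ IsSquare (L.relIndex K) := by
    intro K L hKn hLn hNL hLK hM
    rw [← Subgroup.relIndex_map_map_of_injective L K T.subtype_injective]
    refine hchief T (K.map T.subtype) (L.map T.subtype) ?_ ?_ (Subgroup.map_subtype_le K) ?_ ?_ ?_
    · exact fun x hx => ⟨⟨x, hNT hx⟩, hNL hx, rfl⟩
    · exact (Subgroup.map_lt_map_iff_of_injective T.subtype_injective).2 hLK
    · rintro h hh _ ⟨k, hk, rfl⟩
      exact ⟨_, hKn.conj_mem k hk ⟨h, hh⟩, rfl⟩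
    · rintro h hh _ ⟨l, hl, rfl⟩
      exact ⟨_, hLn.conj_mem l hl ⟨h, hh⟩, rfl⟩
    · intro M hLM hMK hMinv
      have hMT : M ≤ T := hMK.trans (Subgroup.map_subtype_le K)
      have hmap : (M.subgroupOf T).map T.subtype = M := Subgroup.map_subgroupOf_eq_of_le hMT
      rcases hM (M.subgroupOf T) ⟨fun m hm h => hMinv h h.2 m hm⟩
        ((Subgroup.map_le_map_iff_of_injective T.subtype_injective).1 (hmap.symm ▸ hLM))
        ((Subgroup.map_le_map_iff_of_injective T.subtype_injective).1 (hmap.symm ▸ hMK)) with h | h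
      · exact Or.inl (by rw [← h, hmap])
      · exact Or.inr (by rw [← h, hmap])
  rcases res_irr_or_induced N' hperf hchief' hψ with h | ⟨T', ψ', hN', hT', hψ', hind'⟩
  · exact ⟨T, hNT, ψ, hψ, hind,
      CharTwist.isIrrCharacter_comp_equiv h (Subgroup.subgroupOfEquivOfLe hNT).symm⟩
  · let S : Subgroup G := T'.map T.subtype
    let eS : T' ≃* S := T'.equivMapOfInjective T.subtype T.subtype_injective
    refine ih (Nat.card S) ?_ S (ψ' ∘ eS.symm) rfl
      (fun x hx => ⟨⟨x, hNT hx⟩, hN' hx, rfl⟩) (CharTwist.isIrrCharacter_comp_equiv hψ' eS.symm) ?_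
    · rw [← hn, Subgroup.card_map_of_injective T.subtype_injective]
      refine lt_of_le_of_ne (Nat.le_of_dvd Nat.card_pos T'.card_subgroup_dvd_card) fun h => hT' ?_
      exact Subgroup.eq_top_of_card_eq _ h
    · have hST : S ≤ T := Subgroup.map_subtype_le T'
      rw [← hind, ← Char.indFun_indFun S T hST (ψ' ∘ eS.symm)]
      congr 1
      rw [← hind']
      refine indFun_congr (Subgroup.comap_map_eq_self_of_injective T.subtype_injective T') _ _ ?_
      intro x hx hx'
      show ψ' (eS.symm _) = _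
      congr 1
      rw [MulEquiv.symm_apply_eq]
      rfl

end CfsgLib.CharDeep.RelM
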