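import Mathlib
import Cfsg.Agent.Lib.Char.Monomial
import Cfsg.Agent.Lib.CharDeep.RelMGroup

/-! Characters restricting irreducibly to a solvable normal subgroup with abelian Sylow subgroups
are monomial. -/

namespace CfsgLib.CharDeep.AMono

open CfsgLib
open scoped commutatorElement

universe u

/-- All prime-power subgroups inside `N` are abelian. -/
def AG {G : Type u} [Group G] (N : Subgroup G) : Prop :=
  ∀ (p : ℕ) (Q : Subgroup G), p.Prime → Q ≤ N → IsPGroup p Q → ∀ a ∈ Q, ∀ b ∈ Q, a * b = b * a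

theorem ag_of_sylow {G : Type u} [Group G] [Finite G] (N : Subgroup G)
    (hab : ∀ (p : ℕ) [Fact p.Prime] (P : Sylow p N), ∀ a ∈ P, ∀ b ∈ P, a * b = b * a) : AG N := by
  intro p Q hp hQN hQ a ha b hb
  haveI := Fact.mk hp
  have h1 : IsPGroup p (Q.subgroupOf N) :=
    hQ.of_equiv (Subgroup.subgroupOfEquivOfLe hQN).symm
  obtain ⟨P, hP⟩ := h1.exists_le_sylow
  exact congrArg Subtype.val
    (hab p P ⟨a, hQN ha⟩ (hP (show a ∈ Q from ha)) ⟨b, hQN hb⟩ (hP (show b ∈ Q from hb)))

theorem AG.subgroupOf {G : Type u} [Group G] {N : Subgroup G} (h : AG N) (T : Subgroup G) :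
    AG (N.subgroupOf T) := by
  intro p Q hp hQN hQ a ha b hb
  apply Subtype.ext
  exact h p (Q.map T.subtype) hp (by rintro _ ⟨x, hx, rfl⟩; exact hQN hx) (hQ.map _) _ ⟨a, ha, rfl⟩ _
    ⟨b, hb, rfl⟩

theorem AG.map {G : Type u} [Group G] [Finite G] {G' : Type u} [Group G'] {N : Subgroup G}
    (h : AG N) (q : G →* G') : AG (N.map q) := by
  intro p Q hp hQN hQ a ha b hb
  haveI := Fact.mk hp
  let Q' : Subgroup G := Q.comap q ⊓ N
  let f : Q' →* Q := (q.comp Q'.subtype).codRestrict Q (fun x => x.2.1)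
  have hf : Function.Surjective f := by
    rintro ⟨y, hy⟩
    obtain ⟨x, hx, rfl⟩ := hQN hy
    exact ⟨⟨x, hy, hx⟩, rfl⟩
  haveI : Finite Q := Finite.of_surjective f hf
  obtain ⟨P⟩ : Nonempty (Sylow p Q') := inferInstance
  have htop : (⊤ : Subgroup Q) ≤ (P : Subgroup Q').map f := by
    have := (P.mapSurjective hf).is_maximal' (hQ.to_subgroup ⊤) le_top
    exact le_of_eq this
  obtain ⟨x, hx, hxa⟩ := htop (Subgroup.mem_top (⟨a, ha⟩ : Q))
  obtain ⟨y, hy, hyb⟩ := htop (Subgroup.mem_top (⟨b, hb⟩ : Q))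
  have hc := h p ((P : Subgroup Q').map Q'.subtype) hp (by rintro _ ⟨z, _, rfl⟩; exact z.2.2)
    (P.isPGroup'.map _) _ ⟨x, hx, rfl⟩ _ ⟨y, hy, rfl⟩
  rw [← show q x = a from congrArg Subtype.val hxa, ← show q y = b from congrArg Subtype.val hyb,
    ← map_mul, ← map_mul]
  exact congrArg q hc

/-- Class two inside an A-group means abelian. -/
theorem AG.comm_of_class_two {G : Type u} [Group G] [Finite G] {N : Subgroup G} (h : AG N)
    (B : Subgroup G) (hB : B ≤ N)
    (hc : ∀ a ∈ B, ∀ b ∈ B, ∀ c ∈ B, ⁅a, b⁆ * c = c * ⁅a, b⁆) :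
    ∀ a ∈ B, ∀ b ∈ B, a * b = b * a := by
  haveI : Group.IsNilpotent B := by
    refine Subgroup.isNilpotent_of_ker_le_center (Abelianization.of (G := B)) ?_
    rw [Abelianization.ker_of, commutator_def, Subgroup.commutator_le]
    intro a _ b _
    rw [Subgroup.mem_center_iff]
    intro c
    apply Subtype.ext
    exact (hc a a.2 b b.2 c c.2).symm
  obtain ⟨φ⟩ := ((Group.isNilpotent_of_finite_tfae (G := B)).out 0 4 rfl rfl).1 ‹_›
  intro a ha b hb
  have hab : (⟨a, ha⟩ : B) * ⟨b, hb⟩ = ⟨b, hb⟩ * ⟨a, ha⟩ := by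
    apply φ.symm.injective
    rw [map_mul, map_mul]
    funext q P
    simp only [Pi.mul_apply]
    apply Subtype.ext
    apply Subtype.ext
    exact h q ((P : Subgroup B).map B.subtype) (Nat.prime_of_mem_primeFactors q.2)
      (by rintro _ ⟨z, _, rfl⟩; exact hB z.2) (P.isPGroup'.map _) _ ⟨_, (φ.symm ⟨a, ha⟩ q P).2, rfl⟩ _
      ⟨_, (φ.symm ⟨b, hb⟩ q P).2, rfl⟩
  exact congrArg Subtype.val hab

/-- An irreducible character trivial on commutators is linear. -/
theorem linear_of_commutators {G : Type u} [Group G] [Finite G] {θ : G → ℂ}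
    (hθ : Cfsg.IsIrrCharacter G θ) (h : ∀ a b : G, θ (a * b * (b * a)⁻¹) = θ 1) :
    ∃ f : G →* ℂˣ, ∀ g, θ g = f g := by
  obtain ⟨d, ρ, hρ, rfl⟩ := hθ
  have hcomm : ∀ a b : G, ρ a * ρ b = ρ b * ρ a := by
    intro a b
    have h1 := h a b
    rw [Representation.char_one, Char.character_eq_degree_iff] at h1
    calc ρ a * ρ b = ρ (a * b * (b * a)⁻¹) * ρ (b * a) := by
          rw [← map_mul, ← map_mul, inv_mul_cancel_right]
      _ = ρ b * ρ a := by rw [h1, map_mul]; rfl
  have := CharKernel.nontrivial_of_irreducible ρ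
  obtain ⟨v, hv⟩ := exists_ne (0 : Fin d → ℂ)
  have hd : Module.finrank ℂ (Fin d → ℂ) = 1 := by
    rcases CharKernel.eq_bot_or_eq_top ρ (ℂ ∙ v) (fun g w hw => by
      obtain ⟨c, hc⟩ := Char.exists_scalar_of_commute ρ (ρ g) (fun x => hcomm g x)
      rw [hc]
      exact Submodule.smul_mem _ c hw) with h | h
    · exact absurd (Submodule.span_singleton_eq_bot.mp h) hv
    · rw [← finrank_top ℂ (Fin d → ℂ), ← h, finrank_span_singleton hv]
  obtain ⟨f, hf⟩ := Char.IsCharacter.exists_linear ⟨d, ρ, rfl⟩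
    (by rw [Representation.char_one, hd, Nat.cast_one])
  exact ⟨f, hf⟩

/-- If a degree-scaling additive operation on characters gives something irreducible, the
argument is irreducible. -/
theorem isIrr_of_map_irr {G : Type u} {G' : Type u} [Group G] [Group G'] [Fintype G] [Fintype G']
    (F : (G → ℂ) →ₗ[ℂ] (G' → ℂ)) (hF : ∀ f, Cfsg.IsCharacter G f → Cfsg.IsCharacter G' (F f))
    (c : ℕ) (hc : 0 < c) (hdeg : ∀ f, F f 1 = c * f 1) {Y : G → ℂ} (hY : Cfsg.IsCharacter G Y)
    (hirr : Cfsg.IsIrrCharacter G' (F Y)) : Cfsg.IsIrrCharacter G Y := by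
  classical
  have hd : ∀ f, Cfsg.IsCharacter G f → Char.degree (F f) = c * Char.degree f := by
    intro f hf
    have h := hdeg f
    rw [← Char.IsCharacter.degree_cast (hF f hf), ← Char.IsCharacter.degree_cast hf] at h
    exact_mod_cast h
  have hY1 : Y 1 ≠ 0 := by
    intro h0
    apply Char.IsIrrCharacter.apply_one_ne_zero hirr
    rw [hdeg, h0, mul_zero]
  obtain ⟨ζ, hζ, hζc⟩ := CfsgLib.Clifford.exists_constituent hY hY1
  obtain ⟨m, hm⟩ := Char.IsCharacter.exists_nat_combination hY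
  have hζch := Char.IsIrrCharacter.isCharacter hζ
  obtain ⟨w, hw, hwc⟩ := CfsgLib.Clifford.exists_constituent (hF ζ hζch) (by
    rw [hdeg]
    exact mul_ne_zero (Nat.cast_ne_zero.2 hc.ne') (Char.IsIrrCharacter.apply_one_ne_zero hζ))
  choose k hk using fun φ : Cfsg.IrrCharacter G =>
    Char.IsCharacter.exists_nat_classInner (hF _ (Char.IsIrrCharacter.isCharacter φ.2)) hw
  have hne : Cfsg.classInner (F Y) w ≠ 0 := by
    rw [hm, map_sum, Char.classInner_sum_left]
    simp only [map_smul, Char.classInner_smul_left, hk, ← Nat.cast_mul, ← Nat.cast_sum,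
      Nat.cast_ne_zero]
    intro h0
    have h1 := (Finset.sum_eq_zero_iff.1 h0) ⟨ζ, hζ⟩ (Finset.mem_univ _)
    rcases mul_eq_zero.1 h1 with h1 | h1
    · apply hζc
      rw [hm, Char.classInner_sum_smul_irr (fun φ => (m φ : ℂ)) ⟨ζ, hζ⟩, h1, Nat.cast_zero]
    · exact hwc (by rw [hk ⟨ζ, hζ⟩, h1, Nat.cast_zero])
  have hwY : w = F Y := by
    by_contra hne'
    exact hne (Char.classInner_irr_of_ne hirr hw (Ne.symm hne'))
  have h2 := (Cliff.degree_le_of_constituent (hF ζ hζch) hw hwc).1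
  rw [hwY, hd Y hY, hd ζ hζch] at h2
  rw [(Cliff.degree_le_of_constituent hY hζ hζc).2 (Nat.le_of_mul_le_mul_left h2 hc)]
  exact hζ

/-- Restriction as a linear map. -/
noncomputable def resLin {G : Type u} [Group G] (H : Subgroup G) : (G → ℂ) →ₗ[ℂ] (H → ℂ) :=
  LinearMap.funLeft ℂ ℂ (Subtype.val : H → G)

variable {H : Type u} [Group H] [Fintype H]

/-- A group over which the inducing subgroup and the irreducibility subgroup generate. -/
theorem sup_eq_top (N : Subgroup H) [N.Normal] {ψ : H → ℂ} (hψ : Cfsg.IsIrrCharacter H ψ)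
    (hN : Cfsg.IsIrrCharacter N (fun n : N => ψ n)) (T : Subgroup H) (ψ' : T → ℂ)
    (hψ' : Cfsg.IsCharacter T ψ') (hind : Cfsg.indFun T ψ' = ψ) : T ⊔ N = ⊤ := by
  classical
  set M := T ⊔ N with hM
  have := Fintype.ofFinite M
  let X : M → ℂ := Cfsg.indFun (T.subgroupOf M) (fun x => ψ' ⟨(x : M), Subgroup.mem_subgroupOf.mp x.2⟩)
  have hX : Cfsg.IsCharacter M X := Char.IsCharacter.indFun _ (CharTwist.isCharacter_comp hψ'
    (Subgroup.subgroupOfEquivOfLe (le_sup_left : T ≤ M)).toMonoidHom)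
  have hXind : Cfsg.indFun M X = ψ := (Char.indFun_indFun T M le_sup_left ψ').trans hind
  have hres : Cfsg.IsCharacter M (fun x : M => ψ x) :=
    CfsgLib.Clifford.isCharacter_res (Char.IsIrrCharacter.isCharacter hψ) M
  have hirr : Cfsg.IsIrrCharacter M (fun x : M => ψ x) := by
    refine isIrr_of_map_irr (resLin (N.subgroupOf M))
      (fun f hf => CfsgLib.Clifford.isCharacter_res hf _) 1 one_pos (fun f => ?_) hres ?_
    · show f _ = _
      rw [Nat.cast_one, one_mul]
      rfl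
    · exact CharTwist.isIrrCharacter_comp_equiv hN (Subgroup.subgroupOfEquivOfLe (le_sup_right : N ≤ M))
  have hne : Cfsg.classInner X (fun x : M => ψ x) ≠ 0 := by
    rw [← Char.classInner_indFun M X ψ (Char.IsIrrCharacter.isClassFunction hψ), hXind,
      Char.classInner_irr_self hψ]
    exact one_ne_zero
  have h1 := (Cliff.degree_le_of_constituent hX hirr hne).1
  have h2 : ψ 1 = (M.index : ℂ) * X 1 := by rw [← hXind, Char.indFun_apply_one]
  rw [← Char.IsCharacter.degree_cast (Char.IsIrrCharacter.isCharacter hψ),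
    ← Char.IsCharacter.degree_cast hX] at h2
  have h3 : Char.degree ψ = M.index * Char.degree X := by exact_mod_cast h2
  have h4 : Char.degree (fun x : M => ψ x) = Char.degree ψ := rfl
  rw [h4] at h1
  have hpos : 0 < Char.degree ψ := Char.IsIrrCharacter.degree_pos hψ
  rw [h3] at h1 hpos
  rw [← Subgroup.index_eq_one]
  have hXpos : 0 < Char.degree X := Nat.pos_of_mul_pos_left hpos
  have h5 := Nat.le_of_mul_le_mul_right (show M.index * Char.degree X ≤ 1 * Char.degree X by rwa [one_mul]) hXpos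
  have h6 : M.index ≠ 0 := Subgroup.index_ne_zero_of_finite
  omega

/-- The Clifford correspondent still restricts irreducibly. -/
theorem res_irr_of_induced (N : Subgroup H) [N.Normal] {ψ : H → ℂ}
    (hψ : Cfsg.IsIrrCharacter H ψ)
    (hN : Cfsg.IsIrrCharacter N (fun n : N => ψ n)) (T : Subgroup H) (ψ' : T → ℂ)
    (hψ' : Cfsg.IsIrrCharacter T ψ') (hind : Cfsg.indFun T ψ' = ψ) :
    Cfsg.IsIrrCharacter ↥(N.subgroupOf T) (fun x : N.subgroupOf T => ψ' x) := by
  classical
  have hψ'c := Char.IsIrrCharacter.isCharacter hψ'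
  have htop := sup_eq_top N hψ hN T ψ' hψ'c hind
  have := Fintype.ofFinite N
  let D : Subgroup N := T.subgroupOf N
  have := Fintype.ofFinite D
  let j : D →* T := (N.subtype.comp D.subtype).codRestrict T (fun d => d.2)
  let η : D → ℂ := fun d => ψ' (j d)
  have hη : Cfsg.IsCharacter D η := CharTwist.isCharacter_comp hψ'c j
  have hcl := Char.IsCharacter.isClassFunction hψ'c
  -- Mackey with a single double coset
  have hres : Cfsg.indFun D η = fun n : N => ψ n := by
    funext y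
    rw [← hind, Char.indFun_apply, Char.indFun_apply]
    let f : N × T → H := fun z => (z.1 : H) * z.2
    have hfib : ∀ x : H, (Finset.univ.filter fun z => f z = x).card = Nat.card D := by
      intro x
      obtain ⟨n₀, hn₀, t₀, ht₀, rfl⟩ : ∃ n ∈ N, ∃ t ∈ T, n * t = x := by
        have hx : x ∈ N ⊔ T := by rw [sup_comm, htop]; exact Subgroup.mem_top x
        exact Subgroup.mem_sup_of_normal_left.1 hx
      rw [Nat.card_eq_fintype_card, ← Finset.card_univ]
      refine (Finset.card_bij (fun (d : D) _ =>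
        ((⟨n₀, hn₀⟩ * (d : N)), ((j d)⁻¹ * ⟨t₀, ht₀⟩ : T))) ?_ ?_ ?_).symm
      · intro d _
        refine Finset.mem_filter.2 ⟨Finset.mem_univ _, ?_⟩
        show n₀ * ((d : N) : H) * (((d : N) : H)⁻¹ * t₀) = n₀ * t₀
        group
      · intro a _ b _ h
        exact Subtype.ext (mul_left_cancel (Prod.mk.injEq _ _ _ _ ▸ h).1)
      · rintro ⟨n, t⟩ hz
        have hz' : (n : H) * t = n₀ * t₀ := (Finset.mem_filter.1 hz).2
        have hmem : n₀⁻¹ * (n : H) ∈ T := by
          rw [show n₀⁻¹ * (n : H) = t₀ * (t : H)⁻¹ by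
            rw [eq_mul_inv_iff_mul_eq, mul_assoc, hz', inv_mul_cancel_left]]
          exact T.mul_mem ht₀ (T.inv_mem t.2)
        refine ⟨⟨⟨n₀, hn₀⟩⁻¹ * n, hmem⟩, Finset.mem_univ _, Prod.ext (mul_inv_cancel_left _ _) ?_⟩
        apply Subtype.ext
        show (n₀⁻¹ * (n : H))⁻¹ * t₀ = t
        rw [mul_inv_rev, inv_inv, mul_assoc, inv_mul_eq_iff_eq_mul, hz']
    set F := Cfsg.extendByZero T ψ'
    have h1 : ∑ z : N × T, F ((f z)⁻¹ * y * f z) = (Nat.card D : ℂ) * ∑ x : H, F (x⁻¹ * y * x) := by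
      rw [← Finset.sum_fiberwise Finset.univ f, Finset.mul_sum]
      refine Finset.sum_congr rfl fun x _ => ?_
      rw [Finset.sum_congr rfl (g := fun _ => F (x⁻¹ * y * x))
        (fun z hz => by rw [(Finset.mem_filter.1 hz).2]), Finset.sum_const, hfib, nsmul_eq_mul]
    have h2 : ∑ z : N × T, F ((f z)⁻¹ * y * f z) =
        (Nat.card T : ℂ) * ∑ n : N, Cfsg.extendByZero D η (n⁻¹ * y * n) := by
      rw [Fintype.sum_prod_type, Finset.mul_sum]
      refine Finset.sum_congr rfl fun n _ => ?_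
      rw [Nat.card_eq_fintype_card, ← Finset.card_univ, ← nsmul_eq_mul, ← Finset.sum_const]
      refine Finset.sum_congr rfl fun t _ => ?_
      have e1 := Char.extendByZero_conj T ψ' hcl (t⁻¹ : T) (((n⁻¹ * y * n : N) : H))
      simp only [InvMemClass.coe_inv, inv_inv] at e1
      rw [show (f (n, t))⁻¹ * (y : H) * f (n, t) = (t : H)⁻¹ * ((n⁻¹ * y * n : N) : H) * t by
        simp only [f, Subgroup.coe_mul, InvMemClass.coe_inv]; group]
      refine e1.trans ?_
      by_cases hm : ((n⁻¹ * y * n : N) : H) ∈ T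
      · rw [Char.extendByZero_apply_mem T ψ' hm, Char.extendByZero_apply_mem D η (x := n⁻¹ * y * n) hm]
        rfl
      · rw [Char.extendByZero_of_notMem T ψ' hm, Char.extendByZero_of_notMem D η (x := n⁻¹ * y * n) hm]
    rw [h2] at h1
    have hD : (Nat.card D : ℂ) ≠ 0 := Nat.cast_ne_zero.2 Nat.card_pos.ne'
    have hT : (Nat.card T : ℂ) ≠ 0 := Nat.cast_ne_zero.2 Nat.card_pos.ne'
    field_simp
    linear_combination h1
  have hirr : Cfsg.IsIrrCharacter D η := by
    refine isIrr_of_map_irr (Char.indLin D) (fun f hf => ?_) D.index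
      (Nat.pos_of_ne_zero Subgroup.index_ne_zero_of_finite) (fun f => ?_) hη ?_
    · rw [Char.indLin_apply]; exact Char.IsCharacter.indFun D hf
    · rw [Char.indLin_apply, Char.indFun_apply_one]
    · rw [Char.indLin_apply, hres]; exact hN
  let e : N.subgroupOf T ≃* D :=
    { toFun := fun x => ⟨⟨((x : T) : H), x.2⟩, (x : T).2⟩
      invFun := fun d => ⟨⟨((d : N) : H), d.2⟩, (d : N).2⟩
      left_inv := fun x => rfl
      right_inv := fun d => rfl
      map_mul' := fun x y => rfl }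
  exact CharTwist.isIrrCharacter_comp_equiv hirr e

omit [Fintype H] in
/-- A linear character presented on the whole group. -/
theorem of_linear [Fintype H] {ψ : H → ℂ} (hψ : Cfsg.IsIrrCharacter H ψ) (h1 : ψ 1 = 1) :
    ∃ (U : Subgroup H) (l : U →* ℂˣ), Cfsg.indFun U (fun x => (l x : ℂ)) = ψ := by
  classical
  obtain ⟨f, hf⟩ := Char.IsCharacter.exists_linear (Char.IsIrrCharacter.isCharacter hψ) h1
  refine ⟨⊤, f.comp (⊤ : Subgroup H).subtype, ?_⟩
  funext g
  rw [Char.indFun_apply, Finset.sum_congr rfl (g := fun _ => ψ g) (fun x _ => by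
    rw [Char.extendByZero_apply_mem _ _ (Subgroup.mem_top _), MonoidHom.comp_apply, ← hf]
    simpa using Char.IsIrrCharacter.isClassFunction hψ g x⁻¹), Finset.sum_const, Finset.card_univ,
    nsmul_eq_mul, Subgroup.card_top, ← Nat.card_eq_fintype_card, ← mul_assoc,
    inv_mul_cancel₀ (Nat.cast_ne_zero.mpr Nat.card_pos.ne'), one_mul]

/-- Transporting a monomial presentation along induction. -/
theorem trans_linear (T : Subgroup H) [Fintype T] (ψ' : T → ℂ) {ψ : H → ℂ}
    (hind : Cfsg.indFun T ψ' = ψ) (U : Subgroup T) (l : U →* ℂˣ)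
    (hl : Cfsg.indFun U (fun x => (l x : ℂ)) = ψ') :
    ∃ (U : Subgroup H) (l : U →* ℂˣ), Cfsg.indFun U (fun x => (l x : ℂ)) = ψ := by
  refine ⟨U.map T.subtype,
    l.comp (Subgroup.equivMapOfInjective U T.subtype T.subtype_injective).symm.toMonoidHom, ?_⟩
  rw [← hind, ← hl, ← Char.indFun_indFun (U.map T.subtype) T (Subgroup.map_subtype_le U)]
  refine congrArg _ (Monomial.indFun_congr (Subgroup.comap_map_eq_self_of_injective T.subtype_injective U)
    _ _ fun x hx hy => ?_)
  show (l _ : ℂ) = (l _ : ℂ)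
  congr 2
  rw [MulEquiv.coe_toMonoidHom, MulEquiv.symm_apply_eq]
  exact Subtype.ext rfl

/-- The monomiality theorem. -/
theorem monomial : ∀ (n : ℕ) (H : Type u) [Group H] [Fintype H] [Group.IsSolvable H],
    Nat.card H = n → ∀ (N : Subgroup H) [N.Normal], AG N → ∀ ψ : H → ℂ, Cfsg.IsIrrCharacter H ψ →
    Cfsg.IsIrrCharacter N (fun x : N => ψ x) →
    ∃ (U : Subgroup H) (l : U →* ℂˣ), Cfsg.indFun U (fun x => (l x : ℂ)) = ψ := by
  intro n
  induction n using Nat.strong_induction_on with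
  | _ n ih => ?_
  intro H _ _ _ hn N hNn hAG ψ hψ hN
  classical
  obtain ⟨d, ρ, hρ, hρψ⟩ := id hψ
  let K : Subgroup H := MonoidHom.ker ρ
  haveI : K.Normal := MonoidHom.normal_ker ρ
  let q := QuotientGroup.mk' K
  have hq : Function.Surjective q := QuotientGroup.mk'_surjective K
  let Nb : Subgroup (H ⧸ K) := N.map q
  haveI hNb : Nb.Normal := hNn.map q hq
  have hAGb : AG Nb := hAG.map q
  have hψK : ∀ x : H, q x = 1 → ψ x = ψ 1 := by
    intro x hx
    have hx' : x ∈ K := (QuotientGroup.eq_one_iff x).1 hx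
    rw [← hρψ]
    simp only [Representation.character, MonoidHom.mem_ker.1 hx', map_one]
  obtain ⟨Ab, ⟨hAbn, hAbN, hAbc⟩, hmax⟩ :=
    ({B : Subgroup (H ⧸ K) | B.Normal ∧ B ≤ Nb ∧ ∀ a ∈ B, ∀ b ∈ B, a * b = b * a}).toFinite.exists_maximal
      ⟨⊥, inferInstance, bot_le, fun a ha b hb => by
        rw [Subgroup.mem_bot.1 ha, Subgroup.mem_bot.1 hb]⟩
  let A : Subgroup H := Ab.comap q ⊓ N
  haveI : (Ab.comap q).Normal := hAbn.comap q
  haveI hAn : A.Normal := Subgroup.normal_inf_normal _ _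
  obtain ⟨lam, hlam, hlamc⟩ := CfsgLib.Clifford.exists_constituent_res A hψ
  let T := CharTwist.inertia A lam
  by_cases hT : T = ⊤
  · obtain ⟨e, he0, he⟩ := Cliff.res_eq_smul A hψ hlam
      (fun g => CharTwist.mem_inertia.1 (show g ∈ T by rw [hT]; trivial)) hlamc
    have he' : ∀ a : A, ψ a = (e : ℂ) * lam a := fun a => congrFun he a
    obtain ⟨f, hf⟩ := linear_of_commutators hlam fun a b => by
      refine mul_left_cancel₀ (Nat.cast_ne_zero.2 he0.ne') ((he' _).symm.trans ((hψK _ ?_).trans (he' 1)))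
      have h := hAbc (q (a : H)) a.2.1 (q (b : H)) b.2.1
      simp only [Subgroup.coe_mul, InvMemClass.coe_inv, map_mul, map_inv, h, mul_inv_cancel]
    have hcent : ∀ z ∈ Ab, ∀ w : H ⧸ K, w * z = z * w := by
      intro z hz w
      obtain ⟨a, ha, rfl⟩ := hAbN hz
      obtain ⟨g, rfl⟩ := hq w
      let a' : A := ⟨a, hz, ha⟩
      have hnorm : ‖ρ.character a‖ = (Module.finrank ℂ (Fin d → ℂ) : ℝ) := by
        have h1 : (Module.finrank ℂ (Fin d → ℂ) : ℂ) = (e : ℂ) := by
          rw [← ρ.char_one, hρψ, show ψ 1 = ψ ((1 : A) : H) from rfl, he', hf, map_one, Units.val_one,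
            mul_one]
        rw [show ((Module.finrank ℂ (Fin d → ℂ) : ℝ)) = (e : ℝ) by exact_mod_cast h1, hρψ,
          show ψ a = ψ (a' : H) from rfl, he', hf, norm_mul, Complex.norm_natCast]
        have h2 : ‖(f a' : ℂ)‖ = 1 := Complex.norm_eq_one_of_pow_eq_one
          (by rw [← Units.val_pow_eq_pow_val, ← map_pow, pow_orderOf_eq_one, map_one, Units.val_one])
          (orderOf_pos a').ne'
        rw [h2, mul_one]
      obtain ⟨ω, hω⟩ := Char.eq_smul_one_of_norm_character_eq ρ a hnorm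
      rw [← map_mul, ← map_mul]
      refine QuotientGroup.eq.mpr ?_
      rw [MonoidHom.mem_ker, map_mul,
        show ρ (a * g) = ρ (g * a) by rw [map_mul, map_mul, hω, smul_one_mul, mul_smul_one],
        ← map_mul, inv_mul_cancel, map_one]
    have hNA : Nb ≤ Ab := by
      by_contra hnot
      obtain ⟨B, ⟨hBn, hAB, hBN⟩, hmin⟩ :=
        ({B : Subgroup (H ⧸ K) | B.Normal ∧ Ab < B ∧ B ≤ Nb}).toFinite.exists_minimal
          ⟨Nb, hNb, lt_of_le_not_ge hAbN hnot, le_rfl⟩
      haveI := hBn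
      haveI := hAbn
      haveI : (⁅B, B⁆).Normal := Subgroup.commutator_normal B B
      have hC : ⁅B, B⁆ ⊔ Ab ≤ Ab := by
        rcases eq_or_lt_of_le (le_sup_right : Ab ≤ ⁅B, B⁆ ⊔ Ab) with h | h
        · exact h.ge
        · have hle : B ≤ ⁅B, B⁆ ⊔ Ab := hmin
            ⟨Subgroup.sup_normal _ _, h, (sup_le B.commutator_le_self hAB.le).trans hBN⟩
            (sup_le B.commutator_le_self hAB.le)
          exfalso
          have h1 := Subgroup.map_mono (f := QuotientGroup.mk' Ab) hle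
          rw [Subgroup.map_sup, Subgroup.map_commutator,
            (Subgroup.map_eq_bot_iff (f := QuotientGroup.mk' Ab) Ab).2 (by rw [QuotientGroup.ker_mk']),
            sup_bot_eq] at h1
          have h3 := RelM.eq_bot_of_le_commutator _ h1
          rw [Subgroup.map_eq_bot_iff, QuotientGroup.ker_mk'] at h3
          exact not_le_of_gt hAB h3
      have hBc := hAGb.comm_of_class_two B hBN fun a ha b hb c _ =>
        (hcent _ (hC (Subgroup.mem_sup_left (Subgroup.commutator_mem_commutator ha hb))) c).symm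
      exact not_le_of_gt hAB (hmax ⟨hBn, hBN, hBc⟩ hAB.le)
    obtain ⟨fN, hfN⟩ := linear_of_commutators hN fun a b => by
      refine hψK _ ?_
      have h := hAbc (q (a : H)) (hNA ⟨a, a.2, rfl⟩) (q (b : H)) (hNA ⟨b, b.2, rfl⟩)
      simp only [Subgroup.coe_mul, InvMemClass.coe_inv, map_mul, map_inv, h, mul_inv_cancel]
    refine of_linear hψ ?_
    rw [show ψ 1 = ψ ((1 : N) : H) from rfl, hfN 1, map_one, Units.val_one]
  · obtain ⟨ψ', hψ', hind, -⟩ := Cliff.correspondence A hψ hlam T (fun g => CharTwist.mem_inertia)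
      (CharTwist.le_inertia A (Char.IsIrrCharacter.isClassFunction hlam)) hlamc
    have hlt : Nat.card T < n := by
      rw [← hn]
      exact lt_of_le_of_ne (Subgroup.card_le_card_group T) fun h => hT (Subgroup.eq_top_of_card_eq T h)
    obtain ⟨U, l, hl⟩ := ih _ hlt T rfl (N.subgroupOf T) (hAG.subgroupOf T) ψ' hψ'
      (res_irr_of_induced N hψ hN T ψ' hψ' hind)
    exact trans_linear T ψ' hind U l hl

/-- Relative monomiality over an A-group gives monomiality. -/
theorem exists_linear {G : Type u} [Group G] [Fintype G] [Group.IsSolvable G] (N : Subgroup G)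
    [N.Normal] (hab : ∀ (p : ℕ) [Fact p.Prime] (P : Sylow p N), ∀ a ∈ P, ∀ b ∈ P, a * b = b * a)
    (S : Subgroup G) (hNS : N ≤ S) {ψ : S → ℂ} (hψ : Cfsg.IsIrrCharacter S ψ)
    (hN : Cfsg.IsIrrCharacter N (fun n : N => ψ ⟨(n : G), hNS n.2⟩)) :
    ∃ (U : Subgroup G) (l : U →* ℂˣ),
      Cfsg.indFun U (fun x => (l x : ℂ)) = Cfsg.indFun S ψ := by
  classical
  obtain ⟨U, l, hl⟩ := monomial (Nat.card S) S rfl (N.subgroupOf S) ((ag_of_sylow N hab).subgroupOf S)
    ψ hψ (CharTwist.isIrrCharacter_comp_equiv hN (Subgroup.subgroupOfEquivOfLe hNS))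
  exact trans_linear S ψ rfl U l hl

end CfsgLib.CharDeep.AMono
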