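import Cfsg.Agent.Lib.Linear.Card
import Cfsg.Agent.Lib.TwoGroupAct.FrattiniBound
import Mathlib.GroupTheory.Transfer
import Mathlib.GroupTheory.Sylow

/-!
Perfect groups of order below the cube of a prime divisor, reduced to simple groups.
-/

set_option autoImplicit false

namespace CfsgLib.CharDeep.Cubed

universe u

/-- The two families. -/
def Known (p : ℕ) (G : Type u) [Group G] : Prop :=
  (∃ (F : Type) (_ : Field F) (_ : Fintype F), Fintype.card F = p ∧ 3 < p ∧
      Nonempty (G ≃* Matrix.ProjectiveSpecialLinearGroup (Fin 2) F)) ∨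
    (∃ (m : ℕ) (F : Type) (_ : Field F) (_ : Fintype F), Fintype.card F = 2 ^ m ∧ p = 2 ^ m + 1 ∧
      3 < p ∧ Nonempty (G ≃* Matrix.ProjectiveSpecialLinearGroup (Fin 2) F))

theorem Known.of_equiv {p : ℕ} {G H : Type u} [Group G] [Group H] (h : Known p H) (e : G ≃* H) :
    Known p G := by
  rcases h with ⟨F, iF, iFt, h1, h2, ⟨f⟩⟩ | ⟨m, F, iF, iFt, h1, h2, h3, ⟨f⟩⟩
  · exact Or.inl ⟨F, iF, iFt, h1, h2, ⟨e.trans f⟩⟩
  · exact Or.inr ⟨m, F, iF, iFt, h1, h2, h3, ⟨e.trans f⟩⟩

theorem bound {p : ℕ} {G : Type u} [Group G] (hp : p.Prime) (h : Known p G) :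
    5 ≤ p ∧ p ^ 3 ≤ 3 * Nat.card G := by
  rcases h with ⟨F, _, _, h1, h2, ⟨f⟩⟩ | ⟨m, F, _, _, h1, h2, h3, ⟨f⟩⟩
  · have hdiv := CfsgLib.Linear.card_PSL_mul (n := Fin 2) (F := F)
    rw [CfsgLib.Linear.card_SL_two, Fintype.card_fin, h1] at hdiv
    have hg : Nat.gcd 2 (p - 1) ≤ 2 := Nat.gcd_le_left _ two_pos
    rw [Nat.card_congr f.toEquiv]
    have hp5 : 5 ≤ p := by
      by_contra h5
      have h4 : p = 4 := by omega
      subst h4
      norm_num at hp
    refine ⟨hp5, ?_⟩
    obtain ⟨k, rfl⟩ : ∃ k, p = k + 5 := ⟨p - 5, by omega⟩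
    have h4 : (k + 5) ^ 2 - 1 = k * k + 10 * k + 24 := by
      rw [show (k + 5) ^ 2 = k * k + 10 * k + 25 by ring]; omega
    rw [h4] at hdiv
    nlinarith [Nat.mul_le_mul_right (Nat.card (Matrix.ProjectiveSpecialLinearGroup (Fin 2) F)) hg]
  · have hdiv := CfsgLib.Linear.card_PSL_mul (n := Fin 2) (F := F)
    rw [CfsgLib.Linear.card_SL_two, Fintype.card_fin, h1] at hdiv
    have hm : 2 ≤ m := by
      by_contra hm
      interval_cases m <;> omega
    have hcop : Nat.gcd 2 (2 ^ m - 1) = 1 := by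
      refine (Nat.prime_two.coprime_iff_not_dvd).mpr fun h => ?_
      have : 2 ∣ 2 ^ m := dvd_pow_self 2 (by omega)
      have := Nat.one_le_two_pow (n := m)
      omega
    rw [hcop, one_mul] at hdiv
    rw [Nat.card_congr f.toEquiv, hdiv]
    have h4 : 4 ≤ 2 ^ m := le_trans (by norm_num) (Nat.pow_le_pow_right two_pos hm)
    refine ⟨by omega, ?_⟩
    rw [h2]
    generalize 2 ^ m = q at h4 ⊢
    obtain ⟨k, rfl⟩ : ∃ k, q = k + 4 := ⟨q - 4, by omega⟩
    have h6 : (k + 4) ^ 2 - 1 = k * k + 8 * k + 15 := by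
      rw [show (k + 4) ^ 2 = k * k + 8 * k + 16 by ring]; omega
    rw [h6]
    nlinarith

variable {G : Type u} [Group G] [Finite G]

/-- A reduction to simple groups. -/
theorem reduce {p : ℕ} [Fact p.Prime] (hperf : commutator G = ⊤) (hdvd : p ∣ Nat.card G)
    (hbig : Nat.card G < p ^ 3) (P : Sylow p G) (hP : ¬ (P : Subgroup G).Normal)
    (h2 : ∀ N : Subgroup G, N.Normal → Nat.card N ≠ 2)
    (hsimple : ∀ (S : Type u) [Group S] [Finite S] [IsSimpleGroup S], ¬ IsCyclic S →
      p ∣ Nat.card S → Nat.card S < p ^ 3 → Known p S) : Known p G := by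
  classical
  have hp : p.Prime := Fact.out
  -- the Sylow subgroup has order `p`
  obtain ⟨k, hk⟩ := IsPGroup.iff_card.mp P.isPGroup'
  have hk1 : k = 1 := by
    have hk0 : k ≠ 0 := by
      rintro rfl
      have := P.not_dvd_index
      rw [← (P : Subgroup G).card_mul_index, hk, pow_zero, one_mul] at hdvd
      exact this hdvd
    by_contra hk1
    have hn1 : Nat.card (Sylow p G) ≠ 1 := fun e => by
      have := (Nat.card_eq_one_iff_unique.mp e).1
      exact hP P.normal_of_subsingleton
    have hn2 : p + 1 ≤ Nat.card (Sylow p G) := by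
      have hmod := card_sylow_modEq_one p G
      have hpos : 0 < Nat.card (Sylow p G) := Nat.card_pos
      have hd := (Nat.modEq_iff_dvd' hpos).mp hmod.symm
      have := Nat.le_of_dvd (by omega) hd
      omega
    have hle : p ^ k * Nat.card (Sylow p G) ≤ Nat.card G := by
      rw [← hk, ← (P : Subgroup G).card_mul_index]
      exact Nat.mul_le_mul_left _ (Nat.le_of_dvd (Nat.pos_of_ne_zero Subgroup.index_ne_zero_of_finite)
        (P.card_dvd_index))
    have hpk : p ^ 2 ≤ p ^ k := Nat.pow_le_pow_right hp.pos (by omega)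
    nlinarith [Nat.mul_le_mul hpk hn2]
  rw [hk1, pow_one] at hk
  have hp2 : ¬ p * p ∣ Nat.card G := fun h => by
    rw [← (P : Subgroup G).card_mul_index, hk] at h
    exact P.not_dvd_index ((Nat.mul_dvd_mul_iff_left hp.pos).mp h)
  set M := Subgroup.normalClosure ((P : Subgroup G) : Set G) with hMdef
  have hPM : (P : Subgroup G) ≤ M := Subgroup.le_normalClosure
  -- a maximal normal subgroup of `M`
  have hfin : {R : Subgroup M | R.Normal ∧ R ≠ ⊤}.Finite := Set.toFinite _
  have hMne : Nontrivial M := by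
    refine (Subgroup.nontrivial_iff_ne_bot M).mpr fun e => ?_
    have h1 := Subgroup.card_le_of_le hPM
    rw [hk, e, Subgroup.card_bot] at h1
    exact absurd h1 (not_le.mpr hp.one_lt)
  obtain ⟨R, hRmax⟩ := hfin.exists_maximal ⟨⊥, inferInstance, bot_ne_top⟩
  obtain ⟨hRn, hRtop⟩ := hRmax.prop
  have : IsSimpleGroup (M ⧸ R) := by
    have : Nontrivial (M ⧸ R) := QuotientGroup.nontrivial_iff.mpr hRtop
    refine ⟨fun K hK => ?_⟩
    have hcs : Function.Surjective (QuotientGroup.mk' R) := QuotientGroup.mk'_surjective R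
    by_cases hKt : K.comap (QuotientGroup.mk' R) = ⊤
    · right
      rw [← Subgroup.map_comap_eq_self_of_surjective hcs K, hKt, Subgroup.map_top_of_surjective _ hcs]
    · left
      have hle : R ≤ K.comap (QuotientGroup.mk' R) := by
        conv_lhs => rw [← QuotientGroup.ker_mk' R]
        exact Subgroup.ker_le_comap _ _
      have he : K.comap (QuotientGroup.mk' R) ≤ R := hRmax.le_of_ge ⟨inferInstance, hKt⟩ hle
      rw [← Subgroup.map_comap_eq_self_of_surjective hcs K, le_antisymm he hle,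
        QuotientGroup.map_mk'_self]
  have hMcard : Nat.card R * Nat.card (M ⧸ R) = Nat.card M := by
    rw [← Subgroup.index_eq_card]; exact R.card_mul_index
  have hMdvd : Nat.card M ∣ Nat.card G := Subgroup.card_subgroup_dvd_card M
  -- elements of order dividing `p` outside `R`
  have hpR : p ∣ Nat.card (M ⧸ R) := by
    by_contra hnd
    refine hRtop ?_
    have hall : ∀ z : G, ∀ hz : z ∈ M, z ^ p = 1 → (⟨z, hz⟩ : M) ∈ R := by
      intro z hz hzp
      rw [← QuotientGroup.eq_one_iff, ← orderOf_eq_one_iff]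
      refine Nat.eq_one_of_dvd_coprimes ((hp.coprime_iff_not_dvd.mpr hnd))
        (orderOf_dvd_of_pow_eq_one ?_) (orderOf_dvd_natCard _)
      rw [← QuotientGroup.mk_pow, show (⟨z, hz⟩ : M) ^ p = 1 from Subtype.ext hzp,
        QuotientGroup.mk_one]
    rw [eq_top_iff]
    intro z _
    have hle : M ≤ R.map M.subtype := by
      show Subgroup.closure (Group.conjugatesOfSet ((P : Subgroup G) : Set G)) ≤ _
      rw [Subgroup.closure_le]
      intro w hw
      have hwM : w ∈ M := Subgroup.conjugatesOfSet_subset_normalClosure hw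
      obtain ⟨y, hy, hc⟩ := Group.mem_conjugatesOfSet_iff.mp hw
      refine ⟨⟨w, hwM⟩, hall w hwM ?_, rfl⟩
      obtain ⟨u, rfl⟩ := isConj_iff.mp hc
      rw [conj_pow, orderOf_dvd_iff_pow_eq_one.mp (hk ▸ Subgroup.orderOf_dvd_natCard _ hy), mul_one,
        mul_inv_cancel]
    obtain ⟨v, hv, e⟩ := hle z.2
    rwa [Subtype.ext e.symm]
  have hRp : ¬ p ∣ Nat.card R := fun h =>
    hp2 ((Nat.mul_dvd_mul h hpR).trans (hMcard ▸ hMdvd))
  -- the quotient is not cyclic
  have hnc : ¬ IsCyclic (M ⧸ R) := by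
    intro hcyc
    have hq : Nat.card (M ⧸ R) = p := by
      let _ : CommGroup (M ⧸ R) := IsCyclic.commGroup
      exact ((Nat.prime_dvd_prime_iff_eq hp IsSimpleGroup.prime_card).mp hpR).symm
    have hchar : ∀ x : M, x ∈ R ↔ x ^ Nat.card R = 1 := by
      intro x
      refine ⟨fun hx => orderOf_dvd_iff_pow_eq_one.mp (Subgroup.orderOf_dvd_natCard R hx), fun hx => ?_⟩
      rw [← QuotientGroup.eq_one_iff, ← orderOf_eq_one_iff]
      refine Nat.eq_one_of_dvd_coprimes ((hp.coprime_iff_not_dvd.mpr hRp)) (hq ▸ orderOf_dvd_natCard _)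
        (orderOf_dvd_of_pow_eq_one ?_)
      rw [← QuotientGroup.mk_pow, hx, QuotientGroup.mk_one]
    set R' := R.map M.subtype with hR'
    have hR'n : R'.Normal := by
      refine ⟨?_⟩
      rintro _ ⟨x, hx, rfl⟩ g
      refine ⟨⟨g * x * g⁻¹, Subgroup.normalClosure_normal.conj_mem _ x.2 g⟩, (hchar _).mpr ?_, rfl⟩
      refine Subtype.ext ?_
      show (g * (x : G) * g⁻¹) ^ Nat.card R = 1
      rw [conj_pow, show (x : G) ^ Nat.card R = 1 from congrArg Subtype.val ((hchar x).mp hx), mul_one,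
        mul_inv_cancel]
    set Mb := M.map (QuotientGroup.mk' R') with hMb
    have : Mb.Normal := Subgroup.Normal.map inferInstance _ (QuotientGroup.mk'_surjective R')
    have hMbc : Nat.card Mb = p := by
      have e1 : R'.subgroupOf M = R := Subgroup.comap_map_eq_self_of_injective M.subtype_injective R
      have h5 := Subgroup.relIndex_ker (K := M) (QuotientGroup.mk' R')
      rw [QuotientGroup.ker_mk'] at h5
      rw [← h5, Subgroup.relIndex, e1, Subgroup.index_eq_card, hq]
    have : IsCyclic Mb := isCyclic_of_prime_card hMbc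
    let φ : G →* MulAut Mb := MulAut.conjNormal.comp (QuotientGroup.mk' R')
    have hker : φ.ker = ⊤ := by
      rw [eq_top_iff, ← hperf, commutator_def, Subgroup.commutator_le]
      intro a _ b _
      rw [MonoidHom.mem_ker, map_commutatorElement, commutatorElement_eq_one_iff_mul_comm]
      exact CfsgLib.TwoGroupAct.mulAut_comm_of_cyclic _ _
    have hfix : ∀ g : G, ∀ x ∈ M, g * x * g⁻¹ * x⁻¹ ∈ R' := by
      intro g x hx
      have h1 : φ g = 1 := MonoidHom.mem_ker.mp (hker ▸ Subgroup.mem_top g)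
      have h2 := congrArg (fun f : MulAut Mb => ((f ⟨(x : G ⧸ R'), x, hx, rfl⟩ : Mb) : G ⧸ R')) h1
      simp only [φ, MonoidHom.comp_apply, MulAut.conjNormal_apply, MulAut.one_apply,
        QuotientGroup.mk'_apply] at h2
      rw [← QuotientGroup.eq_one_iff, QuotientGroup.mk_mul, QuotientGroup.mk_mul, QuotientGroup.mk_mul,
        QuotientGroup.mk_inv, QuotientGroup.mk_inv, h2, mul_inv_cancel]
    have hle : Subgroup.normalizer ((P : Subgroup G) : Set G) ≤
        Subgroup.centralizer ((P : Subgroup G) : Set G) := by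
      intro g hg x hx
      have hc1 : g * x * g⁻¹ * x⁻¹ ∈ (P : Subgroup G) :=
        mul_mem ((Subgroup.mem_normalizer_iff.mp hg x).mp hx) (inv_mem hx)
      obtain ⟨v, hv, hv'⟩ := hfix g x (hPM hx)
      have h1 : orderOf (g * x * g⁻¹ * x⁻¹) = 1 := by
        refine Nat.eq_one_of_dvd_coprimes ((hp.coprime_iff_not_dvd.mpr hRp))
          (hk ▸ Subgroup.orderOf_dvd_natCard _ hc1) ?_
        rw [← hv']
        exact (Subgroup.orderOf_coe v).symm ▸ Subgroup.orderOf_dvd_natCard R hv
      rw [orderOf_eq_one_iff, mul_inv_eq_one, mul_inv_eq_iff_eq_mul] at h1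
      exact h1.symm
    have hcomp := MonoidHom.ker_transferSylow_isComplement' P hle
    set K := (MonoidHom.transferSylow P hle).ker
    have hKi : K.index = p := by rw [← hk]; exact hcomp.symm.index_eq_card
    have : IsCyclic (G ⧸ K) := isCyclic_of_prime_card (Subgroup.index_eq_card K ▸ hKi)
    have hKtop : K = ⊤ := by
      rw [eq_top_iff, ← hperf, commutator_def, Subgroup.commutator_le]
      intro a _ b _
      rw [← QuotientGroup.eq_one_iff, ← QuotientGroup.mk'_apply, map_commutatorElement,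
        commutatorElement_eq_one_iff_mul_comm]
      let _ : CommGroup (G ⧸ K) := IsCyclic.commGroup
      exact mul_comm _ _
    rw [hKtop, Subgroup.index_top] at hKi
    exact hp.one_lt.ne hKi
  have hMle : Nat.card M ≤ Nat.card G := Nat.le_of_dvd Nat.card_pos hMdvd
  have hqle : Nat.card (M ⧸ R) ≤ Nat.card M := by
    rw [← hMcard]; exact Nat.le_mul_of_pos_left _ Nat.card_pos
  have hK := hsimple (M ⧸ R) hnc hpR (lt_of_le_of_lt (hqle.trans hMle) hbig)
  obtain ⟨hp5, hb⟩ := bound hp hK
  have hsmall : M.index * Nat.card R ≤ 2 := by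
    have h1 : M.index * Nat.card R * Nat.card (M ⧸ R) = Nat.card G := by
      rw [mul_assoc, hMcard, M.index_mul_card]
    have h2 : M.index * Nat.card R * p ^ 3 < 3 * p ^ 3 :=
      calc M.index * Nat.card R * p ^ 3 ≤ M.index * Nat.card R * (3 * Nat.card (M ⧸ R)) :=
            Nat.mul_le_mul_left _ hb
        _ = 3 * Nat.card G := by rw [← h1]; ring
        _ < 3 * p ^ 3 := by omega
    have := Nat.lt_of_mul_lt_mul_right h2
    omega
  have hRpos : 0 < Nat.card R := Nat.card_pos
  have hMi : M.index ≤ 2 := le_trans (Nat.le_mul_of_pos_right _ hRpos) hsmall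
  have hMtop : M = ⊤ := by
    rcases Nat.lt_or_ge M.index 2 with h | h
    · exact Subgroup.index_eq_one.mp
        (le_antisymm (Nat.lt_succ_iff.mp h) (Nat.pos_of_ne_zero Subgroup.index_ne_zero_of_finite))
    · rw [eq_top_iff, ← hperf, commutator_def, Subgroup.commutator_le]
      intro a _ b _
      have : IsCyclic (G ⧸ M) := isCyclic_of_prime_card (p := 2)
        (by rw [← Subgroup.index_eq_card]; omega)
      rw [← QuotientGroup.eq_one_iff, ← QuotientGroup.mk'_apply, map_commutatorElement,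
        commutatorElement_eq_one_iff_mul_comm]
      let _ : CommGroup (G ⧸ M) := IsCyclic.commGroup
      exact mul_comm _ _
  let e : M ≃* G := (MulEquiv.subgroupCongr hMtop).trans Subgroup.topEquiv
  have hRbot : R = ⊥ := by
    rw [← Subgroup.card_eq_one]
    have hR2 : Nat.card R ≤ 2 :=
      le_trans (Nat.le_mul_of_pos_left _ (Nat.pos_of_ne_zero Subgroup.index_ne_zero_of_finite)) hsmall
    by_contra hR1
    refine h2 (R.map e.toMonoidHom) (Subgroup.Normal.map inferInstance _ e.surjective) ?_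
    rw [← Nat.card_congr (R.equivMapOfInjective _ e.injective).toEquiv]
    omega
  exact (hK.of_equiv ((QuotientGroup.quotientMulEquivOfEq hRbot).trans QuotientGroup.quotientBot).symm).of_equiv e.symm

end CfsgLib.CharDeep.Cubed
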