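import Mathlib

/-! A generalized quaternion Sylow 2-subgroup of order at least 16: local structure. -/

namespace CfsgLib.CharDeep.Quat

open QuaternionGroup
open scoped commutatorElement

variable {G : Type*} [Group G] (S : Sylow 2 G) (n : ℕ)
  (e : (S : Subgroup G) ≃* QuaternionGroup (2 ^ (n + 2)))

/-- Half the order of the cyclic maximal subgroup. -/
abbrev half : ℕ := 2 ^ (n + 2)

/-- The embedding of the model group. -/
def emb : QuaternionGroup (2 ^ (n + 2)) →* G :=
  (S : Subgroup G).subtype.comp e.symm.toMonoidHom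

theorem emb_injective : Function.Injective (emb S n e) := fun _ _ h =>
  e.symm.injective (Subtype.ext h)

theorem emb_apply_e (s : (S : Subgroup G)) : emb S n e (e s) = s := by
  simp [emb]

/-- The generator of the cyclic maximal subgroup. -/
def xg : G := emb S n e (a 1)

/-- An element outside the cyclic maximal subgroup. -/
def tg : G := emb S n e (xa 0)

/-- The cyclic maximal subgroup. -/
def cyc : Subgroup G := Subgroup.zpowers (xg S n e)

/-- The derived subgroup of `S`. -/
def der : Subgroup G := Subgroup.zpowers (xg S n e ^ 2)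

/-- Its centralizer. -/
def cent : Subgroup G := Subgroup.centralizer (der S n e : Set G)

/-- Its normalizer. -/
def nor : Subgroup G := Subgroup.normalizer (der S n e : Set G)

theorem xg_mem : xg S n e ∈ (S : Subgroup G) := (e.symm (a 1)).2

theorem tg_mem : tg S n e ∈ (S : Subgroup G) := (e.symm (xa 0)).2

theorem half_ge : 4 ≤ half n := by
  calc 4 = 2 ^ 2 := by norm_num
    _ ≤ _ := Nat.pow_le_pow_right (by norm_num) (by omega)

theorem orderOf_xg : orderOf (xg S n e) = 2 * half n := by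
  rw [xg, orderOf_injective (emb S n e) (emb_injective S n e), orderOf_a_one]

theorem tg_conj_xg : tg S n e * xg S n e * (tg S n e)⁻¹ = (xg S n e)⁻¹ := by
  have h : (xa 0 : QuaternionGroup (2 ^ (n + 2))) * a 1 * (xa 0)⁻¹ = (a 1)⁻¹ := by
    rw [mul_inv_eq_iff_eq_mul, eq_inv_mul_iff_mul_eq]
    simp
  have := congrArg (emb S n e) h
  rwa [map_mul, map_mul, map_inv, map_inv] at this

theorem tg_sq : tg S n e ^ 2 = xg S n e ^ half n := by
  have h : (xa 0 : QuaternionGroup (2 ^ (n + 2))) ^ 2 = a 1 ^ half n := by simp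
  have := congrArg (emb S n e) h
  rwa [map_pow, map_pow] at this

theorem cyc_le : cyc S n e ≤ (S : Subgroup G) := Subgroup.zpowers_le.2 (xg_mem S n e)

theorem der_le_cyc : der S n e ≤ cyc S n e :=
  Subgroup.zpowers_le.2 ((cyc S n e).pow_mem (Subgroup.mem_zpowers _) 2)

theorem mem_cases {s : G} (hs : s ∈ (S : Subgroup G)) :
    s ∈ cyc S n e ∨ ∃ c ∈ cyc S n e, s = c * tg S n e := by
  have hb : ∀ i : ZMod (2 * 2 ^ (n + 2)), emb S n e (a i) ∈ cyc S n e := by
    intro i
    refine ⟨(i.val : ℤ), ?_⟩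
    rw [show (a i : QuaternionGroup (2 ^ (n + 2))) = a 1 ^ i.val by
      rw [a_one_pow, ZMod.natCast_zmod_val], map_pow]
    exact zpow_natCast _ _
  rcases h : e ⟨s, hs⟩ with i | i
  · left
    have := hb i
    rwa [← h, emb_apply_e] at this
  · right
    refine ⟨_, hb (-i), ?_⟩
    have h2 : e ⟨s, hs⟩ = a (-i) * xa 0 := by rw [h]; simp
    have h3 := congrArg (emb S n e) h2
    rwa [emb_apply_e, map_mul] at h3

theorem tg_conj_mem {c : G} (hc : c ∈ cyc S n e) : tg S n e * c * (tg S n e)⁻¹ = c⁻¹ := by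
  obtain ⟨i, rfl⟩ := Subgroup.mem_zpowers_iff.1 hc
  rw [← inv_zpow, ← tg_conj_xg, conj_zpow]

theorem cyc_comm {c d : G} (hc : c ∈ cyc S n e) (hd : d ∈ cyc S n e) : c * d = d * c := by
  obtain ⟨i, rfl⟩ := Subgroup.mem_zpowers_iff.1 hc
  obtain ⟨j, rfl⟩ := Subgroup.mem_zpowers_iff.1 hd
  exact ((Commute.refl _).zpow_zpow i j).eq

theorem orderOf_xg_sq : orderOf (xg S n e ^ 2) = half n := by
  rw [orderOf_pow' _ two_ne_zero, orderOf_xg]
  simp

theorem card_der : Nat.card (der S n e) = half n := by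
  rw [der, Nat.card_zpowers, orderOf_xg_sq]

theorem card_cyc : Nat.card (cyc S n e) = 2 * half n := by
  rw [cyc, Nat.card_zpowers, orderOf_xg]

include e in
theorem card_sylow : Nat.card (S : Subgroup G) = 4 * half n := by
  rw [Nat.card_congr e.toEquiv, Nat.card_eq_fintype_card, QuaternionGroup.card]

/-- Elements inverting the generator of `der` do not centralize it. -/
theorem sq_inv_ne : (xg S n e ^ 2)⁻¹ ≠ xg S n e ^ 2 := by
  intro h
  have h4 : xg S n e ^ 4 = 1 := by
    rw [show (4 : ℕ) = 2 + 2 from rfl, pow_add]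
    nth_rw 1 [← h]
    exact inv_mul_cancel _
  have := Nat.le_of_dvd (by norm_num) (orderOf_dvd_of_pow_eq_one h4)
  rw [orderOf_xg] at this
  have := half_ge n
  omega

theorem mul_tg_conj_sq {c : G} (hc : c ∈ cyc S n e) :
    c * tg S n e * xg S n e ^ 2 * (c * tg S n e)⁻¹ = (xg S n e ^ 2)⁻¹ := by
  have hd : xg S n e ^ 2 ∈ cyc S n e := (cyc S n e).pow_mem (Subgroup.mem_zpowers _) 2
  calc c * tg S n e * xg S n e ^ 2 * (c * tg S n e)⁻¹
      = c * (tg S n e * xg S n e ^ 2 * (tg S n e)⁻¹) * c⁻¹ := by group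
    _ = c * (xg S n e ^ 2)⁻¹ * c⁻¹ := by rw [tg_conj_mem S n e hd]
    _ = _ := by rw [cyc_comm S n e hc ((cyc S n e).inv_mem hd), mul_inv_cancel_right]

theorem commute_sq_of_mem_cent {g : G} (hg : g ∈ cent S n e) :
    g * xg S n e ^ 2 = xg S n e ^ 2 * g :=
  (Subgroup.mem_centralizer_iff.1 hg _ (Subgroup.mem_zpowers _)).symm

/-- `S ∩ C(D)` is the cyclic maximal subgroup. -/
theorem inf_cent : (S : Subgroup G) ⊓ cent S n e = cyc S n e := by
  refine le_antisymm ?_ ?_
  · rintro s ⟨hs, hc⟩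
    rcases mem_cases S n e hs with h | ⟨c, hc', rfl⟩
    · exact h
    · exfalso
      apply sq_inv_ne S n e
      rw [← mul_tg_conj_sq S n e hc', commute_sq_of_mem_cent S n e hc, mul_inv_cancel_right]
  · refine le_inf (cyc_le S n e) fun c hc => Subgroup.mem_centralizer_iff.2 fun d hd => ?_
    exact cyc_comm S n e (der_le_cyc S n e hd) hc

theorem cyc_le_cent : cyc S n e ≤ cent S n e := (inf_cent S n e) ▸ inf_le_right

theorem cent_le_nor : cent S n e ≤ nor S n e := by
  intro g hg
  rw [nor, Subgroup.mem_normalizer_iff]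
  intro d
  constructor
  · intro hd
    rw [← Subgroup.mem_centralizer_iff.1 hg d hd, mul_inv_cancel_right]
    exact hd
  · intro hd
    have h := Subgroup.mem_centralizer_iff.1 hg _ hd
    have h2 : g * d * g⁻¹ = d := by
      have := congrArg (fun u => g⁻¹ * u) h
      simp only [mul_assoc, inv_mul_cancel_left, inv_mul_cancel, mul_one] at this
      simpa [mul_assoc] using this.symm
    rwa [h2] at hd

theorem le_nor : (S : Subgroup G) ≤ nor S n e := by
  have key : ∀ s ∈ (S : Subgroup G), ∀ d ∈ der S n e, s * d * s⁻¹ ∈ der S n e := by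
    intro s hs d hd
    rcases mem_cases S n e hs with h | ⟨c, hc, rfl⟩
    · rw [cyc_comm S n e h (der_le_cyc S n e hd), mul_inv_cancel_right]
      exact hd
    · obtain ⟨i, rfl⟩ := Subgroup.mem_zpowers_iff.1 hd
      rw [← conj_zpow, mul_tg_conj_sq S n e hc]
      exact (der S n e).zpow_mem ((der S n e).inv_mem (Subgroup.mem_zpowers _)) i
  intro s hs
  rw [nor, Subgroup.mem_normalizer_iff]
  refine fun d => ⟨key s hs d, fun hd => ?_⟩
  have := key s⁻¹ ((S : Subgroup G).inv_mem hs) _ hd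
  simpa [mul_assoc] using this

theorem commutator_eq_der : ⁅(S : Subgroup G), (S : Subgroup G)⁆ = der S n e := by
  refine le_antisymm ?_ ?_
  · -- all commutators are even powers of the generator
    have hsq : ∀ c ∈ cyc S n e, c * c ∈ der S n e := by
      intro c hc
      obtain ⟨i, rfl⟩ := Subgroup.mem_zpowers_iff.1 hc
      refine ⟨i, ?_⟩
      show (xg S n e ^ 2) ^ i = _
      rw [← zpow_add, ← zpow_natCast, ← zpow_mul, Nat.cast_two, two_mul]
    have hinv : ∀ c ∈ cyc S n e, tg S n e * c = c⁻¹ * tg S n e := fun c hc =>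
      mul_inv_eq_iff_eq_mul.1 (tg_conj_mem S n e hc)
    rw [Subgroup.commutator_le]
    intro g hg h hh
    rw [commutatorElement_def]
    rcases mem_cases S n e hg with hg' | ⟨c, hc, rfl⟩ <;>
      rcases mem_cases S n e hh with hh' | ⟨d, hd, rfl⟩
    · rw [cyc_comm S n e hg' hh', mul_inv_cancel_right, mul_inv_cancel]
      exact (der S n e).one_mem
    · have : g * (d * tg S n e) * g⁻¹ * (d * tg S n e)⁻¹ = g * g := by
        have h1 := hinv g⁻¹ ((cyc S n e).inv_mem hg')
        rw [inv_inv] at h1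
        calc g * (d * tg S n e) * g⁻¹ * (d * tg S n e)⁻¹
            = g * d * (tg S n e * g⁻¹) * (tg S n e)⁻¹ * d⁻¹ := by group
          _ = g * d * g * d⁻¹ := by rw [h1]; group
          _ = g * g := by rw [mul_assoc g d g, cyc_comm S n e hd hg']; group
      rw [this]
      exact hsq g hg'
    · have : c * tg S n e * h * (c * tg S n e)⁻¹ * h⁻¹ = h⁻¹ * h⁻¹ := by
        calc c * tg S n e * h * (c * tg S n e)⁻¹ * h⁻¹
            = c * (tg S n e * h) * (tg S n e)⁻¹ * c⁻¹ * h⁻¹ := by group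
          _ = c * h⁻¹ * c⁻¹ * h⁻¹ := by rw [hinv h hh']; group
          _ = h⁻¹ * h⁻¹ := by rw [cyc_comm S n e hc ((cyc S n e).inv_mem hh')]; group
      rw [this]
      exact hsq _ ((cyc S n e).inv_mem hh')
    · have h1 := hinv d hd
      have h2 := hinv c⁻¹ ((cyc S n e).inv_mem hc)
      rw [inv_inv] at h2
      have : c * tg S n e * (d * tg S n e) * (c * tg S n e)⁻¹ * (d * tg S n e)⁻¹ =
          (c * d⁻¹) * (c * d⁻¹) := by
        calc c * tg S n e * (d * tg S n e) * (c * tg S n e)⁻¹ * (d * tg S n e)⁻¹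
            = c * (tg S n e * d) * (tg S n e * (tg S n e)⁻¹) * c⁻¹ * (tg S n e)⁻¹ * d⁻¹ := by group
          _ = c * d⁻¹ * (tg S n e * c⁻¹) * (tg S n e)⁻¹ * d⁻¹ := by rw [h1]; group
          _ = c * d⁻¹ * c * d⁻¹ := by rw [h2]; group
          _ = _ := by group
      rw [this]
      exact hsq _ ((cyc S n e).mul_mem hc ((cyc S n e).inv_mem hd))
  · rw [der, Subgroup.zpowers_le]
    have h : ⁅tg S n e, xg S n e⁆ = (xg S n e ^ 2)⁻¹ := by
      rw [commutatorElement_def, tg_conj_xg, sq, mul_inv_rev]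
    have := Subgroup.commutator_mem_commutator (tg_mem S n e) (xg_mem S n e)
    rw [h] at this
    exact (Subgroup.inv_mem_iff _).1 this

include e in
/-- An element of `S` centralizing `S` squares to one. -/
theorem sq_eq_one_of_central {z : G} (hz : z ∈ (S : Subgroup G))
    (hc : ∀ s ∈ (S : Subgroup G), z * s = s * z) : z * z = 1 := by
  have hzc : z ∈ cent S n e := Subgroup.mem_centralizer_iff.2 fun d hd =>
    (hc d (cyc_le S n e (der_le_cyc S n e hd))).symm
  have hz' : z ∈ cyc S n e := inf_cent S n e ▸ Subgroup.mem_inf.2 ⟨hz, hzc⟩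
  have h := tg_conj_mem S n e hz'
  rw [← hc _ (tg_mem S n e), mul_inv_cancel_right] at h
  nth_rw 2 [h]
  exact mul_inv_cancel z

/-- The involution of `S`. -/
def invo : G := xg S n e ^ half n

theorem orderOf_invo : orderOf (invo S n e) = 2 := by
  have := half_ge n
  rw [invo, orderOf_pow' _ (by omega), orderOf_xg, Nat.gcd_mul_left_left, Nat.mul_div_cancel _ (by omega)]

theorem invo_mem : invo S n e ∈ (S : Subgroup G) := (S : Subgroup G).pow_mem (xg_mem S n e) _

theorem eq_invo_of_orderOf_two {s : G} (hs : s ∈ (S : Subgroup G)) (h2 : orderOf s = 2) :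
    s = invo S n e := by
  have hs2 : s * s = 1 := by rw [← sq, ← h2, pow_orderOf_eq_one]
  rcases mem_cases S n e hs with h | ⟨c, hc, rfl⟩
  · obtain ⟨i, rfl⟩ := Subgroup.mem_zpowers_iff.1 h
    rw [← zpow_add, ← two_mul, ← orderOf_dvd_iff_zpow_eq_one, orderOf_xg] at hs2
    push_cast at hs2
    obtain ⟨q, hq⟩ := (mul_dvd_mul_iff_left (two_ne_zero (α := ℤ))).1 hs2
    have hz2 : invo S n e ^ 2 = 1 := by rw [← orderOf_invo S n e, pow_orderOf_eq_one]
    rcases Int.even_or_odd' q with ⟨r, rfl | rfl⟩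
    · exfalso
      have : xg S n e ^ i = 1 := by
        rw [← orderOf_dvd_iff_zpow_eq_one, orderOf_xg]
        exact ⟨r, by rw [hq]; push_cast; ring⟩
      rw [this, orderOf_one] at h2
      exact absurd h2 (by norm_num)
    · rw [hq, invo, show (2 ^ (n + 2) : ℤ) * (2 * r + 1) = (2 * half n : ℕ) * r + (half n : ℕ) by
        push_cast; ring, zpow_add, zpow_mul, zpow_natCast, ← orderOf_xg S n e, pow_orderOf_eq_one,
        one_zpow, one_mul, zpow_natCast]
  · exfalso
    have h3 : c * tg S n e * (c * tg S n e) = tg S n e ^ 2 := by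
      calc c * tg S n e * (c * tg S n e)
          = c * (tg S n e * c * (tg S n e)⁻¹) * (tg S n e * tg S n e) := by group
        _ = _ := by rw [tg_conj_mem S n e hc, mul_inv_cancel, one_mul, sq]
    rw [h3, tg_sq] at hs2
    have h0 := orderOf_invo S n e
    rw [show invo S n e = 1 from hs2, orderOf_one] at h0
    exact absurd h0 (by norm_num)

variable [Finite G]

/-- `C(D)` has no bigger 2-subgroup above the cyclic maximal subgroup. -/
theorem two_subgroup_cent {Q : Subgroup G} (hQ : IsPGroup 2 Q) (hAQ : cyc S n e ≤ Q)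
    (hQC : Q ≤ cent S n e) : Q = cyc S n e := by
  haveI : Fact (Nat.Prime 2) := ⟨Nat.prime_two⟩
  obtain ⟨T, hT⟩ := hQ.exists_le_sylow
  obtain ⟨i, hi⟩ := IsPGroup.iff_card.1 hQ
  have hdvd : Nat.card Q ∣ Nat.card (S : Subgroup G) := by
    rw [S.card_eq_multiplicity, ← T.card_eq_multiplicity]
    exact Subgroup.card_dvd_of_le hT
  have hle := Subgroup.card_le_of_le (H := cyc S n e) hAQ
  by_cases hfull : Nat.card Q = Nat.card (S : Subgroup G)
  · exfalso
    have hQT : Q = (T : Subgroup G) := Subgroup.eq_of_le_of_card_ge hT (by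
      rw [T.card_eq_multiplicity, hfull, S.card_eq_multiplicity])
    obtain ⟨g, hg⟩ := MulAction.exists_smul_eq G T S
    let d := g * xg S n e ^ 2 * g⁻¹
    have hmem : ∀ s : G, s ∈ (S : Subgroup G) ↔ g⁻¹ * s * g ∈ (T : Subgroup G) := by
      intro s
      rw [← hg, Sylow.coe_subgroup_smul, Subgroup.mem_pointwise_smul_iff_inv_smul_mem]
      simp [MulAut.smul_def]
    have hd : d ∈ (S : Subgroup G) := by
      rw [hmem, show g⁻¹ * d * g = xg S n e ^ 2 by simp [d, mul_assoc], ← hQT]
      exact hAQ ((cyc S n e).pow_mem (Subgroup.mem_zpowers _) 2)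
    have hcen : ∀ s ∈ (S : Subgroup G), d * s = s * d := by
      intro s hs
      rw [hmem, ← hQT] at hs
      have h1 := commute_sq_of_mem_cent S n e (hQC hs)
      calc d * s = g * (xg S n e ^ 2 * (g⁻¹ * s * g)) * g⁻¹ := by simp [d, mul_assoc]
        _ = g * ((g⁻¹ * s * g) * xg S n e ^ 2) * g⁻¹ := by rw [h1]
        _ = s * d := by simp [d, mul_assoc]
    have h2 := sq_eq_one_of_central S n e hd hcen
    apply sq_inv_ne S n e
    apply inv_eq_of_mul_eq_one_right
    have : g * (xg S n e ^ 2 * xg S n e ^ 2) * g⁻¹ = 1 := by rw [← h2]; simp [d, mul_assoc]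
    simpa [mul_inv_eq_one] using this
  · refine (Subgroup.eq_of_le_of_card_ge hAQ ?_).symm
    rw [card_cyc]
    rw [card_sylow S n e] at hdvd hfull
    rw [card_cyc] at hle
    obtain ⟨j, hj⟩ := hdvd
    have := half_ge n
    rcases Nat.lt_or_ge j 2 with hj2 | hj2
    · interval_cases j
      · omega
      · omega
    · nlinarith

/-- The odd-order elements of `C(D)` form a subgroup, complementing the cyclic maximal
subgroup. -/
theorem exists_kernel : ∃ K : Subgroup G,
    (∀ g, g ∈ K ↔ g ∈ cent S n e ∧ Odd (orderOf g)) ∧ Odd (Nat.card K) ∧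
      ∀ c ∈ cent S n e, ∃ k ∈ K, ∃ u ∈ cyc S n e, c = k * u := by
  haveI : Fact (Nat.Prime 2) := ⟨Nat.prime_two⟩
  set C := cent S n e
  have hA : IsPGroup 2 ((cyc S n e).subgroupOf C) :=
    (S.isPGroup'.to_le (cyc_le S n e)).comap_subtype
  obtain ⟨P, hP⟩ := hA.exists_le_sylow
  have hPA : (P : Subgroup C).map C.subtype = cyc S n e := by
    refine two_subgroup_cent S n e (P.isPGroup'.map _) ?_ (Subgroup.map_subtype_le _)
    intro x hx
    exact ⟨⟨x, cyc_le_cent S n e hx⟩, hP hx, rfl⟩
  have hcyc : IsCyclic (P : Subgroup C) := by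
    refine (MulEquiv.isCyclic ((Subgroup.equivMapOfInjective _ C.subtype C.subtype_injective).trans
      (MulEquiv.subgroupCongr hPA))).2 ?_
    exact ⟨⟨⟨xg S n e, Subgroup.mem_zpowers _⟩, fun y => by
      obtain ⟨i, hi⟩ := Subgroup.mem_zpowers_iff.1 y.2
      exact ⟨i, Subtype.ext (by simpa using hi)⟩⟩⟩
  have heven : (Nat.card C).minFac = 2 := by
    rw [Nat.minFac_eq_two_iff]
    refine dvd_trans ?_ (Subgroup.card_dvd_of_le (cyc_le_cent S n e))
    rw [card_cyc]
    exact dvd_mul_right 2 _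
  have hle := IsCyclic.normalizer_le_centralizer heven hcyc
  have hc := MonoidHom.ker_transferSylow_isComplement' P hle
  set K' := (MonoidHom.transferSylow P hle).ker
  have hodd : Odd (Nat.card K') := by
    rw [← Subgroup.IsComplement'.index_eq_card hc, Nat.odd_iff]
    have := P.not_dvd_index
    omega
  refine ⟨K'.map C.subtype, fun g => ⟨?_, ?_⟩, ?_, ?_⟩
  · rintro ⟨k, hk, rfl⟩
    refine ⟨k.2, ?_⟩
    rw [show C.subtype k = (k : G) from rfl, Subgroup.orderOf_coe]
    exact hodd.of_dvd_nat (by simpa using orderOf_dvd_natCard (⟨k, hk⟩ : K'))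
  · rintro ⟨hg, ho⟩
    refine ⟨⟨g, hg⟩, ?_, rfl⟩
    rw [SetLike.mem_coe, MonoidHom.mem_ker]
    have h1 : orderOf (MonoidHom.transferSylow P hle ⟨g, hg⟩) ∣ orderOf g := by
      rw [← Subgroup.orderOf_mk g hg]
      exact orderOf_map_dvd _ _
    rw [← orderOf_eq_one_iff]
    obtain ⟨j, hj⟩ := IsPGroup.iff_orderOf.1 P.isPGroup' (MonoidHom.transferSylow P hle ⟨g, hg⟩)
    rw [hj]
    rcases Nat.eq_zero_or_pos j with h0 | h0
    · rw [h0, pow_zero]
    · exfalso
      rw [hj] at h1
      have := (dvd_pow_self 2 h0.ne').trans h1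
      rw [Nat.odd_iff] at ho
      omega
  · rw [Subgroup.card_map_of_injective C.subtype_injective]
    exact hodd
  · intro c hc'
    obtain ⟨⟨k, u⟩, hku⟩ := hc.2 ⟨c, hc'⟩
    refine ⟨_, ⟨k.1, k.2, rfl⟩, ((u : C) : G), hPA ▸ ⟨u, u.2, rfl⟩, ?_⟩
    simp only at hku
    exact (congrArg Subtype.val hku).symm

theorem cent_index : ((cent S n e).subgroupOf (nor S n e)).index = 2 ∧
    cent S n e ⊔ (S : Subgroup G) = nor S n e := by
  haveI : Fact (Nat.Prime 2) := ⟨Nat.prime_two⟩
  set N := nor S n e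
  let C' : Subgroup N := (cent S n e).subgroupOf N
  let f : N →* MulAut (der S n e) := Subgroup.normalizerMonoidHom (der S n e)
  have hker : f.ker = C' := Subgroup.normalizerMonoidHom_ker _
  haveI : C'.Normal := hker ▸ MonoidHom.normal_ker f
  haveI : IsCyclic (der S n e) := by unfold der; infer_instance
  have h1 : C'.index ∣ 2 ^ (n + 1) := by
    rw [← hker, Subgroup.index_ker]
    refine (Subgroup.card_subgroup_dvd_card f.range).trans ?_
    rw [IsCyclic.card_mulAut, card_der, show half n = 2 ^ (n + 1 + 1) from rfl,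
      Nat.totient_prime_pow_succ Nat.prime_two]
    simp
  let S' : Sylow 2 N := S.subtype (le_nor S n e)
  have hsup : C' ⊔ (S' : Subgroup N) = ⊤ := by
    rw [← Subgroup.index_eq_one]
    obtain ⟨j, -, hj⟩ := (Nat.dvd_prime_pow Nat.prime_two).1
      ((Subgroup.index_dvd_of_le (le_sup_left : C' ≤ C' ⊔ (S' : Subgroup N))).trans h1)
    rcases Nat.eq_zero_or_pos j with h | h
    · rw [hj, h, pow_zero]
    · exfalso
      refine S'.not_dvd_index (((dvd_pow_self 2 h.ne').trans (dvd_of_eq hj.symm)).trans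
        (Subgroup.index_dvd_of_le le_sup_right))
  refine ⟨?_, ?_⟩
  · have h2 : C'.relIndex (S' : Subgroup N) = C'.index := by
      rw [← Subgroup.relIndex_sup_right, sup_comm, hsup, Subgroup.relIndex_top_right]
    rw [← h2]
    show C'.relIndex ((S : Subgroup G).subgroupOf N) = 2
    rw [Subgroup.relIndex_subgroupOf (le_nor S n e), ← Subgroup.inf_relIndex_right, inf_comm,
      inf_cent S n e]
    have h4 : Nat.card (cyc S n e) * (cyc S n e).relIndex (S : Subgroup G) = Nat.card (S : Subgroup G) := by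
      rw [← Nat.card_congr (Subgroup.subgroupOfEquivOfLe (cyc_le S n e)).toEquiv]
      exact ((cyc S n e).subgroupOf (S : Subgroup G)).card_mul_index
    rw [card_cyc, card_sylow S n e] at h4
    have := half_ge n
    nlinarith
  · refine le_antisymm (sup_le (cent_le_nor S n e) (le_nor S n e)) fun g hg => ?_
    have h := congrArg (Subgroup.map N.subtype) hsup
    rw [Subgroup.map_sup] at h
    have hg' : g ∈ Subgroup.map N.subtype (⊤ : Subgroup N) := ⟨⟨g, hg⟩, Subgroup.mem_top _, rfl⟩
    rw [← h] at hg'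
    refine (sup_le_sup ?_ ?_ : _ ≤ cent S n e ⊔ (S : Subgroup G)) hg'
    · rintro _ ⟨x, hx, rfl⟩; exact hx
    · rintro _ ⟨x, hx, rfl⟩; exact hx

end CfsgLib.CharDeep.Quat
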