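import Mathlib
import Cfsg.Agent.Lib.CharDeep.QuatSylow

/-! The trivial-intersection set attached to a generalized quaternion Sylow subgroup. -/

namespace CfsgLib.CharDeep.Quat

open QuaternionGroup

variable {G : Type*} [Group G] [Finite G] (S : Sylow 2 G) (n : ℕ)
  (e : (S : Subgroup G) ≃* QuaternionGroup (2 ^ (n + 2)))

theorem mem_der_of_mem_zpowers {z u : G} (hd : der S n e ≤ Subgroup.zpowers z)
    (hu : u ∈ Subgroup.zpowers z) (hu1 : u ^ half n = 1) : u ∈ der S n e := by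
  have hN : half n ∣ orderOf z := by
    rw [← card_der S n e, ← Nat.card_zpowers]
    exact Subgroup.card_dvd_of_le hd
  obtain ⟨t, ht⟩ := hN
  have hz := orderOf_pos z
  have hh := half_ge n
  have key : ∀ v ∈ Subgroup.zpowers z, v ^ half n = 1 → v ∈ Subgroup.zpowers (z ^ t) := by
    intro v hv hv1
    obtain ⟨i, rfl⟩ := Subgroup.mem_zpowers_iff.1 hv
    rw [← zpow_natCast, ← zpow_mul, ← orderOf_dvd_iff_zpow_eq_one, ht, mul_comm (half n) t] at hv1
    push_cast at hv1
    obtain ⟨j, rfl⟩ := Int.dvd_of_mul_dvd_mul_right (by positivity) hv1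
    exact ⟨j, by show (z ^ t) ^ j = _; rw [← zpow_natCast, ← zpow_mul]⟩
  have hle : der S n e ≤ Subgroup.zpowers (z ^ t) := fun v hv => key v (hd hv) (by
    rw [← card_der S n e]
    exact congrArg Subtype.val (pow_card_eq_one' (x := (⟨v, hv⟩ : der S n e))))
  have hcard : Nat.card (Subgroup.zpowers (z ^ t)) = half n := by
    have ht0 : t ≠ 0 := by rintro rfl; rw [ht, mul_zero] at hz; exact lt_irrefl 0 hz
    rw [Nat.card_zpowers, orderOf_pow' _ ht0, ht, Nat.gcd_mul_left_left,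
      Nat.mul_div_cancel _ (Nat.pos_of_ne_zero ht0)]
  rw [Subgroup.eq_of_le_of_card_ge hle (by rw [hcard, card_der])]
  exact key u hu hu1

theorem conj_mem_cent {g c : G} (hg : g ∈ nor S n e) (hc : c ∈ cent S n e) :
    g * c * g⁻¹ ∈ cent S n e := by
  rw [cent, Subgroup.mem_centralizer_iff]
  intro d hd
  have h1 := Subgroup.mem_centralizer_iff.1 hc _
    ((Subgroup.mem_normalizer_iff''.1 hg d).1 hd)
  calc d * (g * c * g⁻¹) = g * (g⁻¹ * d * g * c) * g⁻¹ := by group
    _ = g * (c * (g⁻¹ * d * g)) * g⁻¹ := by rw [h1]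
    _ = g * c * g⁻¹ * d := by group

/-- A 2-element of `C(D)` is conjugate under `C(D)` into the cyclic maximal subgroup. -/
theorem exists_conj_mem_cyc {w : G} (hw : w ∈ cent S n e) (hw2 : ∃ k, orderOf w = 2 ^ k) :
    ∃ c ∈ cent S n e, c * w * c⁻¹ ∈ cyc S n e := by
  haveI : Fact (Nat.Prime 2) := ⟨Nat.prime_two⟩
  set C := cent S n e
  obtain ⟨P, hP⟩ := ((S.isPGroup'.to_le (cyc_le S n e)).comap_subtype :
    IsPGroup 2 ((cyc S n e).subgroupOf C)).exists_le_sylow
  have hPA : (P : Subgroup C).map C.subtype = cyc S n e := by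
    refine two_subgroup_cent S n e (P.isPGroup'.map _) ?_ (Subgroup.map_subtype_le _)
    intro x hx
    exact ⟨⟨x, cyc_le_cent S n e hx⟩, hP hx, rfl⟩
  obtain ⟨k, hk⟩ := hw2
  have hW : IsPGroup 2 (Subgroup.zpowers (⟨w, hw⟩ : C)) :=
    IsPGroup.of_card (n := k) (by rw [Nat.card_zpowers, Subgroup.orderOf_mk, hk])
  obtain ⟨Q, hQ⟩ := hW.exists_le_sylow
  obtain ⟨c, hc⟩ := MulAction.exists_smul_eq C Q P
  refine ⟨c, c.2, hPA ▸ ⟨c * ⟨w, hw⟩ * c⁻¹, ?_, rfl⟩⟩
  rw [SetLike.mem_coe, ← hc, Sylow.coe_subgroup_smul,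
    Subgroup.mem_pointwise_smul_iff_inv_smul_mem]
  simpa [MulAut.smul_def, mul_assoc] using hQ (Subgroup.mem_zpowers _)

theorem der_le_zpowers {y : G} (hy : y ∈ cent S n e) (ho : half n ∣ orderOf y) :
    der S n e ≤ Subgroup.zpowers y := by
  obtain ⟨t, ht⟩ := ho
  have hh := half_ge n
  have ht0 : t ≠ 0 := by
    rintro rfl
    rw [mul_zero] at ht
    exact (orderOf_pos y).ne' ht
  set w := y ^ t
  have hwo : orderOf w = half n := by
    rw [orderOf_pow' _ ht0, ht, Nat.gcd_mul_left_left, Nat.mul_div_cancel _ (Nat.pos_of_ne_zero ht0)]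
  have hw : w ∈ cent S n e := (cent S n e).pow_mem hy t
  obtain ⟨c, hc, hcw⟩ := exists_conj_mem_cyc S n e hw ⟨n + 2, hwo⟩
  have h1 : c * w * c⁻¹ ∈ der S n e := mem_der_of_mem_zpowers S n e (der_le_cyc S n e) hcw (by
    rw [conj_pow, ← hwo, pow_orderOf_eq_one, mul_one, mul_inv_cancel])
  have h2 : w ∈ der S n e := by
    have h3 := Subgroup.mem_centralizer_iff.1 hc _ h1
    have : c * w * c⁻¹ = w := by
      calc c * w * c⁻¹ = c⁻¹ * (c * (c * w * c⁻¹)) := by group
        _ = c⁻¹ * ((c * w * c⁻¹) * c) := by rw [h3]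
        _ = w := by group
    rwa [this] at h1
  have heq : Subgroup.zpowers w = der S n e := Subgroup.eq_of_le_of_card_ge
    (Subgroup.zpowers_le.2 h2) (by rw [Nat.card_zpowers, hwo, card_der])
  rw [← heq, Subgroup.zpowers_le]
  exact (Subgroup.zpowers y).pow_mem (Subgroup.mem_zpowers y) t

theorem mem_nor_of_conj {g y : G} (hy : y ∈ cent S n e) (ho : half n ∣ orderOf y)
    (hgy : g * y * g⁻¹ ∈ cent S n e) : g ∈ nor S n e := by
  have hord : orderOf (g * y * g⁻¹) = orderOf y := by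
    rw [show g * y * g⁻¹ = MulAut.conj g y from rfl, MulEquiv.orderOf_eq]
  have hle := der_le_zpowers S n e hgy (hord ▸ ho)
  have hmap : (der S n e).map (MulAut.conj g).toMonoidHom ≤ der S n e := by
    rw [der, MonoidHom.map_zpowers, Subgroup.zpowers_le]
    refine mem_der_of_mem_zpowers S n e hle ?_ ?_
    · obtain ⟨i, hi⟩ := Subgroup.mem_zpowers_iff.1
        (der_le_zpowers S n e hy ho (Subgroup.mem_zpowers _))
      refine ⟨i, ?_⟩
      show (g * y * g⁻¹) ^ i = _
      rw [conj_zpow, hi]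
      rfl
    · rw [← map_pow, ← orderOf_xg_sq S n e, pow_orderOf_eq_one, map_one]
  have he : (der S n e).map (MulAut.conj g).toMonoidHom = der S n e :=
    Subgroup.eq_of_le_of_card_ge hmap (by
      rw [Subgroup.card_map_of_injective (MulAut.conj g).injective])
  rw [nor, Subgroup.mem_normalizer_iff]
  intro d
  conv_rhs => rw [← he]
  rw [Subgroup.mem_map_equiv]
  simp [mul_assoc]

/-- The retraction of the normalizer onto the Sylow subgroup. -/
theorem exists_retraction : ∃ π : nor S n e →* QuaternionGroup (2 ^ (n + 2)),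
    (∀ (s : (S : Subgroup G)), π ⟨s, le_nor S n e s.2⟩ = e s) ∧
    (∀ (g : nor S n e) (i : ZMod (2 * 2 ^ (n + 2))), π g = a i → (g : G) ∈ cent S n e) ∧
    Function.Surjective π := by
  obtain ⟨K, hK, hKodd, hKdec⟩ := exists_kernel S n e
  set N := nor S n e
  let K' : Subgroup N := K.subgroupOf N
  haveI : K'.Normal := ⟨fun k hk g => by
    rw [Subgroup.mem_subgroupOf, hK] at hk ⊢
    refine ⟨conj_mem_cent S n e g.2 hk.1, ?_⟩
    have : ((g * k * g⁻¹ : N) : G) = MulAut.conj (g : G) k := rfl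
    rw [this, MulEquiv.orderOf_eq]
    exact hk.2⟩
  let q : (S : Subgroup G) →* N ⧸ K' :=
    (QuotientGroup.mk' K').comp (Subgroup.inclusion (le_nor S n e))
  have hodd1 : ∀ s : (S : Subgroup G), Odd (orderOf (s : G)) → s = 1 := by
    intro s hs
    obtain ⟨j, hj⟩ := IsPGroup.iff_orderOf.1 S.isPGroup' s
    rw [Subgroup.orderOf_coe, hj] at hs
    rcases Nat.eq_zero_or_pos j with h | h
    · rw [← orderOf_eq_one_iff, hj, h, pow_zero]
    · exfalso
      have h2 : 2 ∣ 2 ^ j := dvd_pow_self 2 h.ne'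
      rw [Nat.odd_iff] at hs
      omega
  have hinj : Function.Injective q := by
    rw [injective_iff_map_eq_one]
    intro s hs
    have h1 : (Subgroup.inclusion (le_nor S n e) s : N) ∈ K' := (QuotientGroup.eq_one_iff _).1 hs
    rw [Subgroup.mem_subgroupOf, hK] at h1
    exact hodd1 s h1.2
  have hdec : ∀ g : N, ∃ (k : N) (s : (S : Subgroup G)), k ∈ K' ∧
      g = k * Subgroup.inclusion (le_nor S n e) s ∧
      ((g : G) ∈ cent S n e → (s : G) ∈ cyc S n e) := by
    intro g
    -- `N = C S`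
    have hCn : ((cent S n e).subgroupOf N).Normal :=
      ⟨fun c hc u => conj_mem_cent S n e u.2 hc⟩
    have hg : g ∈ (cent S n e).subgroupOf N ⊔ (S : Subgroup G).subgroupOf N := by
      rw [← Subgroup.subgroupOf_sup (cent_le_nor S n e) (le_nor S n e), (cent_index S n e).2]
      rw [Subgroup.mem_subgroupOf]
      exact g.2
    rw [← SetLike.mem_coe, Subgroup.normal_mul] at hg
    obtain ⟨c, hc, s, hs, rfl⟩ := hg
    obtain ⟨k, hk, u, hu, hku⟩ := hKdec _ hc
    refine ⟨⟨k, cent_le_nor S n e ((hK k).1 hk).1⟩,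
      ⟨u * (s : G), (S : Subgroup G).mul_mem (cyc_le S n e hu) hs⟩, hk, Subtype.ext ?_, fun hcs => ?_⟩
    · show (c : G) * (s : G) = k * (u * s)
      rw [show (c : G) = k * u from hku, mul_assoc]
    · show u * (s : G) ∈ cyc S n e
      refine (cyc S n e).mul_mem hu (inf_cent S n e ▸ Subgroup.mem_inf.2 ⟨hs, ?_⟩)
      have := (cent S n e).mul_mem ((cent S n e).inv_mem hc) hcs
      simpa using this
  have hsurj : Function.Surjective q := by
    intro x
    obtain ⟨g, rfl⟩ := QuotientGroup.mk_surjective x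
    obtain ⟨k, s, hk, hg, -⟩ := hdec g
    refine ⟨s, ?_⟩
    rw [hg, QuotientGroup.mk_mul, (QuotientGroup.eq_one_iff k).2 hk, one_mul]
    rfl
  let E := MulEquiv.ofBijective q ⟨hinj, hsurj⟩
  refine ⟨e.toMonoidHom.comp (E.symm.toMonoidHom.comp (QuotientGroup.mk' K')), ?_, ?_, ?_⟩
  · intro s
    show e (E.symm (q s)) = e s
    rw [show q s = E s from rfl, MulEquiv.symm_apply_apply]
  · intro g i hgi
    obtain ⟨k, s, hk, hg, -⟩ := hdec g
    have hq : E.symm (QuotientGroup.mk g) = s := by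
      rw [MulEquiv.symm_apply_eq, hg, QuotientGroup.mk_mul, (QuotientGroup.eq_one_iff k).2 hk,
        one_mul]
      rfl
    have hes : e s = a i := by
      rw [← hgi]
      show e s = e (E.symm (QuotientGroup.mk g))
      rw [hq]
    have hs : (s : G) ∈ cyc S n e := by
      refine ⟨(i.val : ℤ), ?_⟩
      show xg S n e ^ (i.val : ℤ) = _
      rw [zpow_natCast, xg, ← map_pow, a_one_pow, ZMod.natCast_zmod_val, ← hes, emb_apply_e]
    rw [hg]
    exact (cent S n e).mul_mem ((hK _).1 hk).1 (cyc_le_cent S n e hs)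
  · intro y
    refine ⟨⟨((e.symm y : (S : Subgroup G)) : G), le_nor S n e (e.symm y).2⟩, ?_⟩
    show e (E.symm (q (e.symm y))) = y
    rw [show q (e.symm y) = E (e.symm y) from rfl, MulEquiv.symm_apply_apply,
      MulEquiv.apply_symm_apply]

end CfsgLib.CharDeep.Quat
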