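import Mathlib
import Cfsg.Agent.Lib.CharDeep.QuatTI
import Cfsg.Agent.Lib.Char.Induced
import Cfsg.Agent.Lib.Char.Complete
import Cfsg.Agent.Lib.Char.Linear
import Cfsg.Agent.Lib.Char.Exceptional
import Cfsg.Agent.Lib.Char.Kernel

/-! The Brauer–Suzuki theorem for generalized quaternion Sylow 2-subgroups of order at least 16. -/

namespace CfsgLib.CharDeep.Quat

open QuaternionGroup
open scoped ComplexConjugate commutatorElement
open CfsgLib

section Model

/-- The matrices of the faithful representation of degree two of the dihedral group of order 8. -/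
def d8Mat : DihedralGroup 4 → Matrix (Fin 2) (Fin 2) ℤ
  | .r i => !![0, -1; 1, 0] ^ i.val
  | .sr i => !![1, 0; 0, -1] * !![0, -1; 1, 0] ^ i.val

/-- The sign character. -/
def d8Sign : DihedralGroup 4 → ℤ
  | .r _ => 1
  | .sr _ => -1

/-- The special class function. -/
def d8Fun (x : DihedralGroup 4) : ℤ := 1 + d8Sign x - Matrix.trace (d8Mat x)

theorem d8Mat_mul : ∀ x y, d8Mat (x * y) = d8Mat x * d8Mat y := by decide

theorem d8Mat_one : d8Mat 1 = 1 := by decide

theorem d8Sign_mul : ∀ x y, d8Sign (x * y) = d8Sign x * d8Sign y := by decide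

theorem d8Sign_one : d8Sign 1 = 1 := by decide

theorem d8Fun_one : d8Fun 1 = 0 := by decide

theorem d8Fun_sr : ∀ i, d8Fun (.sr i) = 0 := by decide

theorem d8Fun_r_zero : d8Fun (.r 0) = 0 := by decide

theorem d8Fun_r_two : d8Fun (.r 2) = 4 := by decide

theorem d8Fun_sum : ∑ x, d8Fun x = 8 ∧ ∑ x, d8Fun x * d8Fun x = 24 := by decide

end Model

section Model2

variable (k : ℕ)

/-- The map of the quaternion group onto the dihedral group of order 8. -/
def toD8 : QuaternionGroup (2 ^ (k + 2)) → DihedralGroup 4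
  | a i => .r (ZMod.castHom (show 4 ∣ 2 * 2 ^ (k + 2) from ⟨2 * 2 ^ k, by ring⟩) (ZMod 4) i)
  | xa i => .sr (ZMod.castHom (show 4 ∣ 2 * 2 ^ (k + 2) from ⟨2 * 2 ^ k, by ring⟩) (ZMod 4) i)

theorem toD8_mul : ∀ x y, toD8 k (x * y) = toD8 k x * toD8 k y := by
  have h : ((2 ^ (k + 2) : ℕ) : ZMod 4) = 0 := by
    rw [ZMod.natCast_eq_zero_iff]; exact ⟨2 ^ k, by ring⟩
  rintro (i | i) (j | j) <;>
    simp only [a_mul_a, a_mul_xa, xa_mul_a, xa_mul_xa, toD8, DihedralGroup.r_mul_r,
      DihedralGroup.r_mul_sr, DihedralGroup.sr_mul_r, DihedralGroup.sr_mul_sr, map_add, map_sub,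
      map_natCast, h, zero_add]

/-- `toD8` as a homomorphism. -/
def toD8Hom : QuaternionGroup (2 ^ (k + 2)) →* DihedralGroup 4 := MonoidHom.mk' (toD8 k) (toD8_mul k)

theorem toD8Hom_surjective : Function.Surjective (toD8Hom k) := by
  have hs : Function.Surjective
      (ZMod.castHom (show 4 ∣ 2 * 2 ^ (k + 2) from ⟨2 * 2 ^ k, by ring⟩) (ZMod 4)) :=
    ZMod.ringHom_surjective _
  rintro (i | i)
  · obtain ⟨j, hj⟩ := hs i
    exact ⟨a j, by show toD8 k (a j) = _; simp only [toD8, hj]⟩
  · obtain ⟨j, hj⟩ := hs i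
    exact ⟨xa j, by show toD8 k (xa j) = _; simp only [toD8, hj]⟩

end Model2

/-- Averages along a surjective homomorphism. -/
theorem classInner_comp {H K : Type*} [Group H] [Fintype H] [Group K] [Fintype K] (f : H →* K)
    (hf : Function.Surjective f) (u v : K → ℂ) :
    Cfsg.classInner (fun h => u (f h)) (fun h => v (f h)) = Cfsg.classInner u v := by
  classical
  unfold Cfsg.classInner
  let F : K → ℂ := fun y => u y * conj (v y)
  have hfib : ∀ y : K, (Finset.univ.filter fun h => f h = y).card = Nat.card f.ker := by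
    intro y
    obtain ⟨h0, rfl⟩ := hf y
    rw [Nat.card_eq_fintype_card, ← Finset.card_univ]
    refine (Finset.card_bij (fun (x : f.ker) _ => h0 * x) ?_ ?_ ?_).symm
    · intro x _
      simp [map_mul, MonoidHom.mem_ker.1 x.2]
    · intro x _ y _ h
      exact Subtype.ext (mul_left_cancel h)
    · intro h hh
      exact ⟨⟨h0⁻¹ * h, by simp [MonoidHom.mem_ker, (Finset.mem_filter.1 hh).2]⟩, Finset.mem_univ _, by simp⟩
  have h1 : ∑ h : H, F (f h) = (Nat.card f.ker : ℂ) * ∑ y : K, F y := by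
    rw [← Finset.sum_fiberwise Finset.univ f, Finset.mul_sum]
    refine Finset.sum_congr rfl fun y _ => ?_
    rw [Finset.sum_congr rfl (g := fun _ => F y) (fun h hh => by rw [(Finset.mem_filter.1 hh).2]),
      Finset.sum_const, hfib, nsmul_eq_mul]
  have h2 : Nat.card H = Nat.card f.ker * Nat.card K := by
    rw [← f.ker.card_mul_index, Subgroup.index_ker, MonoidHom.range_eq_top.2 hf, Subgroup.card_top]
  show (Nat.card H : ℂ)⁻¹ * ∑ h : H, F (f h) = (Nat.card K : ℂ)⁻¹ * ∑ y : K, F y
  rw [h1, h2, ← mul_assoc]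
  congr 1
  have : (Nat.card f.ker : ℂ) ≠ 0 := Nat.cast_ne_zero.2 Nat.card_pos.ne'
  push_cast
  field_simp

/-- A generalized character of norm two. -/
theorem exists_norm_two {G : Type*} [Group G] [Fintype G] {θ : G → ℂ}
    (hθ : Cfsg.IsGeneralizedCharacter G θ) (h2 : Cfsg.classInner θ θ = 2) :
    ∃ (a b : Cfsg.IrrCharacter G) (s t : ℤ), a ≠ b ∧ (s = 1 ∨ s = -1) ∧ (t = 1 ∨ t = -1) ∧
      θ = (s : ℂ) • (a : G → ℂ) + (t : ℂ) • (b : G → ℂ) := by
  classical
  choose c hc using fun χ : Cfsg.IrrCharacter G => CharExc.exists_int_classInner hθ χ.2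
  have hcl : Cfsg.IsClassFunction G θ := Char.IsGeneralizedCharacter.isClassFunction hθ
  have hexp := Char.IsClassFunction.eq_sum_classInner hcl
  simp only [hc] at hexp
  have hnorm : ∑ χ, c χ * c χ = 2 := by
    rw [hexp, Char.classInner_sum_smul_sum_smul] at h2
    simp only [map_intCast] at h2
    exact_mod_cast h2
  set T := Finset.univ.filter fun χ : Cfsg.IrrCharacter G => c χ ≠ 0 with hT
  have hsum : ∑ χ ∈ T, c χ * c χ = 2 := by
    rw [← hnorm]
    exact Finset.sum_filter_of_ne (p := fun χ => c χ ≠ 0) fun χ _ h (h0 : c χ = 0) => h (by simp [h0])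
  have hθT : θ = ∑ χ ∈ T, (c χ : ℂ) • (χ : G → ℂ) := by
    conv_lhs => rw [hexp]
    exact (Finset.sum_filter_of_ne (p := fun χ => c χ ≠ 0) fun χ _ h (h0 : c χ = 0) =>
      h (by simp [h0])).symm
  have hle : ∀ χ ∈ T, 1 ≤ c χ * c χ := fun χ hχ => by
    rcases lt_or_gt_of_ne (Finset.mem_filter.1 hχ).2 with h | h <;> nlinarith
  have hsq : ∀ z : ℤ, z * z = 1 → z = 1 ∨ z = -1 := fun z hz => by
    rcases Int.eq_one_or_neg_one_of_mul_eq_one hz with h | h
    · exact Or.inl h
    · exact Or.inr h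
  have hcard : T.card ≤ 2 := by
    have := Finset.card_nsmul_le_sum T _ 1 hle
    rw [hsum] at this
    simp only [smul_eq_mul, mul_one, nsmul_eq_mul] at this
    exact_mod_cast this
  interval_cases hk : T.card
  · simp [Finset.card_eq_zero.1 hk] at hsum
  · obtain ⟨χ, hχ⟩ := Finset.card_eq_one.1 hk
    rw [hχ, Finset.sum_singleton] at hsum
    exfalso
    have h9 : c χ ≤ 1 ∧ -1 ≤ c χ := ⟨by nlinarith, by nlinarith⟩
    obtain ⟨h9, h10⟩ := h9
    interval_cases hcχ : c χ <;> omega
  · obtain ⟨χ, ψ, hne, hT'⟩ := Finset.card_eq_two.1 hk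
    rw [hT', Finset.sum_pair hne] at hsum
    rw [hT', Finset.sum_pair hne] at hθT
    have e1 := hle χ (by simp [hT'])
    have e2 := hle ψ (by simp [hT'])
    exact ⟨χ, ψ, c χ, c ψ, hne, hsq _ (by linarith), hsq _ (by linarith), hθT⟩

variable {G : Type*} [Group G] [Finite G] (S : Sylow 2 G) (n : ℕ)
  (e : (S : Subgroup G) ≃* QuaternionGroup (2 ^ (n + 2)))

/-- The special class function on the normalizer. -/
theorem exists_special [Fintype G] [Fintype (nor S n e)] :
    ∃ φ : nor S n e → ℂ, Cfsg.IsGeneralizedCharacter (nor S n e) φ ∧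
      (∀ y, φ y ≠ 0 → (y : G) ∈ cent S n e ∧ half n ∣ orderOf (y : G)) ∧
      Cfsg.classInner φ φ = 3 ∧ Cfsg.classInner φ (fun _ => 1) = 1 ∧ φ 1 = 0 ∧
      (∀ h : xg S n e ^ 2 ∈ nor S n e, φ ⟨xg S n e ^ 2, h⟩ = 4) ∧
      (∀ y : nor S n e, (y : G) * y = 1 → (y : G) ∈ cent S n e) := by
  obtain ⟨π, hπs, hπa, hπsurj⟩ := exists_retraction S n e
  let ψ : nor S n e →* DihedralGroup 4 := (toD8Hom n).comp π
  have hψ : Function.Surjective ψ := (toD8Hom_surjective n).comp hπsurj
  refine ⟨fun y => (d8Fun (ψ y) : ℂ), ?_, ?_, ?_, ?_, ?_, ?_, ?_⟩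
  · let lam : nor S n e →* ℂˣ :=
      (Units.map (Int.castRingHom ℂ).toMonoidHom).comp
        ((MonoidHom.toHomUnits (⟨⟨d8Sign, d8Sign_one⟩, d8Sign_mul⟩ : DihedralGroup 4 →* ℤ)).comp ψ)
    let M : nor S n e →* Matrix (Fin 2) (Fin 2) ℂ :=
      ((Int.castRingHom ℂ).mapMatrix.toMonoidHom.comp
        (⟨⟨d8Mat, d8Mat_one⟩, d8Mat_mul⟩ : DihedralGroup 4 →* Matrix (Fin 2) (Fin 2) ℤ)).comp ψ
    let ρ : Representation ℂ (nor S n e) (Fin 2 → ℂ) :=
      (Matrix.toLinAlgEquiv' : Matrix (Fin 2) (Fin 2) ℂ ≃ₐ[ℂ] _).toAlgHom.toMonoidHom.comp M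
    have hρ : ρ.character = fun y => ((Matrix.trace (d8Mat (ψ y)) : ℤ) : ℂ) := by
      funext y
      show LinearMap.trace ℂ _ (Matrix.toLin' (M y)) = _
      rw [LinearMap.trace_eq_matrix_trace ℂ (Pi.basisFun ℂ (Fin 2)), LinearMap.toMatrix_eq_toMatrix',
        LinearMap.toMatrix'_toLin']
      show Matrix.trace ((d8Mat (ψ y)).map (Int.castRingHom ℂ)) = _
      simp [Matrix.trace]
    have h : (fun y : nor S n e => (d8Fun (ψ y) : ℂ)) =
        ((1 : nor S n e → ℂ) + fun y => (lam y : ℂ)) - ρ.character := by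
      funext y
      rw [hρ]
      simp only [d8Fun, Pi.sub_apply, Pi.add_apply, Pi.one_apply, lam, MonoidHom.comp_apply]
      push_cast
      rfl
    rw [h]
    exact Char.IsGeneralizedCharacter.sub
      (Char.IsGeneralizedCharacter.add Char.IsGeneralizedCharacter.one
        (Char.IsIrrCharacter.isGeneralizedCharacter (Char.isIrrCharacter_linear lam)))
      (Char.IsCharacter.isGeneralizedCharacter ⟨2, ρ, rfl⟩)
  · intro y hy
    simp only [ne_eq, Int.cast_eq_zero] at hy
    rcases hq : π y with i | i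
    · refine ⟨hπa y i hq, ?_⟩
      rw [Subgroup.orderOf_coe]
      refine dvd_trans ?_ (orderOf_map_dvd π y)
      rw [hq, orderOf_a]
      have hψy : ψ y = .r (ZMod.castHom (show 4 ∣ 2 * 2 ^ (n + 2) from ⟨2 * 2 ^ n, by ring⟩)
          (ZMod 4) i) := by
        show toD8 n (π y) = _
        rw [hq]
        rfl
      have h4 : ¬ 4 ∣ i.val := by
        intro h4
        apply hy
        rw [hψy, show ZMod.castHom (show 4 ∣ 2 * 2 ^ (n + 2) from ⟨2 * 2 ^ n, by ring⟩) (ZMod 4) i = 0 by
          rw [← ZMod.natCast_zmod_val i, map_natCast, ZMod.natCast_eq_zero_iff]; exact h4]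
        exact d8Fun_r_zero
      set d := Nat.gcd (2 * 2 ^ (n + 2)) i.val
      obtain ⟨j, hj, hd⟩ := (Nat.dvd_prime_pow Nat.prime_two).1
        (show d ∣ 2 ^ (n + 3) by
          rw [show 2 ^ (n + 3) = 2 * 2 ^ (n + 2) by ring]; exact Nat.gcd_dvd_left _ _)
      have hd2 : d ∣ 2 := by
        rcases Nat.lt_or_ge j 2 with h | h
        · rw [hd]
          exact (Nat.pow_dvd_pow 2 (by omega : j ≤ 1)).trans (by simp)
        · exfalso
          exact h4 ((show 4 ∣ d by rw [hd]; exact Nat.pow_dvd_pow 2 h).trans (Nat.gcd_dvd_right _ _))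
      obtain ⟨c, hc⟩ := hd2
      rw [Nat.dvd_div_iff_mul_dvd (Nat.gcd_dvd_left _ _)]
      exact ⟨c, by rw [mul_comm d, mul_assoc, ← hc, mul_comm]⟩
    · exfalso
      apply hy
      show d8Fun (toD8 n (π y)) = 0
      rw [hq]
      exact d8Fun_sr _
  · rw [classInner_comp ψ hψ (fun x => (d8Fun x : ℂ)) (fun x => (d8Fun x : ℂ))]
    unfold Cfsg.classInner
    simp only [map_intCast, ← Int.cast_mul, ← Int.cast_sum, d8Fun_sum.2, DihedralGroup.nat_card]
    norm_num
  · refine (classInner_comp ψ hψ (fun x => (d8Fun x : ℂ)) (fun _ => 1)).trans ?_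
    unfold Cfsg.classInner
    simp only [map_one, mul_one, ← Int.cast_sum, d8Fun_sum.1, DihedralGroup.nat_card]
    norm_num
  · simp [d8Fun_one]
  · intro h
    have h1 : π ⟨xg S n e ^ 2, h⟩ = a 2 := by
      have h2 := hπs ⟨xg S n e ^ 2, (S : Subgroup G).pow_mem (xg_mem S n e) 2⟩
      rw [h2, ← e.apply_symm_apply (a 2)]
      refine congrArg e (Subtype.ext ?_)
      show xg S n e ^ 2 = emb S n e (a 2)
      rw [xg, ← map_pow, a_one_pow]
      rfl
    have h2 : ψ ⟨xg S n e ^ 2, h⟩ = .r 2 := by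
      show toD8 n (π _) = _
      rw [h1]
      simp only [toD8]
      rw [map_ofNat]
    simp only [h2, d8Fun_r_two]
    norm_num
  · intro y hy
    rcases hq : π y with i | i
    · exact hπa y i hq
    · exfalso
      have h2 : π y * π y = 1 := by
        rw [← map_mul, show y * y = 1 from Subtype.ext hy, map_one]
      rw [hq] at h2
      have h4 := orderOf_xa (n := 2 ^ (n + 2)) i
      have := Nat.le_of_dvd (by norm_num) (orderOf_dvd_of_pow_eq_one (by rw [sq]; exact h2 :
        (xa i : QuaternionGroup (2 ^ (n + 2))) ^ 2 = 1))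
      omega

include e in
/-- Any involution is conjugate to the involution of `S`. -/
theorem isConj_invo {x : G} (hx : orderOf x = 2) : IsConj x (invo S n e) := by
  haveI : Fact (Nat.Prime 2) := ⟨Nat.prime_two⟩
  have hP : IsPGroup 2 (Subgroup.zpowers x) := IsPGroup.of_card (n := 1) (by rw [Nat.card_zpowers, hx, pow_one])
  obtain ⟨T, hT⟩ := hP.exists_le_sylow
  obtain ⟨g, hg⟩ := MulAction.exists_smul_eq G T S
  rw [isConj_iff]
  refine ⟨g, eq_invo_of_orderOf_two S n e ?_ ?_⟩
  · rw [← hg, Sylow.coe_subgroup_smul, Subgroup.mem_pointwise_smul_iff_inv_smul_mem]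
    simpa [MulAut.smul_def, mul_assoc] using hT (Subgroup.mem_zpowers x)
  · rw [show g * x * g⁻¹ = MulAut.conj g x from rfl, MulEquiv.orderOf_eq, hx]

/-- The two exceptional characters. -/
theorem exists_chars [Fintype G] [Fintype (nor S n e)] :
    ∃ (Φ : G → ℂ) (a b : Cfsg.IrrCharacter G), a ≠ b ∧
      (a : G → ℂ) ≠ (fun _ => 1) ∧ (b : G → ℂ) ≠ (fun _ => 1) ∧
      (a : G → ℂ) 1 = (b : G → ℂ) 1 + 1 ∧
      (∀ g, Φ g = 1 + (b : G → ℂ) g - (a : G → ℂ) g) ∧
      (∀ g, ¬ 4 ∣ orderOf g → Φ g = 0) ∧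
      Φ (xg S n e ^ 2) = 4 ∧
      (a : G → ℂ) (invo S n e) = (a : G → ℂ) 1 ∧ (b : G → ℂ) (invo S n e) = (b : G → ℂ) 1 := by
  classical
  obtain ⟨φ, hgen, hsupp, hn3, hn1, hφ1, hφd, hinvol⟩ := exists_special S n e
  let N : Subgroup G := nor S n e
  set Φ := Cfsg.indFun N φ with hΦ
  have hval : ∀ y : N, φ y ≠ 0 → Φ y = φ y := by
    intro y hy
    obtain ⟨hyc, hyo⟩ := hsupp y hy
    rw [hΦ, Char.indFun_apply]
    have hterm : ∀ x : G, Cfsg.extendByZero N φ (x⁻¹ * y * x) = if x ∈ N then φ y else 0 := by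
      intro x
      split_ifs with hx
      · have h := Char.extendByZero_conj N φ (Char.IsGeneralizedCharacter.isClassFunction hgen)
          (⟨x, hx⟩⁻¹) y
        simp only [InvMemClass.coe_inv, inv_inv] at h
        rw [h, Char.extendByZero_coe]
      · by_cases hm : x⁻¹ * y * x ∈ N
        · rw [Char.extendByZero_apply_mem N φ hm]
          by_contra hne
          apply hx
          have h' := mem_nor_of_conj S n e hyc hyo (g := x⁻¹)
            (by simpa using (hsupp ⟨_, hm⟩ hne).1)
          simpa using N.inv_mem h'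
        · exact Char.extendByZero_of_notMem N φ hm
    simp only [hterm, Finset.sum_ite, Finset.sum_const_zero, add_zero, Finset.sum_const, nsmul_eq_mul]
    rw [show (Finset.univ.filter fun x : G => x ∈ N).card = Nat.card N by
      rw [Nat.card_eq_fintype_card, Fintype.card_subtype],
      ← mul_assoc, inv_mul_cancel₀ (Nat.cast_ne_zero.2 Nat.card_pos.ne'), one_mul]
  have hzero : ∀ g, (∀ x : G, ∀ h : x⁻¹ * g * x ∈ N, φ ⟨_, h⟩ = 0) → Φ g = 0 := by
    intro g hg
    rw [hΦ, Char.indFun_apply, Finset.sum_eq_zero, mul_zero]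
    intro x _
    by_cases h : x⁻¹ * g * x ∈ N
    · rw [Char.extendByZero_apply_mem N φ h, hg x h]
    · exact Char.extendByZero_of_notMem N φ h
  have hfour : ∀ g, ¬ 4 ∣ orderOf g → Φ g = 0 := by
    intro g hg
    refine hzero g fun x h => ?_
    by_contra hne
    apply hg
    have h1 : orderOf (x⁻¹ * g * x) = orderOf g := by
      rw [show x⁻¹ * g * x = MulAut.conj x⁻¹ g by simp, MulEquiv.orderOf_eq]
    rw [← h1]
    exact (show 4 ∣ half n from ⟨2 ^ n, by unfold half; ring⟩).trans (hsupp ⟨_, h⟩ hne).2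
  have hΦgen : Cfsg.IsGeneralizedCharacter G Φ := Char.IsGeneralizedCharacter.indFun N hgen
  have hΦcl := Char.IsGeneralizedCharacter.isClassFunction hΦgen
  have hn : Cfsg.classInner Φ Φ = 3 := by
    rw [hΦ, Char.classInner_indFun N φ _ hΦcl, ← hn3]
    unfold Cfsg.classInner
    congr 1
    refine Finset.sum_congr rfl fun y _ => ?_
    by_cases hy : φ y = 0
    · rw [hy, zero_mul, zero_mul]
    · show φ y * conj (Φ (y : G)) = _
      rw [hval y hy]
  have h1 : Cfsg.classInner Φ (fun _ => 1) = 1 := by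
    rw [hΦ, Char.classInner_indFun N φ _ (fun _ _ => rfl), hn1]
  have h1' : Cfsg.classInner (fun _ : G => (1 : ℂ)) (fun _ => 1) = 1 :=
    Char.classInner_irr_self Char.isIrrCharacter_principal
  have hone : Cfsg.IsGeneralizedCharacter G (fun _ : G => (1 : ℂ)) :=
    Char.IsGeneralizedCharacter.one
  have hθgen := Char.IsGeneralizedCharacter.sub hΦgen hone
  have hθ2 : Cfsg.classInner (Φ - fun _ => 1) (Φ - fun _ => 1) = 2 := by
    rw [Char.classInner_sub_left, Char.classInner_sub_right, Char.classInner_sub_right, hn, h1, h1',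
      ← Char.classInner_conj_symm Φ (fun _ => 1), h1, map_one]
    norm_num
  obtain ⟨u, v, s, t, huv, hs, ht, hθ⟩ := exists_norm_two hθgen hθ2
  obtain ⟨du, hdu, hu1⟩ := Char.IsIrrCharacter.exists_degree u.2
  obtain ⟨dv, hdv, hv1⟩ := Char.IsIrrCharacter.exists_degree v.2
  have hdeg : s * du + t * dv = -1 := by
    have h := congrFun hθ 1
    rw [Pi.sub_apply, hfour 1 (by rw [orderOf_one]; norm_num)] at h
    simp only [Pi.add_apply, Pi.smul_apply, smul_eq_mul, hu1, hv1, zero_sub] at h
    exact_mod_cast h.symm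
  have hprin : ∀ w : Cfsg.IrrCharacter G, (w = u ∨ w = v) → (w : G → ℂ) ≠ fun _ => 1 := by
    intro w hw hw1
    have h := congrArg (fun f => Cfsg.classInner f (fun _ : G => (1 : ℂ))) hθ
    simp only [Char.classInner_sub_left, h1, h1', sub_self, Char.classInner_add_left,
      Char.classInner_smul_left] at h
    have hp : Cfsg.IsIrrCharacter G (fun _ : G => (1 : ℂ)) := Char.isIrrCharacter_principal
    rcases hw with rfl | rfl
    · rw [hw1, h1', Char.classInner_irr_of_ne v.2 hp (fun hh => huv (Subtype.ext (hw1.trans hh.symm)))] at h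
      rcases hs with rfl | rfl <;> simp at h
    · rw [hw1, h1', Char.classInner_irr_of_ne u.2 hp (fun hh => huv (Subtype.ext (hh.trans hw1.symm)))] at h
      rcases ht with rfl | rfl <;> simp at h
  obtain ⟨a, b, hab, hab1, hΦeq, ha, hb⟩ : ∃ a b : Cfsg.IrrCharacter G, a ≠ b ∧
      (a : G → ℂ) 1 = (b : G → ℂ) 1 + 1 ∧ (∀ g, Φ g = 1 + (b : G → ℂ) g - (a : G → ℂ) g) ∧
      (a = u ∨ a = v) ∧ (b = u ∨ b = v) := by
    have hpt : ∀ g, Φ g = 1 + ((s : ℂ) * (u : G → ℂ) g + (t : ℂ) * (v : G → ℂ) g) := by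
      intro g
      have := congrFun hθ g
      simp only [Pi.sub_apply, Pi.add_apply, Pi.smul_apply, smul_eq_mul] at this
      rw [← this]; ring
    rcases hs with rfl | rfl <;> rcases ht with rfl | rfl
    · omega
    · refine ⟨v, u, huv.symm, ?_, fun g => ?_, Or.inr rfl, Or.inl rfl⟩
      · rw [hu1, hv1]
        exact_mod_cast (by omega : (dv : ℕ) = du + 1)
      · rw [hpt]; push_cast; ring
    · refine ⟨u, v, huv, ?_, fun g => ?_, Or.inl rfl, Or.inr rfl⟩
      · rw [hu1, hv1]
        exact_mod_cast (by omega : (du : ℕ) = dv + 1)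
      · rw [hpt]; push_cast; ring
    · omega
  -- no element of the support is a product of two involutions
  have hprod : ∀ x y : G, orderOf x = 2 → orderOf y = 2 → Φ (x * y) = 0 := by
    intro x y hx hy
    refine hzero _ fun u h => ?_
    by_contra hne
    obtain ⟨hc, ho⟩ := hsupp ⟨_, h⟩ hne
    have hxx : x * x = 1 := by rw [← sq, ← hx, pow_orderOf_eq_one]
    have hyy : y * y = 1 := by rw [← sq, ← hy, pow_orderOf_eq_one]
    set w := u⁻¹ * (x * y) * u with hw
    set x' := u⁻¹ * x * u with hx'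
    have hxx' : x' * x' = 1 := by
      calc x' * x' = u⁻¹ * (x * x) * u := by rw [hx']; group
        _ = 1 := by rw [hxx]; group
    have hinv : x' * w * x'⁻¹ = w⁻¹ := by
      rw [inv_eq_of_mul_eq_one_right hxx', eq_inv_iff_mul_eq_one]
      calc x' * w * x' * w = u⁻¹ * (x * x) * (y * (x * x) * y) * u := by rw [hx', hw]; group
        _ = 1 := by rw [hxx]; simp [mul_assoc, hyy]
    have hxN : x' ∈ N := mem_nor_of_conj S n e hc ho (by rw [hinv]; exact (cent S n e).inv_mem hc)
    have hxC := hinvol ⟨x', hxN⟩ hxx'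
    obtain ⟨i, hi⟩ := Subgroup.mem_zpowers_iff.1
      (der_le_zpowers S n e hc ho (Subgroup.mem_zpowers (xg S n e ^ 2)))
    apply sq_inv_ne S n e
    have h3 : x' * xg S n e ^ 2 * x'⁻¹ = (xg S n e ^ 2)⁻¹ := by
      rw [← hi, ← conj_zpow, hinv, inv_zpow]
    rw [← h3, commute_sq_of_mem_cent S n e hxC, mul_inv_cancel_right]
  -- class sums
  have hkey : ∀ χ : Cfsg.IrrCharacter G,
      ∑ x ∈ Finset.univ.filter (fun x : G => orderOf x = 2),
        ∑ y ∈ Finset.univ.filter (fun x : G => orderOf x = 2), (χ : G → ℂ) (x * y) =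
      ((Finset.univ.filter (fun x : G => orderOf x = 2)).card : ℂ) ^ 2 *
        ((χ : G → ℂ) (invo S n e) ^ 2 / (χ : G → ℂ) 1) := by
    rintro ⟨χ, d, ρ, hρ, rfl⟩
    set I := Finset.univ.filter (fun x : G => orderOf x = 2)
    let f : G → ℂ := fun x => if orderOf x = 2 then 1 else 0
    obtain ⟨c, hc, hcd⟩ := Char.exists_scalar_sum_smul ρ f (fun g h => by
      simp only [f]
      rw [show h * g * h⁻¹ = MulAut.conj h g from rfl, MulEquiv.orderOf_eq])
    have hsum : ∑ x ∈ I, ρ x = c • 1 := by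
      rw [← hc, Finset.sum_filter]
      exact Finset.sum_congr rfl fun x _ => by simp only [f, ite_smul, one_smul, zero_smul]
    have hcd' : c * (d : ℂ) = (I.card : ℂ) * ρ.character (invo S n e) := by
      rw [Module.finrank_fin_fun] at hcd
      rw [hcd, ← nsmul_eq_mul, ← Finset.sum_const, Finset.sum_filter]
      refine Finset.sum_congr rfl fun x _ => ?_
      simp only [f, ite_mul, one_mul, zero_mul]
      split_ifs with h
      · exact Char.IsClassFunction.eq_of_isConj (fun a b => ρ.char_conj a b) (isConj_invo S n e h)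
      · rfl
    have hd : (d : ℂ) ≠ 0 := by
      have := Char.finrank_pos_of_irreducible ρ
      rw [Module.finrank_fin_fun] at this
      exact Nat.cast_ne_zero.2 this.ne'
    have h2 : ∑ x ∈ I, ∑ y ∈ I, ρ.character (x * y) = c * c * d := by
      simp only [Representation.character, map_mul, ← map_sum, ← Finset.mul_sum, ← Finset.sum_mul, hsum]
      rw [smul_mul_smul_comm, mul_one, map_smul, LinearMap.trace_one, Module.finrank_fin_fun, smul_eq_mul]
    show ∑ x ∈ I, ∑ y ∈ I, ρ.character (x * y) =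
      (I.card : ℂ) ^ 2 * (ρ.character (invo S n e) ^ 2 / ρ.character 1)
    rw [h2, ρ.char_one, Module.finrank_fin_fun, mul_div_assoc', eq_div_iff hd, ← mul_pow, ← hcd']
    ring
  set I := Finset.univ.filter (fun x : G => orderOf x = 2) with hI
  have hIne : (I.card : ℂ) ≠ 0 := by
    rw [Nat.cast_ne_zero, Finset.card_ne_zero]
    exact ⟨invo S n e, Finset.mem_filter.2 ⟨Finset.mem_univ _, orderOf_invo S n e⟩⟩
  have hzinv : ¬ 4 ∣ orderOf (invo S n e) := by rw [orderOf_invo]; norm_num
  set az := (a : G → ℂ) (invo S n e)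
  set bz := (b : G → ℂ) (invo S n e)
  have haz : az = bz + 1 := by
    have h := hΦeq (invo S n e)
    rw [hfour _ hzinv] at h
    linear_combination h
  have heq : (1 : ℂ) + bz ^ 2 / (b : G → ℂ) 1 - az ^ 2 / (a : G → ℂ) 1 = 0 := by
    have h0 : ∑ x ∈ I, ∑ y ∈ I, Φ (x * y) = 0 := Finset.sum_eq_zero fun x hx =>
      Finset.sum_eq_zero fun y hy =>
        hprod x y (Finset.mem_filter.1 hx).2 (Finset.mem_filter.1 hy).2
    simp only [hΦeq, Finset.sum_sub_distrib, Finset.sum_add_distrib, Finset.sum_const, nsmul_eq_mul,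
      mul_one] at h0
    rw [hI] at h0
    rw [hkey a, hkey b, ← hI] at h0
    refine mul_left_cancel₀ (pow_ne_zero 2 hIne) ?_
    rw [mul_zero, ← h0]
    ring
  have hb0 := Char.IsIrrCharacter.apply_one_ne_zero b.2
  have ha0 := Char.IsIrrCharacter.apply_one_ne_zero a.2
  have hbz : bz = (b : G → ℂ) 1 := by
    rw [haz, hab1] at heq
    rw [hab1] at ha0
    field_simp at heq
    exact sub_eq_zero.1 (pow_eq_zero_iff two_ne_zero |>.1 (show ((bz - (b : G → ℂ) 1)) ^ 2 = 0 by
      linear_combination heq))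
  refine ⟨Φ, a, b, hab, hprin a ha, hprin b hb, hab1, hΦeq, hfour, ?_, ?_, hbz⟩
  · have hm : xg S n e ^ 2 ∈ N := le_nor S n e ((S : Subgroup G).pow_mem (xg_mem S n e) 2)
    have h4 := hφd hm
    rw [← h4]
    exact hval ⟨_, hm⟩ (by rw [h4]; norm_num)
  · show az = _
    rw [haz, hbz, hab1]

include e in
/-- A normal subgroup of even order with non-abelian quotient. -/
theorem exists_normal_even :
    ∃ M : Subgroup G, M.Normal ∧ Even (Nat.card M) ∧ ¬ commutator G ≤ M := by
  cases nonempty_fintype G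
  have := Fintype.ofFinite (nor S n e)
  obtain ⟨Φ, ⟨a, d, ρ, hρ, rfl⟩, b, -, -, -, hab1, -, -, -, haz, -⟩ := exists_chars S n e
  refine ⟨MonoidHom.ker ρ, MonoidHom.normal_ker ρ, ?_, ?_⟩
  · have hmem : invo S n e ∈ MonoidHom.ker ρ := by
      rw [MonoidHom.mem_ker]
      refine (Char.character_eq_degree_iff ρ _).1 ?_
      rw [show ρ.character (invo S n e) = ρ.character 1 from haz, ρ.char_one]
    rw [even_iff_two_dvd, ← orderOf_invo S n e, ← Subgroup.orderOf_mk _ hmem]
    exact orderOf_dvd_natCard _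
  · intro hle
    have hscal : ∀ g, ∃ c : ℂ, ρ g = c • (1 : Module.End ℂ (Fin d → ℂ)) := fun g =>
      Char.exists_scalar_of_commute ρ (ρ g) fun h => by
        have hc : ⁅g, h⁆ ∈ MonoidHom.ker ρ :=
          hle (by rw [commutator_def]; exact Subgroup.commutator_mem_commutator (Subgroup.mem_top _) (Subgroup.mem_top _))
        rw [MonoidHom.mem_ker] at hc
        rw [← map_mul, ← map_mul, show g * h = ⁅g, h⁆ * (h * g) by simp [commutatorElement_def, mul_assoc],
          map_mul, hc, one_mul]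
    have := CharKernel.nontrivial_of_irreducible ρ
    obtain ⟨v, hv⟩ := exists_ne (0 : Fin d → ℂ)
    rcases CharKernel.eq_bot_or_eq_top ρ (ℂ ∙ v) (fun g w hw => by
      obtain ⟨c, hc⟩ := hscal g
      rw [hc, LinearMap.smul_apply, Module.End.one_apply]
      exact Submodule.smul_mem _ c hw) with h | h
    · exact hv (Submodule.span_singleton_eq_bot.1 h)
    · have h1 : Module.finrank ℂ (Fin d → ℂ) = 1 := by
        rw [← finrank_top ℂ (Fin d → ℂ), ← h, finrank_span_singleton hv]
      rw [Module.finrank_fin_fun] at h1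
      subst h1
      obtain ⟨db, hdb, hb1⟩ := Char.IsIrrCharacter.exists_degree b.2
      simp only [Representation.char_one, Module.finrank_fin_fun, hb1] at hab1
      have : (1 : ℕ) = db + 1 := by exact_mod_cast hab1
      omega

include e in
/-- The subgroup generated by the involutions has cyclic Sylow 2-subgroups. -/
theorem involutions_cyclic (Q : Sylow 2 ↥(Subgroup.closure {g : G | orderOf g = 2})) : IsCyclic Q := by
  cases nonempty_fintype G
  have := Fintype.ofFinite (nor S n e)
  obtain ⟨Φ, ⟨_, da, ρa, hρa, rfl⟩, ⟨_, db, ρb, hρb, rfl⟩, -, -, -, hab1, hΦ, -, hΦd, haz, hbz⟩ :=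
    exists_chars S n e
  let U : Subgroup G := Subgroup.closure {g : G | orderOf g = 2}
  have hker : ∀ {d : ℕ} (ρ : Representation ℂ G (Fin d → ℂ)),
      ρ.character (invo S n e) = ρ.character 1 → U ≤ MonoidHom.ker ρ := by
    intro d ρ hz
    rw [Subgroup.closure_le]
    intro x hx
    rw [SetLike.mem_coe, MonoidHom.mem_ker]
    refine (Char.character_eq_degree_iff ρ _).1 ?_
    rw [Char.IsClassFunction.eq_of_isConj (fun a b => ρ.char_conj a b) (isConj_invo S n e hx), hz,
      ρ.char_one]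
  have hxU : xg S n e ^ 2 ∉ U := by
    intro h
    have hA := MonoidHom.mem_ker.1 (hker ρa haz h)
    have hB := MonoidHom.mem_ker.1 (hker ρb hbz h)
    have h4 := hΦ (xg S n e ^ 2)
    rw [hΦd] at h4
    simp only [Representation.character, hA, hB] at h4
    have h5 : ρa.character 1 = ρb.character 1 + 1 := hab1
    simp only [Representation.character, map_one] at h5
    rw [h5] at h4
    norm_num at h4
    exact absurd (show (4 : ℂ) = 0 by linear_combination h4) (by norm_num)
  haveI hUn : U.Normal := by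
    refine ⟨fun u hu g => ?_⟩
    have hsub : U ≤ U.comap (MulAut.conj g).toMonoidHom := by
      rw [Subgroup.closure_le]
      intro x hx
      exact Subgroup.subset_closure (show orderOf (MulAut.conj g x) = 2 by rw [MulEquiv.orderOf_eq]; exact hx)
    exact hsub hu
  have hcyc : ∀ s ∈ U, s ∈ (S : Subgroup G) → s ∈ cyc S n e := by
    intro s hsU hsS
    rcases mem_cases S n e hsS with h | ⟨c, hc, rfl⟩
    · exact h
    · exfalso
      apply hxU
      have h1 : (c * tg S n e) * (xg S n e * (c * tg S n e)⁻¹ * (xg S n e)⁻¹) ∈ U :=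
        U.mul_mem hsU (hUn.conj_mem _ (U.inv_mem hsU) _)
      have h2 : (c * tg S n e) * (xg S n e * (c * tg S n e)⁻¹ * (xg S n e)⁻¹) =
          (xg S n e ^ 2)⁻¹ := by
        calc (c * tg S n e) * (xg S n e * (c * tg S n e)⁻¹ * (xg S n e)⁻¹)
            = c * (tg S n e * xg S n e * (tg S n e)⁻¹) * c⁻¹ * (xg S n e)⁻¹ := by group
          _ = c * (xg S n e)⁻¹ * c⁻¹ * (xg S n e)⁻¹ := by rw [tg_conj_xg]
          _ = _ := by
            rw [cyc_comm S n e hc ((cyc S n e).inv_mem (Subgroup.mem_zpowers _)), mul_inv_cancel_right,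
              sq, mul_inv_rev]
      rw [h2] at h1
      exact (Subgroup.inv_mem_iff _).1 h1
  haveI : Fact (Nat.Prime 2) := ⟨Nat.prime_two⟩
  obtain ⟨T, hT⟩ := (Q.isPGroup'.map U.subtype).exists_le_sylow
  obtain ⟨g, hg⟩ := MulAction.exists_smul_eq G T S
  have hmap : ∀ q : Q, g * ((q : U) : G) * g⁻¹ ∈ cyc S n e := by
    intro q
    refine hcyc _ (hUn.conj_mem _ (q : U).2 g) ?_
    rw [← hg, Sylow.coe_subgroup_smul, Subgroup.mem_pointwise_smul_iff_inv_smul_mem]
    simpa [MulAut.smul_def, mul_assoc] using hT ⟨(q : U), q.2, rfl⟩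
  haveI : IsCyclic (cyc S n e) := by unfold cyc; infer_instance
  exact isCyclic_of_injective
    ((((MulAut.conj g).toMonoidHom.comp U.subtype).comp (Q : Subgroup U).subtype).codRestrict _ hmap)
    (fun x y h => by
      have := congrArg Subtype.val h
      exact Subtype.ext (Subtype.ext ((MulAut.conj g).injective this)))

include e in
/-- Brauer–Suzuki for order at least 16. -/
theorem center_card (hO : ∀ N : Subgroup G, N.Normal → Odd (Nat.card N) → N = ⊥) :
    Nat.card (Subgroup.center G) = 2 := by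
  haveI : Fact (Nat.Prime 2) := ⟨Nat.prime_two⟩
  set z := invo S n e
  set U := Subgroup.closure {g : G | orderOf g = 2}
  have hzU : z ∈ U := Subgroup.subset_closure (orderOf_invo S n e)
  haveI hUn : U.Normal := by
    refine ⟨fun u hu g => ?_⟩
    have hsub : U ≤ U.comap (MulAut.conj g).toMonoidHom := by
      rw [Subgroup.closure_le]
      intro x hx
      exact Subgroup.subset_closure (show orderOf (MulAut.conj g x) = 2 by rw [MulEquiv.orderOf_eq]; exact hx)
    exact hsub hu
  obtain ⟨Q⟩ : Nonempty (Sylow 2 U) := inferInstance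
  have hQc : IsCyclic Q := involutions_cyclic S n e Q
  have hmin : (Nat.card U).minFac = 2 := by
    rw [Nat.minFac_eq_two_iff, ← orderOf_invo S n e, ← Subgroup.orderOf_mk z hzU]
    exact orderOf_dvd_natCard _
  have hle := IsCyclic.normalizer_le_centralizer hmin hQc
  have hc := MonoidHom.ker_transferSylow_isComplement' Q hle
  set K := (MonoidHom.transferSylow Q hle).ker
  have hKodd : Odd (Nat.card K) := by
    rw [← Subgroup.IsComplement'.index_eq_card hc, Nat.odd_iff]
    have := Q.not_dvd_index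
    omega
  have hKmem : ∀ u : U, u ∈ K ↔ Odd (orderOf u) := by
    intro u
    constructor
    · intro hu
      rw [← Subgroup.orderOf_mk u hu]
      exact hKodd.of_dvd_nat (orderOf_dvd_natCard _)
    · intro ho
      rw [MonoidHom.mem_ker, ← orderOf_eq_one_iff]
      have h1 := orderOf_map_dvd (MonoidHom.transferSylow Q hle) u
      obtain ⟨j, hj⟩ := IsPGroup.iff_orderOf.1 Q.isPGroup' (MonoidHom.transferSylow Q hle u)
      rw [hj] at h1 ⊢
      rcases Nat.eq_zero_or_pos j with h | h
      · rw [h, pow_zero]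
      · exfalso
        have := (dvd_pow_self 2 h.ne').trans h1
        rw [Nat.odd_iff] at ho
        omega
  have hKbot : K.map U.subtype = ⊥ := by
    refine hO _ ⟨?_⟩ (by rw [Subgroup.card_map_of_injective U.subtype_injective]; exact hKodd)
    rintro _ ⟨k, hk, rfl⟩ g
    refine ⟨⟨g * k * g⁻¹, hUn.conj_mem _ k.2 g⟩, ?_, rfl⟩
    rw [SetLike.mem_coe, hKmem] at hk ⊢
    rw [← Subgroup.orderOf_coe] at hk ⊢
    show Odd (orderOf (MulAut.conj g (k : G)))
    rw [MulEquiv.orderOf_eq]
    exact hk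
  rw [Subgroup.map_eq_bot_iff_of_injective _ U.subtype_injective] at hKbot
  rw [hKbot] at hc
  have hQtop : (Q : Subgroup U) = ⊤ := Subgroup.isComplement'_bot_left.1 hc
  -- `U` is a cyclic 2-group generated by its involution
  haveI : IsCyclic U := by
    haveI : IsCyclic (⊤ : Subgroup U) := hQtop ▸ hQc
    exact (Subgroup.topEquiv : (⊤ : Subgroup U) ≃* U).isCyclic.1 inferInstance
  have hinv1 : ∀ x : G, orderOf x = 2 → x = z := by
    intro x hx
    have hxU : x ∈ U := Subgroup.subset_closure hx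
    classical
    cases nonempty_fintype U
    have h := IsCyclic.card_pow_eq_one_le (α := U) (n := 2) (by norm_num)
    by_contra hne
    have h3 : ({1, ⟨x, hxU⟩, ⟨z, hzU⟩} : Finset U).card ≤ 2 := by
      refine le_trans (Finset.card_le_card ?_) h
      intro u hu
      simp only [Finset.mem_filter, Finset.mem_univ, true_and]
      simp only [Finset.mem_insert, Finset.mem_singleton] at hu
      rcases hu with rfl | rfl | rfl
      · simp
      · exact Subtype.ext (by rw [SubgroupClass.coe_pow, Subgroup.coe_one, ← hx, pow_orderOf_eq_one])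
      · exact Subtype.ext (by
          rw [SubgroupClass.coe_pow, Subgroup.coe_one, ← orderOf_invo S n e, pow_orderOf_eq_one])
    rw [Finset.card_insert_of_notMem, Finset.card_pair (fun hh => hne (congrArg Subtype.val hh))] at h3
    · omega
    · simp only [Finset.mem_insert, Finset.mem_singleton, not_or]
      refine ⟨fun hh => ?_, fun hh => ?_⟩
      · rw [show x = 1 from (congrArg Subtype.val hh).symm, orderOf_one] at hx
        exact absurd hx (by norm_num)
      · have := orderOf_invo S n e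
        rw [show invo S n e = 1 from (congrArg Subtype.val hh).symm, orderOf_one] at this
        exact absurd this (by norm_num)
  have hzc : z ∈ Subgroup.center G := by
    rw [Subgroup.mem_center_iff]
    intro g
    have h := hinv1 (g * z * g⁻¹) (by
      rw [show g * z * g⁻¹ = MulAut.conj g z from rfl, MulEquiv.orderOf_eq]; exact orderOf_invo S n e)
    exact mul_inv_eq_iff_eq_mul.1 h
  -- the centre is a 2-group inside `S`
  have hcS : ∀ c ∈ Subgroup.center G, c ∈ Subgroup.zpowers z := by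
    intro c hc
    obtain ⟨j, m, hm, hord⟩ := Nat.exists_eq_two_pow_mul_odd (orderOf_pos c).ne'
    have hodd : Subgroup.zpowers (c ^ 2 ^ j) = ⊥ := by
      refine hO _ ⟨?_⟩ ?_
      · intro u hu g
        have huc : u ∈ Subgroup.center G :=
          (Subgroup.zpowers_le.2 ((Subgroup.center G).pow_mem hc _)) hu
        rw [Subgroup.mem_center_iff.1 huc g, mul_inv_cancel_right]
        exact hu
      · rw [Nat.card_zpowers, orderOf_pow' _ (pow_ne_zero _ two_ne_zero), hord,
          Nat.gcd_mul_right_left, Nat.mul_div_cancel_left _ (pow_pos two_pos _)]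
        exact hm
    rw [Subgroup.zpowers_eq_bot] at hodd
    have hP : IsPGroup 2 (Subgroup.zpowers c) := by
      obtain ⟨i, -, hi⟩ := (Nat.dvd_prime_pow Nat.prime_two).1 (orderOf_dvd_of_pow_eq_one hodd)
      exact IsPGroup.of_card (n := i) (by rw [Nat.card_zpowers, hi])
    obtain ⟨T, hT⟩ := hP.exists_le_sylow
    obtain ⟨g, hg⟩ := MulAction.exists_smul_eq G T S
    have hcS : c ∈ (S : Subgroup G) := by
      rw [← hg, Sylow.coe_subgroup_smul, Subgroup.mem_pointwise_smul_iff_inv_smul_mem]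
      have := hT (Subgroup.mem_zpowers c)
      simpa [MulAut.smul_def, Subgroup.mem_center_iff.1 hc, mul_assoc] using this
    have h2 := sq_eq_one_of_central S n e hcS (fun s _ => (Subgroup.mem_center_iff.1 hc s).symm)
    by_cases h1 : c = 1
    · rw [h1]; exact one_mem _
    · rw [eq_invo_of_orderOf_two S n e hcS (orderOf_eq_prime (by rw [sq]; exact h2) h1)]
      exact Subgroup.mem_zpowers _
  rw [show Subgroup.center G = Subgroup.zpowers z from
    le_antisymm hcS (Subgroup.zpowers_le.2 hzc), Nat.card_zpowers]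
  exact orderOf_invo S n e

end CfsgLib.CharDeep.Quat
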