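import Mathlib
import Cfsg.Agent.S0849
import Cfsg.Agent.Lib.CharDeep.BrauerSuzukiLarge
import Cfsg.Agent.Lib.CharDeep.ClassSum
import Cfsg.Agent.Lib.Fusion.ThompsonTransfer

/-! Perfect groups with an involution centralizer dihedral of order eight. -/

namespace CfsgLib.CharDeep.D8Cent

open CfsgLib
open scoped ComplexConjugate commutatorElement
open DihedralGroup

theorem d8_center : ∀ z : DihedralGroup 4, (∀ y, y * z = z * y) → z = 1 ∨ z = r 2 := by decide

theorem d8_supp : ∀ y : DihedralGroup 4, Quat.d8Fun y ≠ 0 → y = r 2 ∨ y * y = r 2 := by decide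

theorem d8_supp_inv : ∀ y : DihedralGroup 4, Quat.d8Fun y⁻¹ = Quat.d8Fun y := by decide

theorem d8_rot : ∀ i : ℤ, (r 1 : DihedralGroup 4) ^ i * (r 1) ^ i = 1 → (r 1 : DihedralGroup 4) ^ i = 1 ∨
    (r 1 : DihedralGroup 4) ^ i = r 2 := by
  intro i
  simp only [r_one_zpow, r_mul_r, one_def]
  generalize (i : ZMod 4) = j
  revert j
  decide

theorem d8_invol : ∀ y : DihedralGroup 4, y ≠ 1 → Quat.d8Fun y ≠ 2 → y * y = 1 := by decide

theorem d8_pair_sum : ∑ p ∈ (Finset.univ : Finset (DihedralGroup 4 × DihedralGroup 4)).filter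
    (fun p => (p.1 ≠ 1 ∧ p.1 * p.1 = 1) ∧ (p.2 ≠ 1 ∧ p.2 * p.2 = 1)), Quat.d8Fun (p.1 * p.2) = 32 := by
  decide

/-- The arithmetic at the end. -/
theorem order_eq {g : ℕ} (h8 : 8 ∣ g) (hg : 0 < g) {D₁ D₂ : ℤ} (hsum : 1 + D₁ + D₂ = 0)
    (hmod : (8 : ℤ) ∣ D₁ + 10) (heq : (g : ℤ) * (D₁ * D₂ + 4 * D₂ + D₁) = 256 * (D₁ * D₂)) :
    g = 168 ∨ g = 360 := by
  obtain ⟨j, hj⟩ := hmod
  obtain ⟨k, rfl⟩ : ∃ k, j = k + 1 := ⟨j - 1, by ring⟩
  have hD1 : D₁ = 8 * k - 2 := by linarith
  have hD2 : D₂ = 1 - 8 * k := by linarith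
  subst hD1 hD2
  have h1 : (g : ℤ) * k ^ 2 = 8 * ((4 * k - 1) * (8 * k - 1)) := by linarith
  have hk : k ^ 2 ∣ 8 := by
    have hc : IsCoprime (k ^ 2) ((4 * k - 1) * (8 * k - 1)) :=
      IsCoprime.pow_left (IsCoprime.mul_right ⟨4, -1, by ring⟩ ⟨8, -1, by ring⟩)
    exact hc.dvd_of_dvd_mul_right ⟨g, by linarith⟩
  have hk2 : -2 ≤ k ∧ k ≤ 2 := by
    have := Int.le_of_dvd (by norm_num) hk
    constructor <;> nlinarith
  obtain ⟨m, rfl⟩ := h8
  obtain ⟨ha, hb⟩ := hk2
  interval_cases k <;> push_cast at h1 <;> omega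

variable {G : Type*} [Group G] [Fintype G]

/-- The order of such a group. -/
theorem card_eq (hperf : commutator G = ⊤) (t : G) (ht : orderOf t = 2)
    (e : Subgroup.centralizer ({t} : Set G) ≃* DihedralGroup 4) :
    Nat.card G = 168 ∨ Nat.card G = 360 := by
  classical
  haveI : Fact (Nat.Prime 2) := ⟨Nat.prime_two⟩
  let C := Subgroup.centralizer ({t} : Set G)
  have htC : t ∈ C := Subgroup.mem_centralizer_singleton_iff.2 rfl
  have htt : t * t = 1 := by rw [← sq, ← ht, pow_orderOf_eq_one]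
  have ht1 : t ≠ 1 := fun h => by rw [h, orderOf_one] at ht; norm_num at ht
  have hcardC : Nat.card C = 8 := by rw [Nat.card_congr e.toEquiv, DihedralGroup.nat_card]
  -- the central involution
  have hcentre : ∀ z : C, (∀ y : C, y * z = z * y) → z = 1 ∨ e z = r 2 := by
    intro z hz
    rcases d8_center (e z) (fun y => by
      obtain ⟨y, rfl⟩ := e.surjective y
      rw [← map_mul, ← map_mul, hz y]) with h | h
    · exact Or.inl (e.map_eq_one_iff.1 h)
    · exact Or.inr h
  have het : e ⟨t, htC⟩ = r 2 := (hcentre ⟨t, htC⟩ fun y => Subtype.ext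
    (Subgroup.mem_centralizer_singleton_iff.1 y.2)).resolve_left fun h => ht1 (congrArg Subtype.val h)
  have heq_t : ∀ z : C, e z = r 2 → (z : G) = t := fun z hz =>
    congrArg Subtype.val (e.injective (hz.trans het.symm))
  have hCp : IsPGroup 2 C := IsPGroup.of_card (n := 3) hcardC
  obtain ⟨S, hCS⟩ := hCp.exists_le_sylow
  have hSC : (S : Subgroup G) = C := by
    refine le_antisymm ?_ hCS
    haveI : Nontrivial (S : Subgroup G) := ⟨⟨⟨t, hCS htC⟩, 1, fun h => ht1 (congrArg Subtype.val h)⟩⟩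
    obtain ⟨z, hz⟩ := (nontrivial_iff_exists_ne (1 : Subgroup.center (S : Subgroup G))).1
      (S.isPGroup'.center_nontrivial)
    have hzc : ∀ s : (S : Subgroup G), (s : G) * z.1 = z.1 * s := fun s =>
      congrArg Subtype.val (Subgroup.mem_center_iff.1 z.2 s)
    have hzC : (z.1 : G) ∈ C :=
      Subgroup.mem_centralizer_singleton_iff.2 (hzc ⟨t, hCS htC⟩).symm
    have hzt : (z.1 : G) = t := by
      rcases hcentre ⟨_, hzC⟩ (fun y => Subtype.ext (hzc ⟨y, hCS y.2⟩)) with h | h
      · exact absurd (Subtype.ext (Subtype.ext (congrArg Subtype.val h : (z.1 : G) = 1))) hz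
      · exact heq_t _ h
    intro s hs
    rw [Subgroup.mem_centralizer_singleton_iff, ← hzt]
    exact hzc ⟨s, hs⟩
  have hodd : Odd C.index := by
    rw [← hSC, Nat.odd_iff]
    have := S.not_dvd_index
    omega
  -- one class of involutions
  let u : C := e.symm (r 1)
  let Q : Subgroup G := Subgroup.zpowers (u : G)
  have hQC : Q ≤ C := Subgroup.zpowers_le.2 u.2
  have huo : orderOf (u : G) = 4 := by
    rw [Subgroup.orderOf_coe, MulEquiv.orderOf_eq, orderOf_r_one]
  have hQidx : Q.relIndex C = 2 := by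
    have h1 : Nat.card (Q.subgroupOf C) = 4 := by
      rw [Nat.card_congr (Subgroup.subgroupOfEquivOfLe hQC).toEquiv, Nat.card_zpowers, huo]
    have h := (Q.subgroupOf C).card_mul_index
    rw [h1, hcardC] at h
    show (Q.subgroupOf C).index = 2
    omega
  have hQinv : ∀ w ∈ Q, w * w = 1 → w ≠ 1 → w = t := by
    rintro w ⟨i, rfl⟩ hw hw1
    have hval : ((u ^ i : C) : G) = (u : G) ^ i := SubgroupClass.coe_zpow u i
    have h2 : (u ^ i) * (u ^ i) = 1 := Subtype.ext (by rw [Subgroup.coe_mul, hval]; exact hw)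
    have h3 : e (u ^ i) = (r 1 : DihedralGroup 4) ^ i := by rw [map_zpow, e.apply_symm_apply]
    have h4 := congrArg e h2
    rw [map_mul, map_one, h3] at h4
    rcases d8_rot i h4 with h | h
    · exact absurd (show (u : G) ^ i = 1 by rw [← hval, e.map_eq_one_iff.1 (h3.trans h)]; rfl) hw1
    · exact hval.symm.trans (heq_t _ (h3.trans h))
  have hconjC : ∀ x ∈ C, x * x = 1 → x ≠ 1 → IsConj t x := by
    intro x _ hxx hx1
    by_contra hno
    have key : ∀ g : G, g * x * g⁻¹ ∈ Q → IsConj t x := by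
      intro g hg
      have h := hQinv _ hg (by
        calc g * x * g⁻¹ * (g * x * g⁻¹) = g * (x * x) * g⁻¹ := by group
          _ = 1 := by rw [hxx]; group) (fun h => hx1 (by
        calc x = g⁻¹ * (g * x * g⁻¹) * g := by group
          _ = 1 := by rw [h]; group))
      exact (isConj_iff.2 ⟨g, h⟩).symm
    obtain ⟨M, hMn, hMi, hxM⟩ := CfsgLib.ThompsonTransfer.exists_normal_index_two C Q hodd hQidx x
      (by rw [sq]; exact hxx) (fun g hg => hno (key g hg))
    haveI : IsCyclic (G ⧸ M) := isCyclic_of_prime_card (p := 2) hMi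
    letI : CommGroup (G ⧸ M) := IsCyclic.commGroup
    have hle : commutator G ≤ M := by
      rw [commutator_def, Subgroup.commutator_le]
      intro a _ b _
      refine (QuotientGroup.eq_one_iff _).1 ?_
      rw [commutatorElement_def]
      simp [mul_comm (a : G ⧸ M)]
    rw [hperf, top_le_iff] at hle
    rw [hle, Subgroup.index_top] at hMi
    norm_num at hMi
  -- the special class function
  let φ : C → ℂ := fun x => (Quat.d8Fun (e x) : ℂ)
  have hφgen : Cfsg.IsGeneralizedCharacter C φ := by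
    let lam : C →* ℂˣ := (Units.map (Int.castRingHom ℂ).toMonoidHom).comp
      ((MonoidHom.toHomUnits (⟨⟨Quat.d8Sign, Quat.d8Sign_one⟩, Quat.d8Sign_mul⟩ :
        DihedralGroup 4 →* ℤ)).comp e.toMonoidHom)
    let M : C →* Matrix (Fin 2) (Fin 2) ℂ :=
      ((Int.castRingHom ℂ).mapMatrix.toMonoidHom.comp
        (⟨⟨Quat.d8Mat, Quat.d8Mat_one⟩, Quat.d8Mat_mul⟩ :
          DihedralGroup 4 →* Matrix (Fin 2) (Fin 2) ℤ)).comp e.toMonoidHom
    let ρ : Representation ℂ C (Fin 2 → ℂ) :=
      (Matrix.toLinAlgEquiv' : Matrix (Fin 2) (Fin 2) ℂ ≃ₐ[ℂ] _).toAlgHom.toMonoidHom.comp M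
    have hρ : ρ.character = fun y => ((Matrix.trace (Quat.d8Mat (e y)) : ℤ) : ℂ) := by
      funext y
      show LinearMap.trace ℂ _ (Matrix.toLin' (M y)) = _
      rw [LinearMap.trace_eq_matrix_trace ℂ (Pi.basisFun ℂ (Fin 2)), LinearMap.toMatrix_eq_toMatrix',
        LinearMap.toMatrix'_toLin']
      show Matrix.trace ((Quat.d8Mat (e y)).map (Int.castRingHom ℂ)) = _
      simp [Matrix.trace]
    have h : φ = ((1 : C → ℂ) + fun y => (lam y : ℂ)) - ρ.character := by
      funext y
      rw [hρ]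
      simp only [φ, Quat.d8Fun, Pi.sub_apply, Pi.add_apply, Pi.one_apply, lam, MonoidHom.comp_apply]
      push_cast
      rfl
    rw [h]
    exact Char.IsGeneralizedCharacter.sub
      (Char.IsGeneralizedCharacter.add Char.IsGeneralizedCharacter.one
        (Char.IsIrrCharacter.isGeneralizedCharacter (Char.isIrrCharacter_linear lam)))
      (Char.IsCharacter.isGeneralizedCharacter ⟨2, ρ, rfl⟩)
  have hφcl := Char.IsGeneralizedCharacter.isClassFunction hφgen
  let T : Set G := {x | ∃ h : x ∈ C, φ ⟨x, h⟩ ≠ 0}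
  have hTC : T ⊆ C := fun x hx => hx.1
  have hTt : ∀ x ∈ T, x = t ∨ x * x = t := by
    rintro x ⟨hx, hne⟩
    rcases d8_supp (e ⟨x, hx⟩) (fun h0 => hne (by show (Quat.d8Fun _ : ℂ) = 0; rw [h0, Int.cast_zero])) with h | h
    · exact Or.inl (heq_t _ h)
    · exact Or.inr (heq_t (⟨x, hx⟩ * ⟨x, hx⟩) (by rw [map_mul, h]))
  have hTI : ∀ g : G, g ∉ C → ∀ s ∈ T, g * s * g⁻¹ ∉ T := by
    intro g hg s hs hgs
    apply hg
    rw [Subgroup.mem_centralizer_singleton_iff]
    suffices h : g * t * g⁻¹ = t by exact mul_inv_eq_iff_eq_mul.1 h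
    have hsq : g * s * g⁻¹ * (g * s * g⁻¹) = g * (s * s) * g⁻¹ := by group
    rcases hTt s hs with rfl | h <;> rcases hTt _ hgs with h' | h'
    · exact h'
    · rw [hsq, htt, mul_one, mul_inv_cancel] at h'
      exact absurd h'.symm ht1
    · have h2 : g * (s * s) * g⁻¹ = 1 := by rw [← hsq, h', htt]
      rw [h] at h2
      exact absurd (by calc t = g⁻¹ * (g * t * g⁻¹) * g := by group
                        _ = 1 := by rw [h2]; group) ht1
    · rw [hsq, h] at h'
      exact h'
  have hTinv : ∀ s ∈ T, s⁻¹ ∈ T := by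
    rintro s ⟨hs, hne⟩
    refine ⟨C.inv_mem hs, ?_⟩
    show (Quat.d8Fun (e (⟨s, hs⟩⁻¹ : C)) : ℂ) ≠ 0
    rw [map_inv, d8_supp_inv]
    exact hne
  have hCT : ∀ h ∈ C, ∀ s ∈ T, h * s * h⁻¹ ∈ T := by
    rintro h hh s ⟨hs, hne⟩
    refine ⟨C.mul_mem (C.mul_mem hh hs) (C.inv_mem hh), ?_⟩
    show φ (⟨h, hh⟩ * ⟨s, hs⟩ * (⟨h, hh⟩ : C)⁻¹) ≠ 0
    rw [hφcl]
    exact hne
  -- the induced function
  set Φ := Cfsg.indFun C φ with hΦdef
  have hΦgen : Cfsg.IsGeneralizedCharacter G Φ := Char.IsGeneralizedCharacter.indFun C hφgen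
  have hΦcl := Char.IsGeneralizedCharacter.isClassFunction hΦgen
  have hval : ∀ y : C, φ y ≠ 0 → Φ y = φ y := by
    intro y hy
    rw [hΦdef, Char.indFun_apply]
    have hterm : ∀ x : G, Cfsg.extendByZero C φ (x⁻¹ * y * x) = if x ∈ C then φ y else 0 := by
      intro x
      split_ifs with hx
      · have h := Char.extendByZero_conj C φ hφcl (⟨x, hx⟩⁻¹) y
        simp only [InvMemClass.coe_inv, inv_inv] at h
        rw [h, Char.extendByZero_coe]
      · by_cases hm : x⁻¹ * y * x ∈ C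
        · rw [Char.extendByZero_apply_mem C φ hm]
          by_contra hne
          exact hTI x⁻¹ (fun h => hx (by simpa using C.inv_mem h)) y ⟨y.2, hy⟩
            (by rw [inv_inv]; exact ⟨hm, hne⟩)
        · exact Char.extendByZero_of_notMem C φ hm
    simp only [hterm, Finset.sum_ite, Finset.sum_const_zero, add_zero, Finset.sum_const, nsmul_eq_mul]
    rw [show (Finset.univ.filter fun x : G => x ∈ C).card = Nat.card C by
      rw [Nat.card_eq_fintype_card, Fintype.card_subtype],
      ← mul_assoc, inv_mul_cancel₀ (Nat.cast_ne_zero.2 Nat.card_pos.ne'), one_mul]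
  have hsumC : ∀ f : DihedralGroup 4 → ℤ, ∑ x : C, (f (e x) : ℂ) = ((∑ y, f y : ℤ) : ℂ) := by
    intro f
    rw [Int.cast_sum]
    exact Fintype.sum_equiv e.toEquiv _ _ fun x => rfl
  have hn3 : Cfsg.classInner Φ Φ = 3 := by
    rw [hΦdef, Char.classInner_indFun C φ _ hΦcl]
    unfold Cfsg.classInner
    rw [Finset.sum_congr rfl (g := fun x => ((Quat.d8Fun (e x) * Quat.d8Fun (e x) : ℤ) : ℂ)) (fun x _ => by
      by_cases hx : φ x = 0
      · rw [hx, zero_mul]
        have hx' : Quat.d8Fun (e x) = 0 := by simpa [φ] using hx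
        simp [hx']
      · show φ x * conj (Φ (x : G)) = _
        rw [hval x hx]
        show (Quat.d8Fun (e x) : ℂ) * conj (Quat.d8Fun (e x) : ℂ) = _
        rw [map_intCast, Int.cast_mul]), hsumC (fun y => Quat.d8Fun y * Quat.d8Fun y),
      Quat.d8Fun_sum.2, hcardC]
    norm_num
  have hn1 : Cfsg.classInner Φ (fun _ => 1) = 1 := by
    rw [hΦdef, Char.classInner_indFun C φ _ (fun _ _ => rfl)]
    unfold Cfsg.classInner
    simp only [map_one, mul_one]
    show _ * ∑ x : C, (Quat.d8Fun (e x) : ℂ) = 1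
    rw [hsumC, Quat.d8Fun_sum.1, hcardC]
    norm_num
  have hΦ1 : Φ 1 = 0 := by
    rw [hΦdef, Char.indFun_apply_one]
    show _ * (Quat.d8Fun (e 1) : ℂ) = 0
    rw [map_one, Quat.d8Fun_one, Int.cast_zero, mul_zero]
  have hφt : φ ⟨t, htC⟩ = 4 := by
    show (Quat.d8Fun (e ⟨t, htC⟩) : ℂ) = 4
    rw [het, Quat.d8Fun_r_two]
    norm_num
  have hΦt : Φ t = 4 := (hval ⟨t, htC⟩ (by rw [hφt]; norm_num)).trans hφt
  have h1' : Cfsg.classInner (fun _ : G => (1 : ℂ)) (fun _ => 1) = 1 :=
    Char.classInner_irr_self Char.isIrrCharacter_principal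
  have hθ2 : Cfsg.classInner (Φ - fun _ => 1) (Φ - fun _ => 1) = 2 := by
    rw [Char.classInner_sub_left, Char.classInner_sub_right, Char.classInner_sub_right, hn3, hn1, h1',
      ← Char.classInner_conj_symm Φ (fun _ => 1), hn1, map_one]
    norm_num
  obtain ⟨a, b, s₁, s₂, hab, hs₁, hs₂, hθ⟩ := Quat.exists_norm_two
    (Char.IsGeneralizedCharacter.sub hΦgen (Char.IsGeneralizedCharacter.one (G := G))) hθ2
  have hΦeq : ∀ g, Φ g = 1 + (s₁ : ℂ) * (a : G → ℂ) g + (s₂ : ℂ) * (b : G → ℂ) g := by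
    intro g
    have h := congrFun hθ g
    simp only [Pi.sub_apply, Pi.one_apply, Pi.add_apply, Pi.smul_apply, smul_eq_mul] at h
    linear_combination h
  -- neither is principal
  let P : Cfsg.IrrCharacter G := Char.principalIrr
  have hzero : Cfsg.classInner ((s₁ : ℂ) • (a : G → ℂ) + (s₂ : ℂ) • (b : G → ℂ)) (P : G → ℂ) = 0 := by
    rw [← hθ, Char.classInner_sub_left]
    show Cfsg.classInner Φ (fun _ => 1) - Cfsg.classInner (fun _ : G => (1 : ℂ)) (fun _ => 1) = 0
    rw [hn1, h1', sub_self]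
  rw [Char.classInner_add_left, Char.classInner_smul_left, Char.classInner_smul_left,
    Char.classInner_irrCharacter, Char.classInner_irrCharacter] at hzero
  have hsne : ∀ {z : ℤ}, z = 1 ∨ z = -1 → (z : ℂ) ≠ 0 := by
    rintro z (rfl | rfl) <;> norm_num
  have haP : a ≠ P := fun h => hsne hs₁ (by
    rw [if_pos h, if_neg (fun h' => hab (h.trans h'.symm))] at hzero; simpa using hzero)
  have hbP : b ≠ P := fun h => hsne hs₂ (by
    rw [if_pos h, if_neg (fun h' => hab (h'.trans h.symm))] at hzero; simpa using hzero)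
  -- values at the involution
  have hint : ∀ χ : Cfsg.IrrCharacter G, ∃ z : ℤ, (χ : G → ℂ) t = z := by
    rintro ⟨_, d, ρ, hρ, rfl⟩
    obtain ⟨μ, hμ, -, -, hpow⟩ := Char.exists_eigenvalues ρ t
    have h : ∀ i, ∃ z : ℤ, μ i = z := fun i => by
      have := hμ i
      rw [ht] at this
      rcases sq_eq_one_iff.1 this with h | h
      · exact ⟨1, by simp [h]⟩
      · exact ⟨-1, by simp [h]⟩
    choose z hz using h
    refine ⟨∑ i, z i, ?_⟩
    have := hpow 1
    simp only [pow_one] at this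
    show ρ.character t = _
    rw [this, Int.cast_sum]
    exact Finset.sum_congr rfl fun i _ => hz i
  choose va hva using hint
  have hcong : ∀ (χ : Cfsg.IrrCharacter G) (s : ℤ) (d : ℕ), (χ : G → ℂ) 1 = d →
      Cfsg.classInner Φ (χ : G → ℂ) = (s : ℂ) → (8 : ℤ) ∣ (d : ℤ) + 3 * va χ + 4 * s := by
    intro χ s d hd hs
    have hclχ := Char.IsIrrCharacter.isClassFunction χ.2
    rw [hΦdef, Char.classInner_indFun C φ _ hclχ] at hs
    have hs' := congrArg conj hs
    rw [Char.classInner_conj_symm, map_intCast] at hs'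
    obtain ⟨N, hN⟩ := CharExc.exists_int_classInner
      (Char.IsGeneralizedCharacter.restrict (Char.IsIrrCharacter.isGeneralizedCharacter χ.2) C)
      Char.isIrrCharacter_principal
    unfold Cfsg.classInner at hs' hN
    rw [hcardC] at hs' hN
    simp only [map_one, mul_one] at hN
    have hterm : ∀ x : C, (χ : G → ℂ) x * (2 - conj (φ x)) =
        (va χ : ℂ) * (((2 - Quat.d8Fun (e x) : ℤ)) : ℂ) + if x = 1 then 2 * ((d : ℂ) - va χ) else 0 := by
      intro x
      show _ * (2 - conj ((Quat.d8Fun (e x) : ℂ))) = _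
      rw [map_intCast]
      split_ifs with hx
      · subst hx
        rw [map_one, Quat.d8Fun_one, Subgroup.coe_one, hd]
        push_cast
        ring
      · by_cases h2 : Quat.d8Fun (e x) = 2
        · rw [h2]; push_cast; ring
        · have hxx : x * x = 1 := e.injective (by
            rw [map_mul, map_one]
            exact d8_invol _ (fun h => hx (e.map_eq_one_iff.1 h)) h2)
          have hc := hconjC x x.2 (congrArg Subtype.val hxx) (fun h => hx (Subtype.ext h))
          rw [← Char.IsClassFunction.eq_of_isConj hclχ hc, hva]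
          push_cast
          ring
    have hsum := Finset.sum_congr rfl (fun x (_ : x ∈ (Finset.univ : Finset C)) => hterm x)
    simp only [mul_sub, Finset.sum_sub_distrib, ← Finset.sum_mul, Finset.sum_add_distrib,
      ← Finset.mul_sum, Finset.sum_ite_eq', Finset.mem_univ, if_true, hsumC (fun y => 2 - Quat.d8Fun y),
      show (∑ y : DihedralGroup 4, (2 - Quat.d8Fun y)) = 8 by decide] at hsum
    refine ⟨N, ?_⟩
    have : (((d : ℤ) + 3 * va χ + 4 * s : ℤ) : ℂ) = ((8 * N : ℤ) : ℂ) := by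
      push_cast
      linear_combination (-1 / 2 : ℂ) * hsum + 8 * hN - 4 * hs'
    exact_mod_cast this
  have hsa : Cfsg.classInner Φ (a : G → ℂ) = (s₁ : ℂ) := by
    rw [show Φ = (P : G → ℂ) + ((s₁ : ℂ) • (a : G → ℂ) + (s₂ : ℂ) • (b : G → ℂ)) from
      funext fun g => (hΦeq g).trans (add_assoc _ _ _),
      Char.classInner_add_left, Char.classInner_add_left, Char.classInner_smul_left,
      Char.classInner_smul_left, Char.classInner_irrCharacter, Char.classInner_irrCharacter,
      Char.classInner_irrCharacter, if_neg (Ne.symm haP), if_pos rfl, if_neg (Ne.symm hab)]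
    ring
  have hsb : Cfsg.classInner Φ (b : G → ℂ) = (s₂ : ℂ) := by
    rw [show Φ = (P : G → ℂ) + ((s₁ : ℂ) • (a : G → ℂ) + (s₂ : ℂ) • (b : G → ℂ)) from
      funext fun g => (hΦeq g).trans (add_assoc _ _ _),
      Char.classInner_add_left, Char.classInner_add_left, Char.classInner_smul_left,
      Char.classInner_smul_left, Char.classInner_irrCharacter, Char.classInner_irrCharacter,
      Char.classInner_irrCharacter, if_neg (Ne.symm hbP), if_neg hab, if_pos rfl]
    ring
  obtain ⟨da, hda0, hda⟩ := Char.IsIrrCharacter.exists_degree a.2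
  obtain ⟨db, hdb0, hdb⟩ := Char.IsIrrCharacter.exists_degree b.2
  have hb3 : s₁ * va a + s₂ * va b = 3 := by
    have h := hΦeq t
    rw [hΦt, hva, hva] at h
    exact_mod_cast (show ((s₁ * va a + s₂ * va b : ℤ) : ℂ) = 3 by push_cast; linear_combination -h)
  have hb7 : va a ^ 2 + va b ^ 2 ≤ 7 := by
    have h := Char.sum_mul_conj t t
    rw [if_pos (IsConj.refl t), hcardC] at h
    simp only [hva, map_intCast] at h
    have h' : ∑ χ : Cfsg.IrrCharacter G, va χ * va χ = 8 := by exact_mod_cast h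
    have hvP : va P = 1 := by
      have := hva P
      rw [Char.principalIrr_apply] at this
      exact_mod_cast this.symm
    have hsub : ∑ χ ∈ ({P, a, b} : Finset (Cfsg.IrrCharacter G)), va χ * va χ ≤ 8 := by
      rw [← h']
      exact Finset.sum_le_sum_of_subset_of_nonneg (Finset.subset_univ _) fun χ _ _ => mul_self_nonneg _
    rw [Finset.sum_insert (by simp [Ne.symm haP, Ne.symm hbP]), Finset.sum_pair hab, hvP] at hsub
    linarith
  have hD : 1 + s₁ * (da : ℤ) + s₂ * (db : ℤ) = 0 := by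
    have h := hΦeq 1
    rw [hΦ1, hda, hdb] at h
    exact_mod_cast h.symm
  -- the class sum equation
  set I := Finset.univ.filter (IsConj t) with hI
  have hIcard : I.card * 8 = Nat.card G := by
    have h := Char.card_isConj_mul_card_centralizer t
    rw [hcardC, Nat.card_eq_fintype_card, Fintype.card_subtype] at h
    exact h
  have hclass : (I.card : ℂ) * (I.card : ℂ) *
      (1 + (s₁ : ℂ) * ((va a : ℂ) * (va a : ℂ) / (da : ℂ)) +
        (s₂ : ℂ) * ((va b : ℂ) * (va b : ℂ) / (db : ℂ))) = (C.index : ℂ) * 32 := by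
    have h49 := Cfsg.Agent.S0849.result C T hTC hCT hTI hTinv φ hφcl
      (fun x hx => by_contra fun h => hx ⟨x.2, h⟩) t t ht ht
    simp only [finsum_eq_sum_of_fintype, finsum_eq_if, Set.mem_setOf_eq, ← Finset.sum_filter] at h49
    have hfilt : (Finset.univ.filter fun p : G × G => IsConj t p.1 ∧ IsConj t p.2) = I ×ˢ I := by
      ext p
      simp [hI]
    rw [hfilt, Finset.sum_product] at h49
    have hL : ∑ x ∈ I, ∑ y ∈ I, Cfsg.indFun C φ (x * y) = (I.card : ℂ) * (I.card : ℂ) *
        (1 + (s₁ : ℂ) * ((va a : ℂ) * (va a : ℂ) / (da : ℂ)) +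
          (s₂ : ℂ) * ((va b : ℂ) * (va b : ℂ) / (db : ℂ))) := by
      rw [← hΦdef]
      simp only [hΦeq, Finset.sum_add_distrib, ← Finset.mul_sum, Finset.sum_const, nsmul_eq_mul, mul_one]
      rw [hI, ClassSum.sum_char_mul a t t, ClassSum.sum_char_mul b t t, hva, hva, hda, hdb]
      ring
    rw [hL] at h49
    rw [h49]
    congr 1
    rw [Finset.sum_equiv (s := Finset.univ.filter fun p : C × C => IsConj t (p.1 : G) ∧ IsConj t (p.2 : G))
      (t := (Finset.univ : Finset (DihedralGroup 4 × DihedralGroup 4)).filter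
        (fun p => (p.1 ≠ 1 ∧ p.1 * p.1 = 1) ∧ (p.2 ≠ 1 ∧ p.2 * p.2 = 1)))
      (g := fun p => (Quat.d8Fun (p.1 * p.2) : ℂ))
      (e.toEquiv.prodCongr e.toEquiv) ?_ ?_, ← Int.cast_sum, d8_pair_sum]
    · norm_num
    · rintro ⟨x, y⟩
      have hiff : ∀ x : C, IsConj t (x : G) ↔ e x ≠ 1 ∧ e x * e x = 1 := by
        intro x
        constructor
        · intro h
          obtain ⟨g, hg⟩ := isConj_iff.1 h
          refine ⟨fun h1 => ht1 ?_, ?_⟩
          · rw [e.map_eq_one_iff.1 h1, Subgroup.coe_one] at hg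
            calc t = g⁻¹ * (g * t * g⁻¹) * g := by group
              _ = 1 := by rw [hg]; group
          · rw [← map_mul, ← map_one e]
            refine congrArg e (Subtype.ext ?_)
            rw [Subgroup.coe_mul, Subgroup.coe_one, ← hg]
            calc g * t * g⁻¹ * (g * t * g⁻¹) = g * (t * t) * g⁻¹ := by group
              _ = 1 := by rw [htt]; group
        · rintro ⟨h1, h2⟩
          refine hconjC x x.2 ?_ fun h => h1 (by rw [show x = 1 from Subtype.ext h, map_one])
          rw [← map_mul, e.map_eq_one_iff] at h2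
          exact congrArg Subtype.val h2
      simp only [Finset.mem_filter, Finset.mem_univ, true_and, Equiv.prodCongr_apply, Prod.map_apply,
        MulEquiv.toEquiv_eq_coe, EquivLike.coe_coe, hiff]
    · rintro ⟨x, y⟩ -
      show φ (x * y) = (Quat.d8Fun (e x * e y) : ℂ)
      rw [← map_mul]
  have hidx : C.index = I.card := by
    have h := C.card_mul_index
    rw [hcardC] at h
    omega
  have hfin : (Nat.card G : ℤ) * ((s₁ * (da : ℤ)) * (s₂ * (db : ℤ)) +
      (s₁ * va a) * (s₁ * va a) * (s₂ * (db : ℤ)) + (s₂ * va b) * (s₂ * va b) * (s₁ * (da : ℤ))) =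
      256 * ((s₁ * (da : ℤ)) * (s₂ * (db : ℤ))) := by
    have hI0 : (I.card : ℂ) ≠ 0 := by
      have h8 : 0 < I.card * 8 := hIcard ▸ Nat.card_pos
      exact Nat.cast_ne_zero.2 (by omega)
    rw [hidx, mul_assoc] at hclass
    have h := mul_left_cancel₀ hI0 hclass
    have hda' : (da : ℂ) ≠ 0 := Nat.cast_ne_zero.2 hda0.ne'
    have hdb' : (db : ℂ) ≠ 0 := Nat.cast_ne_zero.2 hdb0.ne'
    have hGc : (Nat.card G : ℂ) = (I.card : ℂ) * 8 := by exact_mod_cast hIcard.symm
    field_simp at h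
    rw [← Int.cast_inj (α := ℂ)]
    push_cast
    rw [hGc]
    rcases hs₁ with rfl | rfl <;> rcases hs₂ with rfl | rfl <;> push_cast at h ⊢
    · linear_combination 8 * h
    · linear_combination -8 * h
    · linear_combination -8 * h
    · linear_combination 8 * h
  have h8 : 8 ∣ Nat.card G := ⟨I.card, by omega⟩
  have hmodA : (8 : ℤ) ∣ s₁ * (da : ℤ) + 3 * (s₁ * va a) + 4 := by
    have h := (hcong a s₁ da hda hsa).mul_left s₁
    rcases hs₁ with rfl | rfl <;> refine h.trans (dvd_of_eq ?_) <;> ring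
  have hmodB : (8 : ℤ) ∣ s₂ * (db : ℤ) + 3 * (s₂ * va b) + 4 := by
    have h := (hcong b s₂ db hdb hsb).mul_left s₂
    rcases hs₂ with rfl | rfl <;> refine h.trans (dvd_of_eq ?_) <;> ring
  have hsq : (s₁ * va a) ^ 2 + (s₂ * va b) ^ 2 ≤ 7 := by
    rcases hs₁ with rfl | rfl <;> rcases hs₂ with rfl | rfl <;> simpa using hb7
  generalize s₁ * va a = p at hb3 hsq hmodA hfin
  generalize s₂ * va b = q at hb3 hsq hmodB hfin
  generalize s₁ * (da : ℤ) = A at hD hmodA hfin
  generalize s₂ * (db : ℤ) = B at hD hmodB hfin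
  have hpq : (p = 2 ∧ q = 1) ∨ (p = 1 ∧ q = 2) := by
    have hq : q = 3 - p := by linarith
    subst hq
    have h1 : 1 ≤ p := by nlinarith
    have h2 : p ≤ 2 := by nlinarith
    omega
  rcases hpq with ⟨rfl, rfl⟩ | ⟨rfl, rfl⟩
  · exact order_eq h8 Nat.card_pos hD (by simpa [add_assoc] using hmodA) (by linarith)
  · exact order_eq h8 Nat.card_pos (show 1 + B + A = 0 by linarith) (by simpa [add_assoc] using hmodB)
      (by linarith)

end CfsgLib.CharDeep.D8Cent
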