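import Mathlib
import Cfsg.Agent.Lib.Char.FrobeniusInd
import Cfsg.Agent.Lib.Char.TISet
import Cfsg.Agent.Lib.Char.Clifford
import Cfsg.Agent.Lib.CharDeep.HallComplement
import Cfsg.Agent.Lib.Char.CentralOver
import Cfsg.Prelude.Def_OddOrderChar

/-! Exceptional characters for trivial-intersection subgroups with Frobenius normalizers. -/

namespace CfsgLib.CharDeep.TIF

open CfsgLib
open scoped ComplexConjugate

section Frobenius

variable {N : Type*} [Group N] [Fintype N] (K : Subgroup N) [K.Normal]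

/-- A character is relevant when it is not constant equal to its degree on the kernel. -/
def Rel (χ : N → ℂ) : Prop := ∃ k : N, k ∈ K ∧ χ k ≠ χ 1

theorem apply_of_not_rel {χ : N → ℂ} (h : ¬ Rel K χ) {k : N} (hk : k ∈ K) : χ k = χ 1 := by
  by_contra hne
  exact h ⟨k, hk, hne⟩

variable (hfpf : ∀ g : N, g ∉ K → ∀ k ∈ K, g * k = k * g → k = 1)

include hfpf in
theorem indFun_irr {τ : K → ℂ} (hτ : Cfsg.IsIrrCharacter K τ) (hτ1 : τ ≠ fun _ => 1) :
    Cfsg.IsIrrCharacter N (Cfsg.indFun K τ) :=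
  Char.isIrrCharacter_indFun_of_inertia K τ hτ fun g hg => by
    by_contra hgK
    exact hτ1 (Char.eq_one_of_conjFun_eq K g (fun k hk => hfpf g hgK k hk) τ hτ hg)

variable [Fintype K]

include hfpf in
theorem classInner_res_one {χ : N → ℂ} (hχ : Cfsg.IsIrrCharacter N χ) (hrel : Rel K χ) :
    Cfsg.classInner (fun k : K => χ k) (fun _ => 1) = 0 := by
  by_contra hne
  obtain ⟨k, hk, hkne⟩ := hrel
  apply hkne
  have h := congrFun (CfsgLib.Clifford.res_eq K hχ Char.isIrrCharacter_principal hne)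
  have horb : CfsgLib.Clifford.orbit K (fun _ : K => (1 : ℂ)) = {fun _ => 1} := by
    ext f
    rw [CfsgLib.Clifford.mem_orbit, Finset.mem_singleton]
    exact ⟨fun ⟨g, hg⟩ => hg ▸ rfl, fun hf => ⟨1, by rw [hf]; exact CharTwist.conjFun_one _ _⟩⟩
  have h1 := h ⟨k, hk⟩
  have h2 := h 1
  simp only [horb, Finset.sum_singleton, Pi.smul_apply, Subgroup.coe_one] at h1 h2
  exact h1.trans h2.symm

include hfpf in
theorem exists_eq_indFun {χ : N → ℂ} (hχ : Cfsg.IsIrrCharacter N χ) (hrel : Rel K χ) :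
    ∃ τ : K → ℂ, Cfsg.IsIrrCharacter K τ ∧ τ ≠ (fun _ => 1) ∧ χ = Cfsg.indFun K τ := by
  obtain ⟨τ, hτ, hτc⟩ := CfsgLib.Clifford.exists_constituent_res K hχ
  have hne : τ ≠ fun _ => 1 := fun h => hτc (h ▸ classInner_res_one K hfpf hχ hrel)
  refine ⟨τ, hτ, hne, ?_⟩
  by_contra h
  apply hτc
  rw [← Char.classInner_conj_symm τ, ← Char.classInner_indFun K τ χ
    (Char.IsIrrCharacter.isClassFunction hχ),
    Char.classInner_irr_of_ne (indFun_irr K hfpf hτ hne) hχ (Ne.symm h), map_zero]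

include hfpf in
theorem rel_indFun {τ : K → ℂ} (hτ : Cfsg.IsIrrCharacter K τ) (hτ1 : τ ≠ fun _ => 1) :
    Rel K (Cfsg.indFun K τ) := by
  by_contra h
  have hirr := indFun_irr K hfpf hτ hτ1
  have h1 := Char.classInner_irr_self hirr
  rw [Char.classInner_indFun K τ _ (Char.IsIrrCharacter.isClassFunction hirr),
    show (fun k : K => Cfsg.indFun K τ k) = Cfsg.indFun K τ 1 • (fun _ : K => (1 : ℂ)) from
      funext fun k => by rw [apply_of_not_rel K h k.2]; simp,
    Char.classInner_smul_right, Char.classInner_irr_of_ne hτ Char.isIrrCharacter_principal hτ1,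
    mul_zero] at h1
  exact zero_ne_one h1

include hfpf in
theorem vanish_off {χ : N → ℂ} (hχ : Cfsg.IsIrrCharacter N χ) (hrel : Rel K χ) {x : N} (hx : x ∉ K) :
    χ x = 0 := by
  obtain ⟨τ, -, -, rfl⟩ := exists_eq_indFun K hfpf hχ hrel
  exact Char.indFun_eq_zero_of_normal K τ hx

/-- A function constant on the nontrivial kernel elements has proportional relevant coefficients. -/
theorem classInner_eq_of_const (hfpf : ∀ g : N, g ∉ K → ∀ k ∈ K, g * k = k * g → k = 1) {F : N → ℂ}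
    (a : ℂ) (hF : ∀ k ∈ K, k ≠ 1 → F k = a) {χ : N → ℂ} (hχ : Cfsg.IsIrrCharacter N χ)
    (hrel : Rel K χ) :
    Cfsg.classInner χ F = χ 1 * ((Nat.card N : ℂ)⁻¹ * conj (F 1 - a)) := by
  classical
  have hres := classInner_res_one K hfpf hχ hrel
  unfold Cfsg.classInner at hres ⊢
  have hK : ∑ k : K, χ k = 0 := by
    simpa [Nat.card_pos.ne'] using hres
  have h1 : ∑ g : N, χ g * conj (F g) = ∑ k : K, χ k * conj (F k) := by
    rw [← Finset.sum_subtype (Finset.univ.filter (fun g => g ∈ K)) (p := (· ∈ K)) (fun y => by simp)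
      (fun g => χ g * conj (F g))]
    exact (Finset.sum_filter_of_ne (p := fun g => g ∈ K) fun g _ hg => by
      by_contra hgK
      exact hg (by rw [vanish_off K hfpf hχ hrel hgK, zero_mul])).symm
  have h2 : ∑ k : K, χ k * conj (F k) = χ 1 * conj (F 1 - a) := by
    have h3 : ∀ k : K, χ k * conj (F k) = χ k * conj a + if k = 1 then χ k * conj (F k - a) else 0 := by
      intro k
      split_ifs with hk
      · rw [map_sub]; ring
      · rw [hF k k.2 (fun h => hk (Subtype.ext h)), add_zero]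
    rw [Finset.sum_congr rfl fun k _ => h3 k, Finset.sum_add_distrib, ← Finset.sum_mul, hK, zero_mul,
      zero_add, Finset.sum_ite_eq' Finset.univ (1 : K), if_pos (Finset.mem_univ _), Subgroup.coe_one]
  rw [h1, h2]
  ring

/-- Proportional relevant coefficients make a class function constant on the kernel. -/
theorem const_of_classInner {F : N → ℂ} (hF : Cfsg.IsClassFunction N F)
    (hprop : ∀ χ ξ : N → ℂ, Cfsg.IsIrrCharacter N χ → Rel K χ → Cfsg.IsIrrCharacter N ξ → Rel K ξ →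
      ξ 1 * Cfsg.classInner χ F = χ 1 * Cfsg.classInner ξ F)
    {k k' : N} (hk : k ∈ K) (hk1 : k ≠ 1) (hk' : k' ∈ K) (hk'1 : k' ≠ 1) : F k = F k' := by
  classical
  have hexp := Char.IsClassFunction.eq_sum_classInner hF
  have hdiff : F k - F k' = ∑ φ : Cfsg.IrrCharacter N,
      Cfsg.classInner F φ * ((φ : N → ℂ) k - (φ : N → ℂ) k') := by
    conv_lhs => rw [hexp]
    simp only [Finset.sum_apply, Pi.smul_apply, smul_eq_mul, ← Finset.sum_sub_distrib, mul_sub]
  by_cases hex : ∃ ξ : Cfsg.IrrCharacter N, Rel K (ξ : N → ℂ)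
  · obtain ⟨ξ, hξ⟩ := hex
    obtain ⟨d, hd, hd1⟩ := Char.IsIrrCharacter.exists_degree ξ.2
    have h1 : (ξ : N → ℂ) 1 * (F k - F k') = Cfsg.classInner F ξ *
        ∑ φ : Cfsg.IrrCharacter N, ((φ : N → ℂ) 1 * (φ : N → ℂ) k - (φ : N → ℂ) 1 * (φ : N → ℂ) k') := by
      rw [hdiff, Finset.mul_sum, Finset.mul_sum]
      refine Finset.sum_congr rfl fun φ _ => ?_
      by_cases hφ : Rel K (φ : N → ℂ)
      · obtain ⟨d', -, hd'⟩ := Char.IsIrrCharacter.exists_degree φ.2
        have h := congrArg conj (hprop φ ξ φ.2 hφ ξ.2 hξ)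
        rw [map_mul, map_mul, Char.classInner_conj_symm, Char.classInner_conj_symm, hd1, hd',
          map_natCast, map_natCast] at h
        rw [hd1, hd', ← mul_assoc, h]
        ring
      · rw [apply_of_not_rel K hφ hk, apply_of_not_rel K hφ hk', sub_self, mul_zero, mul_zero,
          sub_self, mul_zero]
    rw [Finset.sum_sub_distrib, Char.sum_apply_one_mul, Char.sum_apply_one_mul, if_neg hk1, if_neg hk'1,
      sub_self, mul_zero] at h1
    exact sub_eq_zero.1 ((mul_eq_zero.1 h1).resolve_left (Char.IsIrrCharacter.apply_one_ne_zero ξ.2))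
  · push Not at hex
    refine sub_eq_zero.1 (hdiff.trans (Finset.sum_eq_zero fun φ _ => ?_))
    rw [apply_of_not_rel K (hex φ) hk, apply_of_not_rel K (hex φ) hk', sub_self, mul_zero]

end Frobenius

section TI

variable {G : Type*} [Group G] [Fintype G] (K : Subgroup G)
  (hC : ∀ k ∈ K, k ≠ 1 → Subgroup.centralizer ({k} : Set G) ≤ K)

theorem normal_subgroupOf_normalizer :
    (K.subgroupOf (Subgroup.normalizer (K : Set G))).Normal :=
  Subgroup.normal_subgroupOf_iff_le_normalizer Subgroup.le_normalizer |>.2 le_rfl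

include hC in
omit [Fintype G] in
theorem fpf : ∀ g : Subgroup.normalizer (K : Set G), g ∉ K.subgroupOf (Subgroup.normalizer (K : Set G)) →
    ∀ k ∈ K.subgroupOf (Subgroup.normalizer (K : Set G)), g * k = k * g → k = 1 := by
  intro g hg k hk hcomm
  by_contra hk1
  exact hg (hC k hk (fun h => hk1 (Subtype.ext h))
    (Subgroup.mem_centralizer_singleton_iff.2 (congrArg Subtype.val hcomm)))

variable [Fintype (Subgroup.normalizer (K : Set G))]

/-- The basic supported combination. -/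
noncomputable def comb (dχ dξ : ℕ) (χ ξ : Subgroup.normalizer (K : Set G) → ℂ) :
    Subgroup.normalizer (K : Set G) → ℂ := (dξ : ℤ) • χ + (-(dχ : ℤ)) • ξ

omit [Fintype G] [Fintype (Subgroup.normalizer (K : Set G))] in
theorem comb_apply (dχ dξ : ℕ) (χ ξ : Subgroup.normalizer (K : Set G) → ℂ)
    (x : Subgroup.normalizer (K : Set G)) :
    comb K dχ dξ χ ξ x = (dξ : ℂ) * χ x - (dχ : ℂ) * ξ x := by
  simp [comb, zsmul_eq_mul]
  ring

include hC in
theorem comb_props {χ ξ : Subgroup.normalizer (K : Set G) → ℂ} {dχ dξ : ℕ}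
    (hχ : Cfsg.IsIrrCharacter _ χ) (hχS : Rel (K.subgroupOf _) χ) (hχ1 : χ 1 = dχ)
    (hξ : Cfsg.IsIrrCharacter _ ξ) (hξS : Rel (K.subgroupOf _) ξ) (hξ1 : ξ 1 = dξ) :
    comb K dχ dξ χ ξ 1 = 0 ∧
      (∀ x : Subgroup.normalizer (K : Set G), (x : G) ∉ K → comb K dχ dξ χ ξ x = 0) ∧
      Cfsg.IsClassFunction _ (comb K dχ dξ χ ξ) := by
  classical
  haveI := normal_subgroupOf_normalizer K
  refine ⟨?_, fun x hx => ?_, fun x y => ?_⟩
  · rw [comb_apply, hχ1, hξ1]; ring
  · rw [comb_apply, vanish_off _ (fpf K hC) hχ hχS hx, vanish_off _ (fpf K hC) hξ hξS hx]; ring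
  · simp only [comb_apply, Char.IsIrrCharacter.isClassFunction hχ x y,
      Char.IsIrrCharacter.isClassFunction hξ x y]

variable {S : Set (Subgroup.normalizer (K : Set G) → ℂ)}
  {st : (Subgroup.normalizer (K : Set G) → ℂ) → (G → ℂ)}

/-- The value of the extending map on the basic combination. -/
theorem star_comb (hst : Cfsg.IsLinearIsometryOn (Cfsg.zspan S) st)
    (hext : ∀ α ∈ Cfsg.zspanOn S ({1}ᶜ : Set (Subgroup.normalizer (K : Set G))),
      st α = Cfsg.indFun (Subgroup.normalizer (K : Set G)) α)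
    {χ ξ : Subgroup.normalizer (K : Set G) → ℂ} {dχ dξ : ℕ} (hχ : χ ∈ S) (hξ : ξ ∈ S)
    (h1 : comb K dχ dξ χ ξ 1 = 0) :
    Cfsg.indFun (Subgroup.normalizer (K : Set G)) (comb K dχ dξ χ ξ) =
      fun g => (dξ : ℂ) * st χ g - (dχ : ℂ) * st ξ g := by
  have hm : ∀ {θ}, θ ∈ S → θ ∈ Cfsg.zspan S := fun h => Submodule.subset_span h
  have hz : ∀ (n : ℤ) {θ}, θ ∈ S → n • θ ∈ Cfsg.zspan S := fun n θ h => Submodule.smul_mem _ n (hm h)
  have hmem : comb K dχ dξ χ ξ ∈ Cfsg.zspanOn S ({1}ᶜ : Set (Subgroup.normalizer (K : Set G))) :=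
    ⟨Submodule.add_mem _ (hz _ hχ) (hz _ hξ), fun x hx => by
      simp only [Set.mem_compl_iff, Set.mem_singleton_iff, not_not] at hx
      rw [hx, h1]⟩
  rw [← hext _ hmem]
  obtain ⟨hadd, hsmul, -, -⟩ := hst
  funext g
  rw [comb, hadd _ (hz _ hχ) _ (hz _ hξ), hsmul _ (hm hχ), hsmul _ (hm hξ)]
  simp [zsmul_eq_mul]
  ring

/-- A member goes to a signed irreducible character. -/
theorem star_irr (hst : Cfsg.IsLinearIsometryOn (Cfsg.zspan S) st) {χ} (hχ : χ ∈ S)
    (hirr : Cfsg.IsIrrCharacter (Subgroup.normalizer (K : Set G)) χ) :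
    Cfsg.IsIrrCharacter G (st χ) ∨ Cfsg.IsIrrCharacter G (-st χ) := by
  obtain ⟨-, -, hinner, hgen⟩ := hst
  have hm : χ ∈ Cfsg.zspan S := Submodule.subset_span hχ
  have h1 : Cfsg.classInner (st χ) (st χ) = 1 := by
    rw [hinner χ hm χ hm, Char.classInner_irr_self hirr]
  obtain ⟨z, hz⟩ := Char.IsGeneralizedCharacter.exists_int_apply_one (hgen χ hm)
  rcases le_or_gt 0 z with h | h
  · exact Or.inl (HallCompl.isIrr_of_norm_one (hgen χ hm) h1 (d := z.toNat) (by
      rw [hz, ← Int.cast_natCast, Int.toNat_of_nonneg h]))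
  · refine Or.inr (HallCompl.isIrr_of_norm_one (Char.IsGeneralizedCharacter.neg (hgen χ hm)) ?_
      (d := (-z).toNat) ?_)
    · rw [Char.classInner_neg_left, Char.classInner_neg_right, neg_neg, h1]
    · rw [Pi.neg_apply, hz, ← Int.cast_natCast, Int.toNat_of_nonneg (by omega : 0 ≤ -z), Int.cast_neg]

end TI

end CfsgLib.CharDeep.TIF
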